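import Cfsg.Agent.NineTwoQSelf.Setup
import Cfsg.Agent.Blocks.PrincipalSimple
import Cfsg.Agent.NineTwoQ.TwoBound

/-!
# A real element of order three, and linking
-/

set_option autoImplicit false
set_option linter.style.haveILetI false
set_option linter.unusedSectionVars false

namespace CfsgLib.NineTwoQSelf

open Subgroup CfsgLib.SolvSig

universe u

variable {G : Type u} [Group G] [Finite G] [IsSimpleGroup G]

namespace Ctx

variable (c : Ctx G)
include c

/-- An element of order three inverted by an involution. -/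
theorem exists_real : ∃ k : G, orderOf k = 3 ∧ Nat.card (centralizer ({k} : Set G)) = 9 ∧
    IsConj k k⁻¹ := by
  classical
  haveI : Fintype G := Fintype.ofFinite G
  haveI : Fact c.q.Prime := ⟨c.hq⟩
  haveI : Fact (Nat.Prime 2) := ⟨Nat.prime_two⟩
  set R : Subgroup G := (c.R : Subgroup G)
  set N := normalizer (R : Set G) with hN
  obtain ⟨k, hk, hk1⟩ := (bot_or_exists_ne_one R).resolve_left fun h => by
    have := c.card_R
    change Nat.card R = 9 at this
    rw [h, card_bot] at this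
    norm_num at this
  have hk3 : orderOf k = 3 := orderOf_eq_prime (c.exp3 k hk) hk1
  refine ⟨k, hk3, by rw [c.cent k hk hk1]; exact c.card_R, ?_⟩
  -- an element of the normaliser outside `R`
  have hperf : commutator G = ⊤ := NineTwoQ.commutator_eq_top c.hG
  obtain ⟨n, hn, hnR⟩ : ∃ n ∈ N, n ∉ R := by
    by_contra! hall
    exact hk1 (c.toNine.eq_one_of_fixed hperf hk fun n hn =>
      mul_inv_eq_iff_eq_mul.2 (c.comm_R (hall n hn) hk))
  -- the normaliser has even order
  have heven : 2 ∣ Nat.card N := by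
    by_contra h2
    have hno : orderOf n ∣ Nat.card N := N.orderOf_dvd_natCard hn
    have hdvd : orderOf n ∣ 9 * c.q ^ c.b := by
      have h1 : orderOf n ∣ 2 ^ c.a * (9 * c.q ^ c.b) := by
        rw [show 2 ^ c.a * (9 * c.q ^ c.b) = Nat.card G by rw [c.card]; ring]
        exact orderOf_dvd_natCard n
      refine (Nat.Coprime.pow_right c.a ?_).dvd_of_dvd_mul_left h1
      exact (Nat.prime_two.coprime_iff_not_dvd.2 fun h => h2 (h.trans hno)).symm
    -- the `q`-part moves `k`
    set m := n ^ (9 : ℕ) with hm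
    obtain ⟨l, -, hl⟩ := (Nat.dvd_prime_pow c.hq).1
      (show orderOf m ∣ c.q ^ c.b from orderOf_dvd_of_pow_eq_one (by
        rw [hm, ← pow_mul, ← orderOf_dvd_iff_pow_eq_one]; exact hdvd))
    have hmR : m ∉ R := fun hmR => hnR (c.toNine.mem_of_normalizes hn (by
      have h9 := c.toNine.pow_nine (show m ∈ (c.toNine.R : Subgroup G) from hmR)
      have hone : m = 1 := by
        rw [← orderOf_eq_one_iff]
        refine Nat.eq_one_of_dvd_coprimes ?_ (orderOf_dvd_of_pow_eq_one h9) hl.dvd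
        rw [show (9 : ℕ) = 3 ^ 2 by norm_num]
        exact Nat.Coprime.pow _ _ ((Nat.coprime_primes Nat.prime_three c.hq).2 (Ne.symm c.hq3))
      exact hone))
    obtain ⟨v, hv, hv1, hcomm⟩ : ∃ v ∈ R, v ≠ 1 ∧ m * v * m⁻¹ = v := by
      have hP : IsPGroup c.q (zpowers (⟨m, pow_mem hn 9⟩ : N)) :=
        isPGroup_zpowers_of_orderOf (by rw [Subgroup.orderOf_mk, hl])
      letI : MulAction (zpowers (⟨m, pow_mem hn 9⟩ : N)) R :=
        { smul := fun g x => ⟨((g : N) : G) * x * ((g : N) : G)⁻¹,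
            (mem_normalizer_iff.1 (g : N).2 (x : G)).1 x.2⟩
          one_smul := fun x => Subtype.ext (by show (1 : G) * x * (1 : G)⁻¹ = x; group)
          mul_smul := fun g h x => Subtype.ext (by
            show ((g : N) : G) * ((h : N) : G) * x * (((g : N) : G) * ((h : N) : G))⁻¹ =
              ((g : N) : G) * (((h : N) : G) * x * ((h : N) : G)⁻¹) * ((g : N) : G)⁻¹
            group) }
      set F := MulAction.fixedPoints (zpowers (⟨m, pow_mem hn 9⟩ : N)) R
      have hmod := hP.card_modEq_card_fixedPoints R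
      rw [c.card_R] at hmod
      have hone : (1 : R) ∈ F := fun g => Subtype.ext (by
        show ((g : N) : G) * (1 : G) * ((g : N) : G)⁻¹ = 1
        group)
      by_contra! hall
      have hF : F = {1} := by
        refine Set.eq_singleton_iff_unique_mem.2 ⟨hone, fun x hx => Subtype.ext ?_⟩
        by_contra hx1
        exact hall x x.2 hx1 (congrArg Subtype.val (hx ⟨_, mem_zpowers _⟩))
      rw [show Nat.card F = 1 by rw [hF]; simp] at hmod
      have := (Nat.modEq_iff_dvd' (by norm_num)).1 hmod.symm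
      have h8 : c.q ∣ 2 ^ 3 := by simpa using this
      exact c.hq2 ((Nat.prime_dvd_prime_iff_eq c.hq Nat.prime_two).1 (c.hq.dvd_of_dvd_pow h8))
    refine hmR ?_
    show m ∈ (c.R : Subgroup G)
    rw [← c.cent v hv hv1]
    exact mem_centralizer_singleton_iff.2 (mul_inv_eq_iff_eq_mul.1 hcomm)
  obtain ⟨j, hj⟩ := exists_prime_orderOf_dvd_card' (G := N) 2 heven
  rw [← Subgroup.orderOf_coe] at hj
  have hj2 : (j : G) * j = 1 := by rw [← sq, ← hj, pow_orderOf_eq_one]
  refine isConj_iff.2 ⟨j, ?_⟩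
  set w := k * ((j : G) * k * (j : G)⁻¹) with hw
  have hjk : (j : G) * k * (j : G)⁻¹ ∈ R := (mem_normalizer_iff.1 j.2 k).1 hk
  have hwR : w ∈ R := mul_mem hk hjk
  have hjw : (j : G) * w = w * j := by
    have hinv : (j : G)⁻¹ = j := inv_eq_of_mul_eq_one_right hj2
    have hc := c.comm_R hk hjk
    rw [hinv] at hc
    rw [hw, hinv]
    calc (j : G) * (k * (j * k * j)) = (j * k * j) * k * ((j : G) * j) * j := by
          rw [hj2]; group
      _ = k * (j * k * j) * j := by rw [hj2, mul_one, hc]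
  have hw1 : w = 1 := by
    by_contra h
    have hjR : (j : G) ∈ (c.R : Subgroup G) := by
      rw [← c.cent w hwR h]
      exact mem_centralizer_singleton_iff.2 hjw
    have h2 := orderOf_dvd_of_pow_eq_one (c.exp3 _ hjR)
    rw [hj] at h2
    norm_num at h2
  exact eq_inv_of_mul_eq_one_right hw1

/-- Integral values on a real element of order three with centraliser of order nine, prime to
three unless zero. -/
theorem exists_values [Fintype G] : ∃ k : G, orderOf k = 3 ∧
    ∃ v : Cfsg.IrrCharacter G → ℤ, (∀ χ : Cfsg.IrrCharacter G, (χ : G → ℂ) k = v χ) ∧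
      ∀ χ : Cfsg.IrrCharacter G, χ ≠ PrincipalBlock.trivChar G → v χ ≠ 0 →
        ∃ d : ℕ, (χ : G → ℂ) 1 = d ∧ d ∣ Nat.card G ∧ ¬ 3 ∣ d := by
  classical
  haveI : Fact (Nat.Prime 3) := ⟨Nat.prime_three⟩
  obtain ⟨k, hk, hC, hconj⟩ := c.exists_real
  have hint : ∀ χ : Cfsg.IrrCharacter G, ∃ z : ℤ, (χ : G → ℂ) k = z := by
    intro χ
    refine NineTwoQ.exists_int_value (Characters.isCharacter_of_isIrr χ.2) k fun i hi => ?_
    rw [← pow_mod_orderOf, hk]
    have h3 : 3 ∣ Nat.card G := ⟨3 * 2 ^ c.a * c.q ^ c.b, by rw [c.card]; ring⟩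
    have hi3 : i % 3 ≠ 0 := fun h => by
      have := Nat.eq_one_of_dvd_coprimes hi (Nat.dvd_of_mod_eq_zero h) h3
      norm_num at this
    rcases (show i % 3 = 1 ∨ i % 3 = 2 by omega) with e | e
    · rw [e, pow_one]
    · rw [e, show k ^ 2 = k⁻¹ from eq_inv_of_mul_eq_one_left (by
        rw [← pow_succ, show 2 + 1 = orderOf k from hk.symm, pow_orderOf_eq_one])]
      obtain ⟨x, hx⟩ := isConj_iff.1 hconj
      rw [← hx, Characters.isClassFunction_of_isIrr χ.2]
  choose v hv using hint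
  refine ⟨k, hk, v, hv, fun χ hne hv0 => ?_⟩
  obtain ⟨d, hd, hdvd⟩ := PrincipalBlock.degree_dvd_index (⊥ : Subgroup G) χ bot_le
  refine ⟨d, hd, by rwa [index_bot] at hdvd, fun h3 => ?_⟩
  have hsum : ∑ ψ : Cfsg.IrrCharacter G, v ψ * v ψ = 9 := by
    have h := Characters.sum_irr_mul_conj k k
    simp only [hv, map_intCast] at h
    rw [show Nat.card {x : G // x * k * x⁻¹ = k} = 9 by
      rw [← hC]
      exact Nat.card_congr (Equiv.subtypeEquivRight fun x => by
        rw [mem_centralizer_singleton_iff, mul_inv_eq_iff_eq_mul])] at h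
    exact_mod_cast h
  have h31 : (3 : ℤ) ∣ v χ := by
    obtain ⟨M, hM⟩ := Blocks.exists_isPModular 3 Nat.prime_three
    haveI := Blocks.IsPModular.isPrime hM
    haveI := Blocks.charP_res hM
    have hc := BlockDegrees.red_char_mul hM χ (x := k) (c := 1) (k := 1) (by rw [hk, pow_one])
      (Commute.one_right k)
    simp only [mul_one] at hc
    rw [show (⟨(χ : G → ℂ) k, Blocks.memLocalRing_char χ _⟩ : Blocks.localRing M) = (v χ : _) from
        Subtype.ext (by simp [hv]),
      show (⟨(χ : G → ℂ) 1, Blocks.memLocalRing_char χ _⟩ : Blocks.localRing M) = (d : _) from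
        Subtype.ext (by simp [hd]), map_natCast, map_intCast,
      (CharP.cast_eq_zero_iff (Blocks.Res M) 3 d).2 h3] at hc
    exact_mod_cast (CharP.intCast_eq_zero_iff (Blocks.Res M) 3 _).1 hc
  have h1 : v (PrincipalBlock.trivChar G) = 1 := by
    have := hv (PrincipalBlock.trivChar G)
    rw [PrincipalBlock.trivChar_apply] at this
    exact_mod_cast this.symm
  have h2 : v χ * v χ + v (PrincipalBlock.trivChar G) * v (PrincipalBlock.trivChar G) ≤ 9 := by
    rw [← hsum, ← Finset.sum_pair (f := fun ψ => v ψ * v ψ) hne]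
    exact Finset.sum_le_sum_of_subset_of_nonneg (Finset.subset_univ _) fun ψ _ _ =>
      mul_self_nonneg _
  obtain ⟨t, ht⟩ := h31
  rw [h1, ht] at h2
  have ht0 : t ≠ 0 := fun h => hv0 (by rw [ht, h, mul_zero])
  have : 1 ≤ t * t := by
    rcases lt_or_gt_of_ne ht0 with h | h <;> nlinarith
  nlinarith

/-- Every nonprincipal character in both principal blocks seen by `k` has degree divisible by
both primes. -/
theorem linked {p r : ℕ} [Fact p.Prime] [Fact r.Prime] (hpr : (p = 2 ∧ r = c.q) ∨ (p = c.q ∧ r = 2))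
    {u y : G} (hu1 : u ≠ 1) (hu : ∃ i, orderOf u = p ^ i) (hy : ∃ i, orderOf y = r ^ i)
    (hmem : u ∈ Cfsg.centralizerPPrimeCore r y) : y ∈ Cfsg.centralizerPPrimeCore p u := by
  classical
  haveI := Fintype.ofFinite G
  obtain ⟨k, hk, v, hv, hdeg⟩ := c.exists_values
  obtain ⟨Mp, hMp⟩ := Blocks.exists_isPModular p (Fact.out : p.Prime)
  obtain ⟨Mr, hMr⟩ := Blocks.exists_isPModular r (Fact.out : r.Prime)
  haveI := Blocks.IsPModular.isPrime hMp
  haveI := Blocks.IsPModular.isPrime hMr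
  have hne : p ≠ r := by
    rcases hpr with ⟨rfl, rfl⟩ | ⟨rfl, rfl⟩
    · exact Ne.symm c.hq2
    · exact c.hq2
  have hr3 : r ≠ 3 := by
    rcases hpr with ⟨-, rfl⟩ | ⟨-, rfl⟩
    · exact c.hq3
    · norm_num
  have hu3 : ¬ 3 ∣ orderOf u := by
    obtain ⟨i, hi⟩ := hu
    rw [hi]
    intro h
    have := (Nat.prime_dvd_prime_iff_eq Nat.prime_three (Fact.out : p.Prime)).1
      (Nat.prime_three.dvd_of_dvd_pow h)
    rcases hpr with ⟨rfl, -⟩ | ⟨rfl, -⟩
    · norm_num at this
    · exact c.hq3 this.symm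
  refine mem_pPrimeCore_of_linked hMp hMr hne
    (k := k) ?_ v hv ?_ hu hy (c.isSolvable_of_not_three (c.not_three_dvd_card hu1 hu3 le_rfl)) hmem
  · rw [hk]
    exact fun h => hr3 ((Nat.prime_dvd_prime_iff_eq (Fact.out : r.Prime) Nat.prime_three).1 h)
  · intro χ hne1 hp hr hv0
    obtain ⟨d, hd, hdvd, hd3⟩ := hdeg χ hne1 hv0
    refine ⟨d, hd, ?_⟩
    by_contra hrd
    have h1 : d ∣ 2 ^ c.a * c.q ^ c.b := by
      refine ((Nat.prime_three.coprime_iff_not_dvd.2 hd3).symm.pow_right 2).dvd_of_dvd_mul_left ?_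
      rw [show (3 : ℕ) ^ 2 * (2 ^ c.a * c.q ^ c.b) = Nat.card G by rw [c.card]; ring]
      exact hdvd
    obtain ⟨i, hi⟩ : ∃ i, d = p ^ i := by
      have hc : d.Coprime r := ((Fact.out : r.Prime).coprime_iff_not_dvd.2 hrd).symm
      rcases hpr with ⟨rfl, rfl⟩ | ⟨rfl, rfl⟩
      · exact (Nat.dvd_prime_pow Nat.prime_two).1 ((hc.pow_right _).dvd_of_dvd_mul_right h1) |>.imp
          fun _ h => h.2
      · exact (Nat.dvd_prime_pow c.hq).1 ((hc.pow_right _).dvd_of_dvd_mul_left h1) |>.imp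
          fun _ h => h.2
    refine hne1 (Subtype.ext ((Blocks.eq_one_of_degree_eq_pow hMp ?_ χ hp i ?_).trans ?_))
    · by_contra! hall
      exact c.hG ⟨⟨hall⟩⟩
    · rw [hd, hi]; push_cast; rfl
    · funext g; rw [PrincipalBlock.trivChar_apply]

/-- **Linking**, two-sided. -/
theorem core_two_iff {u y : G} (hu1 : u ≠ 1) (hy1 : y ≠ 1) (hu : ∃ i, orderOf u = 2 ^ i)
    (hy : ∃ i, orderOf y = c.q ^ i) :
    u ∈ core 2 (centralizer ({y} : Set G)) ↔ y ∈ core c.q (centralizer ({u} : Set G)) := by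
  haveI : Fact c.q.Prime := ⟨c.hq⟩
  haveI : Fact (Nat.Prime 2) := ⟨Nat.prime_two⟩
  have hu3 : ¬ 3 ∣ orderOf u := by
    obtain ⟨i, hi⟩ := hu
    rw [hi]
    exact fun h => absurd ((Nat.prime_dvd_prime_iff_eq Nat.prime_three Nat.prime_two).1
      (Nat.prime_three.dvd_of_dvd_pow h)) (by norm_num)
  have hy3 : ¬ 3 ∣ orderOf y := by
    obtain ⟨i, hi⟩ := hy
    rw [hi]
    exact fun h => c.hq3 ((Nat.prime_dvd_prime_iff_eq Nat.prime_three c.hq).1
      (Nat.prime_three.dvd_of_dvd_pow h)).symm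
  have e1 : Cfsg.centralizerPPrimeCore c.q y = core 2 (centralizer ({y} : Set G)) :=
    c.core'_q (c.not_three_dvd_card hy1 hy3 le_rfl)
  have e2 : Cfsg.centralizerPPrimeCore 2 u = core c.q (centralizer ({u} : Set G)) :=
    c.core'_two (c.not_three_dvd_card hu1 hu3 le_rfl)
  rw [← e1, ← e2]
  exact ⟨fun h => c.linked (Or.inl ⟨rfl, rfl⟩) hu1 hu hy h,
    fun h => c.linked (Or.inr ⟨rfl, rfl⟩) hy1 hy hu h⟩

end Ctx

end CfsgLib.NineTwoQSelf
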