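import Cfsg.Agent.NineTwoQSelf.Weights
import Cfsg.Agent.NineTwoQSelf.Real
import Cfsg.Agent.PLocal.CommutatorFacts
import Cfsg.Agent.Inv53.TwoConstrained

/-!
# Small tools for the local analysis
-/

set_option autoImplicit false
set_option linter.style.haveILetI false
set_option linter.unusedSectionVars false

namespace CfsgLib.NineTwoQSelf

open Subgroup CfsgLib.SolvSig

universe u

variable {G : Type u} [Group G] [Finite G]

theorem not_three_dvd_sup {A B : Subgroup G} (h : A ≤ normalizer (B : Set G))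
    (hA : ¬ 3 ∣ Nat.card A) (hB : ¬ 3 ∣ Nat.card B) : ¬ 3 ∣ Nat.card (A ⊔ B : Subgroup G) := by
  intro h3
  have := (Nat.prime_three.dvd_mul.1 (PLocal.card_sup_mul_card_inf h ▸ h3.mul_right _))
  exact this.elim hA hB

theorem not_dvd_of_isPGroup {p r : ℕ} [Fact p.Prime] (hr : r.Prime) (hne : r ≠ p)
    {H : Subgroup G} (hH : IsPGroup p H) : ¬ r ∣ Nat.card H := by
  intro h
  obtain ⟨k, hk⟩ := hH.exists_card_eq
  rw [hk] at h
  exact hne ((Nat.prime_dvd_prime_iff_eq hr (Fact.out : p.Prime)).1 (hr.dvd_of_dvd_pow h))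

theorem orderOf_two {z : G} (hz : orderOf z = 2) : z ≠ 1 ∧ z * z = 1 ∧ z⁻¹ = z := by
  have h1 : z * z = 1 := by rw [← sq, ← hz, pow_orderOf_eq_one]
  exact ⟨fun h => by rw [h, orderOf_one] at hz; norm_num at hz, h1, inv_eq_of_mul_eq_one_right h1⟩

theorem isPGroup_zpowers_two {z : G} (hz : orderOf z = 2) : IsPGroup 2 (zpowers z) :=
  isPGroup_zpowers_of_orderOf (i := 1) (by rw [hz, pow_one])

theorem normalizer_le_normalizer_centralizer (H : Subgroup G) :
    normalizer (H : Set G) ≤ normalizer (centralizer (H : Set G) : Set G) := fun g hg => by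
  refine mem_normalizer_of_forall fun x hx => mem_centralizer_iff.2 fun h hh => ?_
  have h' := mem_centralizer_iff.1 hx _ ((mem_normalizer_iff''.1 hg h).1 hh)
  calc h * (g * x * g⁻¹) = g * (g⁻¹ * h * g * x) * g⁻¹ := by group
    _ = g * (x * (g⁻¹ * h * g)) * g⁻¹ := by rw [h']
    _ = g * x * g⁻¹ * h := by group

theorem centralizer_zpowers (x : G) :
    centralizer (zpowers x : Set G) = centralizer ({x} : Set G) := by
  ext g
  rw [mem_centralizer_singleton_iff, mem_centralizer_iff]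
  refine ⟨fun h => (h x (mem_zpowers x)).symm, fun h w hw => ?_⟩
  obtain ⟨n, rfl⟩ := mem_zpowers_iff.1 hw
  exact ((show Commute x g from h.symm).zpow_left n).eq

/-- An involution inside a nontrivial 2-group normalised by a 2-group, centralised by the latter. -/
theorem exists_involution_fixed {D U : Subgroup G} (hD : IsPGroup 2 D) (hU : IsPGroup 2 U)
    (hDU : D ≤ normalizer (U : Set G)) (hne : U ≠ ⊥) :
    ∃ u ∈ U, orderOf u = 2 ∧ ∀ d ∈ D, d * u = u * d := by
  haveI : Fact (Nat.Prime 2) := ⟨Nat.prime_two⟩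
  obtain ⟨v, hv, hv1, hc⟩ := exists_fixed_of_normalizes hD hU hDU hne
  obtain ⟨i, hi⟩ := IsPGroup.iff_orderOf.1 hU ⟨v, hv⟩
  rw [Subgroup.orderOf_mk] at hi
  have hi0 : i ≠ 0 := fun h => hv1 (orderOf_eq_one_iff.1 (by rw [hi, h, pow_zero]))
  refine ⟨v ^ 2 ^ (i - 1), pow_mem hv _, ?_, fun d hd => ((show Commute d v from hc d hd).pow_right _).eq⟩
  rw [orderOf_pow_of_dvd (pow_ne_zero _ two_ne_zero) (hi ▸ pow_dvd_pow 2 (Nat.sub_le i 1)), hi,
    Nat.pow_div (Nat.sub_le i 1) (by norm_num), show i - (i - 1) = 1 by omega, pow_one]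

/-- A square root inside an element's cyclic group, of odd order. -/
theorem exists_sqrt {w : G} {H : Subgroup G} (hw : w ∈ H) (hodd : ¬ 2 ∣ orderOf w) :
    ∃ n : ℕ, w ^ n ∈ H ∧ w ^ n * w ^ n = w := by
  refine ⟨(orderOf w + 1) / 2, pow_mem hw _, ?_⟩
  rw [← pow_add, show (orderOf w + 1) / 2 + (orderOf w + 1) / 2 = orderOf w + 1 by omega, pow_succ,
    pow_orderOf_eq_one, one_mul]

namespace Ctx

variable (c : Ctx G)
include c

theorem not_three_of_q {H : Subgroup G} (hH : IsPGroup c.q H) : ¬ 3 ∣ Nat.card H :=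
  haveI : Fact c.q.Prime := ⟨c.hq⟩
  not_dvd_of_isPGroup Nat.prime_three (Ne.symm c.hq3) hH

theorem not_three_of_two {H : Subgroup G} (hH : IsPGroup 2 H) : ¬ 3 ∣ Nat.card H :=
  haveI : Fact (Nat.Prime 2) := ⟨Nat.prime_two⟩
  not_dvd_of_isPGroup Nat.prime_three (by norm_num) hH

theorem not_three_centralizer_q {y : G} {i : ℕ} (hy : orderOf y = c.q ^ i) (hy1 : y ≠ 1) :
    ¬ 3 ∣ Nat.card (centralizer ({y} : Set G)) :=
  c.not_three_dvd_card hy1 (fun h => c.not_three_of_q (isPGroup_zpowers_of_orderOf hy)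
    (by rwa [Nat.card_zpowers])) le_rfl

theorem not_three_centralizer_two {u : G} {i : ℕ} (hu : orderOf u = 2 ^ i) (hu1 : u ≠ 1) :
    ¬ 3 ∣ Nat.card (centralizer ({u} : Set G)) :=
  c.not_three_dvd_card hu1 (fun h => c.not_three_of_two (isPGroup_zpowers_of_orderOf hu)
    (by rwa [Nat.card_zpowers])) le_rfl

/-- The order of a `{2,q}`-subgroup with a full Sylow 2-subgroup. -/
theorem full_card {M : Subgroup G} (h3 : ¬ 3 ∣ Nat.card M) (h2 : 2 ^ c.a ∣ Nat.card M) :
    ∃ e ≤ c.b, Nat.card M = 2 ^ c.a * c.q ^ e := by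
  obtain ⟨i, j, hi, hj, e⟩ := c.card_eq_of_not_three h3
  rw [e] at h2
  have := (c.coprime_two_q.pow c.a j).dvd_of_dvd_mul_right h2
  have hia : i = c.a := le_antisymm hi ((Nat.pow_dvd_pow_iff_le_right (by norm_num)).1 this)
  exact ⟨j, hj, by rw [e, hia]⟩

theorem two_pow_le {M : Subgroup G} {m e : ℕ} (hM : Nat.card M = 2 ^ m * c.q ^ e) {l : ℕ}
    (h : 2 ^ l ∣ Nat.card M) : l ≤ m := by
  rw [hM] at h
  exact (Nat.pow_dvd_pow_iff_le_right (by norm_num)).1
    ((c.coprime_two_q.pow l e).dvd_of_dvd_mul_right h)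

theorem q_pow_le {M : Subgroup G} {m e : ℕ} (hM : Nat.card M = 2 ^ m * c.q ^ e) {l : ℕ}
    (h : c.q ^ l ∣ Nat.card M) : l ≤ e := by
  rw [hM] at h
  exact (Nat.pow_dvd_pow_iff_le_right c.hq.one_lt).1
    ((c.coprime_two_q.symm.pow l m).dvd_of_dvd_mul_left h)

theorem exists_order_q {M : Subgroup G} (h : c.q ∣ Nat.card M) : ∃ y ∈ M, orderOf y = c.q := by
  haveI : Fact c.q.Prime := ⟨c.hq⟩
  obtain ⟨y, hy⟩ := exists_prime_orderOf_dvd_card' (G := M) c.q h
  exact ⟨y, y.2, by rw [Subgroup.orderOf_coe, hy]⟩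

/-- `F(C(y)) = O_q(C(y))` when the other core is trivial. -/
theorem mem_core_centralizer {y : G} {i : ℕ} (hy : orderOf y = c.q ^ i) (hy1 : y ≠ 1)
    (hU : core 2 (centralizer ({y} : Set G)) = ⊥) :
    y ∈ core c.q (centralizer ({y} : Set G)) ∧
      centralizer (core c.q (centralizer ({y} : Set G)) : Set G) ≤
        core c.q (centralizer ({y} : Set G)) := by
  haveI : Fact c.q.Prime := ⟨c.hq⟩
  set L := centralizer ({y} : Set G) with hL
  have h3 : ¬ 3 ∣ Nat.card L := c.not_three_centralizer_q hy hy1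
  have hyL : y ∈ L := mem_centralizer_singleton_iff.2 rfl
  have hz : ∀ K : Subgroup G, K ≤ L → zpowers y ≤ centralizer (K : Set G) := fun K hK =>
    zpowers_le.2 (mem_centralizer_iff.2 fun v hv => mem_centralizer_singleton_iff.1 (hK hv))
  have hyV : y ∈ core c.q L := c.le_core_of_centralizes' h3 (zpowers_le.2 hyL)
    (isPGroup_zpowers_of_orderOf hy) (hz _ (core_le _ _)) (hz _ (core_le _ _)) (mem_zpowers y)
  refine ⟨hyV, fun g hg => ?_⟩
  have hgL : g ∈ L := mem_centralizer_singleton_iff.2 (mem_centralizer_iff.1 hg y hyV).symm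
  have := c.mem_cores_of_centralizes h3 hgL (by
    rw [hU]
    exact mem_centralizer_iff.2 fun x hx => by
      rw [coe_bot, Set.mem_singleton_iff] at hx; simp [hx]) hg
  rwa [hU, bot_sup_eq] at this

/-- A Sylow `q`-subgroup lies in the normaliser of its `Z(J)`. -/
theorem sylow_le_zjN (Q : Sylow c.q G) :
    (Q : Subgroup G) ≤ c.zjN c.q (Q : Subgroup G) :=
  le_normalizer.trans (c.normalizer_le_zjN _)

/-- The normaliser of a self-centralising subgroup of `Q` lies in `N(Z(J(Q)))`. -/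
theorem normalizer_le_of_selfCentralizing [IsSimpleGroup G] [Fact c.q.Prime] (Q : Sylow c.q G)
    {V : Subgroup G} (hV : V ≤ (Q : Subgroup G)) (hC : centralizer (V : Set G) ≤ V) :
    normalizer (V : Set G) ≤ c.zjN c.q (Q : Subgroup G) := by
  intro g hg
  obtain ⟨d, hd, n, hn, rfl⟩ := c.exists_factor Q hV (g := g) fun x hx =>
    hV ((mem_normalizer_iff''.1 hg x).1 hx)
  exact mul_mem ((hV.trans (c.sylow_le_zjN Q)) (hC hd)) hn

end Ctx

end CfsgLib.NineTwoQSelf
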