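import Cfsg.Agent.NineTwoQSelf.Basic
import Cfsg.Agent.S0028

/-!
# A central involution has a 2-group as centraliser
-/

set_option autoImplicit false
set_option linter.style.haveILetI false
set_option linter.unusedSectionVars false

namespace CfsgLib.NineTwoQSelf

open Subgroup MulAction CfsgLib.SolvSig

universe u

variable {G : Type u} [Group G] [Finite G] [IsSimpleGroup G]

namespace Ctx

variable (c : Ctx G)
include c

/-- A subgroup with a full Sylow 2-subgroup has trivial `O_q`. -/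
theorem core_full_eq_bot [Fact c.q.Prime] (hb : 2 ≤ c.b) {M : Subgroup G} {e : ℕ}
    (hM : Nat.card M = 2 ^ c.a * c.q ^ e) : core c.q M = ⊥ := by
  haveI : Fact (Nat.Prime 2) := ⟨Nat.prime_two⟩
  by_contra hne
  set V := core c.q M with hV
  have hV3 : ¬ 3 ∣ Nat.card V := c.not_three_of_q (core_isPGroup _ _)
  set C := centralizer (V : Set G) with hC
  have hC3 : ¬ 3 ∣ Nat.card C := c.not_three_dvd_centralizer hne hV3
  have he := (c.full_weights hM).1
  have hVc : Nat.card V = c.q := by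
    obtain ⟨i, hi⟩ := (core_isPGroup c.q M).exists_card_eq
    have hd : c.q ^ i ∣ Nat.card M := hi ▸ card_dvd_of_le (core_le _ _)
    have := c.q_pow_le hM hd
    have hi0 : i ≠ 0 := fun h => hne (card_eq_one.1 (by rw [hi, h, pow_zero]))
    rw [hi, show i = 1 by omega, pow_one]
  have hqC : c.q ^ 2 ∣ Nat.card C := by
    obtain ⟨Q, hQ⟩ := (core_isPGroup c.q M).exists_le_sylow
    set Y := (Q : Subgroup G) ⊓ C
    obtain ⟨i, hi⟩ := (Q.isPGroup'.to_le (inf_le_left : Y ≤ Q)).exists_card_eq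
    have hVY : V ≤ Y := le_inf hQ (le_centralizer_iff.1 (fun x hx => by
      have hcomm : IsMulCommutative V := by
        haveI : IsCyclic V := isCyclic_of_prime_card hVc
        exact ⟨⟨fun a b => (IsCyclic.commGroup (α := V)).mul_comm a b⟩⟩
      exact mem_centralizer_iff.2 fun y hy =>
        congrArg Subtype.val (hcomm.is_comm.comm ⟨y, hy⟩ ⟨x, hx⟩)))
    by_contra hn
    have hi1 : i ≤ 1 := by
      by_contra h
      exact hn ((pow_dvd_pow c.q (show 2 ≤ i by omega)).trans (hi ▸ card_dvd_of_le inf_le_right))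
    have hYV : V = Y := eq_of_le_of_card_ge hVY (by
      rw [hi, hVc]
      exact (Nat.pow_le_pow_right c.hq.pos hi1).trans (pow_one _).le)
    have hQne : (Q : Subgroup G) ≠ ⊥ := fun h => hne (le_bot_iff.1 (h ▸ hQ))
    obtain ⟨w, hw, hw1, hwc⟩ := exists_fixed_of_normalizes Q.isPGroup' Q.isPGroup' le_normalizer hQne
    have hwV : w ∈ V := hYV ▸ ⟨hw, mem_centralizer_iff.2 fun v hv => hwc v (hQ hv)⟩
    have hwg : zpowers w = V := eq_of_le_of_card_ge (zpowers_le.2 hwV) (by
      rw [hVc, Nat.card_zpowers]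
      have hd : orderOf w ∣ c.q := hVc ▸ V.orderOf_dvd_natCard hwV
      rcases (Nat.dvd_prime c.hq).1 hd with h | h
      · exact absurd (orderOf_eq_one_iff.1 h) hw1
      · exact h.ge)
    have hQY : (Q : Subgroup G) ≤ Y := le_inf le_rfl fun x hx => mem_centralizer_iff.2 fun v hv => by
      obtain ⟨n, rfl⟩ := mem_zpowers_iff.1 (hwg.symm ▸ hv : v ∈ zpowers w)
      exact (((show Commute x w from hwc x hx).zpow_right n).symm).eq
    have := card_dvd_of_le hQY
    rw [hi, (c.index_sylow Q).2] at this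
    have := (Nat.pow_dvd_pow_iff_le_right c.hq.one_lt).1 this
    omega
  obtain ⟨S⟩ : Nonempty (Sylow 2 M) := inferInstance
  set S' := (S : Subgroup M).map M.subtype
  have hSM : S' ≤ M := map_subtype_le _
  have hS2 : 2 ^ c.a ∣ Nat.card S' := by
    rw [card_map_of_injective M.subtype_injective]
    exact S.pow_dvd_card_of_pow_dvd_card (hM ▸ dvd_mul_right _ _)
  have hSC : S' ≤ normalizer (C : Set G) := (hSM.trans (le_normalizer_core c.q M)).trans
    (normalizer_le_normalizer_centralizer V)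
  have h3 : ¬ 3 ∣ Nat.card (S' ⊔ C : Subgroup G) :=
    not_three_dvd_sup hSC (c.not_three_of_two (S.isPGroup'.map _)) hC3
  obtain ⟨e', -, he'⟩ := c.full_card h3 (hS2.trans (card_dvd_of_le le_sup_left))
  have := (c.full_weights he').1
  have := c.q_pow_le he' (hqC.trans (card_dvd_of_le le_sup_right))
  omega

/-- Conjugates of an element by a `q`-group form a set of `q`-power size. -/
theorem exists_card_conjSet [Fact c.q.Prime] {K : Subgroup G} (hK : IsPGroup c.q K) (t : G) :
    ∃ l, Nat.card {s : G // ∃ x ∈ K, s = x * t * x⁻¹} = c.q ^ l := by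
  letI : MulAction K G :=
    { smul := fun x s => (x : G) * s * (x : G)⁻¹
      one_smul := fun s => by show (1 : G) * s * (1 : G)⁻¹ = s; group
      mul_smul := fun x y s => by
        show ((x : G) * y) * s * ((x : G) * y)⁻¹ = (x : G) * ((y : G) * s * (y : G)⁻¹) * (x : G)⁻¹
        group }
  obtain ⟨l, hl⟩ := hK.card_orbit t
  refine ⟨l, hl ▸ Nat.card_congr (Equiv.subtypeEquivRight fun s => ⟨?_, ?_⟩)⟩
  · rintro ⟨x, hx, rfl⟩
    exact ⟨⟨x, hx⟩, rfl⟩
  · rintro ⟨x, rfl⟩
    exact ⟨x, x.2, rfl⟩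

/-- For a central involution `z` and an element `y` of order `q` commuting with it, `O_2(C(y))`
is trivial. -/
theorem core_two_centralizer_eq_bot [Fact c.q.Prime] (hb : 2 ≤ c.b) {z y : G} (hz : orderOf z = 2)
    (hA : 2 ^ c.a ∣ Nat.card (centralizer ({z} : Set G))) (hy : orderOf y = c.q)
    (hzy : z * y = y * z) : core 2 (centralizer ({y} : Set G)) = ⊥ := by
  haveI : Fact (Nat.Prime 2) := ⟨Nat.prime_two⟩
  obtain ⟨hz1, hzz, -⟩ := orderOf_two hz
  set A := centralizer ({z} : Set G) with hAdef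
  have hA3 : ¬ 3 ∣ Nat.card A := c.not_three_centralizer_two (i := 1) (by rw [hz, pow_one]) hz1
  obtain ⟨e, -, hAc⟩ := c.full_card hA3 hA
  have hA0 : core c.q A = ⊥ := c.core_full_eq_bot hb hAc
  set L := centralizer ({y} : Set G) with hL
  have hy1 : y ≠ 1 := fun h => by rw [h, orderOf_one] at hy; exact c.hq.one_lt.ne hy
  have hzL : z ∈ L := mem_centralizer_singleton_iff.2 hzy
  have hyA : y ∈ A := mem_centralizer_singleton_iff.2 hzy.symm
  by_contra hU
  obtain ⟨u, hu, hu2, huz⟩ := exists_involution_fixed (isPGroup_zpowers_two hz)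
    (core_isPGroup 2 L) ((zpowers_le.2 hzL).trans (le_normalizer_core 2 L)) hU
  have huA : u ∈ A := mem_centralizer_singleton_iff.2 (huz z (mem_zpowers z)).symm
  have hyu : y ∈ core c.q (centralizer ({u} : Set G)) :=
    (c.core_two_iff (orderOf_two hu2).1 hy1 ⟨1, by rw [hu2, pow_one]⟩ ⟨1, by rw [hy, pow_one]⟩).1 hu
  set UA := core 2 A with hUA
  have hnorm : A ≤ normalizer (UA : Set G) := le_normalizer_core 2 A
  have hX : UA ⊓ centralizer (zpowers u : Set G) ≤ centralizer (zpowers y : Set G) := by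
    rintro x ⟨hx, hxu⟩
    have hxu' : x ∈ centralizer ({u} : Set G) := mem_centralizer_singleton_iff.2
      (mem_centralizer_iff.1 hxu u (mem_zpowers u)).symm
    have hcomm : x * y * x⁻¹ * y⁻¹ = 1 := by
      have h1 : x * y * x⁻¹ * y⁻¹ ∈ core c.q (centralizer ({u} : Set G)) :=
        mul_mem ((mem_normalizer_iff.1 (le_normalizer_core _ _ hxu') y).1 hyu) (inv_mem hyu)
      have h2 : x * y * x⁻¹ * y⁻¹ ∈ UA := by
        rw [show x * y * x⁻¹ * y⁻¹ = x * (y * x⁻¹ * y⁻¹) by group]
        exact mul_mem hx ((mem_normalizer_iff.1 (hnorm hyA) _).1 (inv_mem hx))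
      have h3 := mem_inf.2 ⟨h2, h1⟩
      rwa [disjoint_iff.1 (IsPGroup.disjoint_of_ne 2 c.q (Ne.symm c.hq2) _ _ (core_isPGroup 2 A)
        (core_isPGroup c.q (centralizer ({u} : Set G)))), mem_bot] at h3
    refine mem_centralizer_iff.2 fun w hw => ?_
    obtain ⟨n, rfl⟩ := mem_zpowers_iff.1 hw
    have hxy : Commute x y := mul_inv_eq_iff_eq_mul.1 (mul_inv_eq_one.1 hcomm)
    exact ((hxy.zpow_right n).symm).eq
  have huy : u * y = y * u := mem_centralizer_singleton_iff.1 (core_le 2 L hu)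
  have hyC : y ∈ centralizer (UA : Set G) := by
    refine Cfsg.Agent.S0028.result 2 (zpowers u) (zpowers y) UA (isPGroup_zpowers_two hu2) ?_
      (core_isPGroup 2 A) ?_ ((zpowers_le.2 huA).trans hnorm) ((zpowers_le.2 hyA).trans hnorm) hX
      (mem_zpowers y)
    · rw [Nat.card_zpowers, hy]; exact c.coprime_two_q.symm
    · rw [zpowers_le]
      refine mem_centralizer_iff.2 fun w hw => ?_
      obtain ⟨n, rfl⟩ := mem_zpowers_iff.1 hw
      exact ((show Commute y u from huy.symm).zpow_left n).eq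
  have := c.mem_cores_of_centralizes hA3 hyA hyC (by
    rw [hA0]
    exact mem_centralizer_iff.2 fun x hx => by
      rw [coe_bot, Set.mem_singleton_iff] at hx; simp [hx])
  rw [hA0, sup_bot_eq] at this
  obtain ⟨i, hi⟩ := (core_isPGroup 2 A).exists_card_eq
  have hd : c.q ∣ 2 ^ i := hi ▸ hy ▸ UA.orderOf_dvd_natCard this
  exact c.hq2 ((Nat.prime_dvd_prime_iff_eq c.hq Nat.prime_two).1 (c.hq.dvd_of_dvd_pow hd))

/-- The counting that excludes a commuting element of order `q`. -/
theorem not_dvd_centralizer_central [Fact c.q.Prime] (hb : 2 ≤ c.b) {z : G} (hz : orderOf z = 2)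
    (hA : 2 ^ c.a ∣ Nat.card (centralizer ({z} : Set G))) :
    ¬ c.q ∣ Nat.card (centralizer ({z} : Set G)) := by
  classical
  haveI : Fact (Nat.Prime 2) := ⟨Nat.prime_two⟩
  intro hqA
  obtain ⟨hz1, hzz, hzinv⟩ := orderOf_two hz
  set A := centralizer ({z} : Set G) with hAdef
  have hA3 : ¬ 3 ∣ Nat.card A := c.not_three_centralizer_two (i := 1) (by rw [hz, pow_one]) hz1
  have hzA : z ∈ A := mem_centralizer_singleton_iff.2 rfl
  obtain ⟨e, -, hAc⟩ := c.full_card hA3 hA
  obtain ⟨he1, hweights⟩ := c.full_weights hAc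
  have he : e = 1 := by
    rcases Nat.eq_zero_or_pos e with h | h
    · exfalso
      rw [hAc, h, pow_zero, mul_one] at hqA
      exact c.hq2 ((Nat.prime_dvd_prime_iff_eq c.hq Nat.prime_two).1 (c.hq.dvd_of_dvd_pow hqA))
    · omega
  subst he
  obtain ⟨h57, hweights⟩ := hweights rfl
  rw [pow_one] at hAc
  obtain ⟨y, hyA, hy⟩ := c.exists_order_q hqA
  have hy1 : y ≠ 1 := fun h => by rw [h, orderOf_one] at hy; exact c.hq.one_lt.ne hy
  have hzy : z * y = y * z := (mem_centralizer_singleton_iff.1 hyA).symm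
  have hU := c.core_two_centralizer_eq_bot hb hz hA hy hzy
  set L := centralizer ({y} : Set G) with hL
  obtain ⟨hyV, hCV⟩ := c.mem_core_centralizer (i := 1) (by rw [hy, pow_one]) hy1 hU
  set V := core c.q L with hV
  obtain ⟨Q, hQ⟩ := (core_isPGroup c.q L).exists_le_sylow
  set B := c.zjN c.q (Q : Subgroup G) with hBdef
  have hQB : (Q : Subgroup G) ≤ B := c.sylow_le_zjN Q
  have hLB : L ≤ B := (le_normalizer_core c.q L).trans (c.normalizer_le_of_selfCentralizing Q hQ hCV)
  have hzB : z ∈ B := hLB (mem_centralizer_singleton_iff.2 hzy)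
  have hyB : y ∈ B := hQB (hQ hyV)
  obtain ⟨k, hk2, hk9, hW1, -⟩ := hweights Q
  -- the orbit of `B` under `A`
  set r := Nat.card (orbit A ((1 : G) : G ⧸ B)) with hr
  have hstab : stabilizer A ((1 : G) : G ⧸ B) = B.subgroupOf A := by
    ext x
    rw [mem_subgroupOf, mem_stabilizer_iff]
    show (x : G) • ((1 : G) : G ⧸ B) = ((1 : G) : G ⧸ B) ↔ _
    rw [smul_eq_self_iff]
    simp
  obtain ⟨i, hi⟩ : ∃ i, Nat.card (A ⊓ B : Subgroup G) = 2 ^ i * c.q := by
    have hd : Nat.card (A ⊓ B : Subgroup G) ∣ 2 ^ c.a * c.q := hAc ▸ card_dvd_of_le inf_le_left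
    have hqd : c.q ∣ Nat.card (A ⊓ B : Subgroup G) :=
      hy ▸ (A ⊓ B).orderOf_dvd_natCard (show y ∈ A ⊓ B from ⟨hyA, hyB⟩)
    obtain ⟨x, hx⟩ := hqd
    rw [hx, mul_comm (2 ^ c.a)] at hd
    obtain ⟨i, -, rfl⟩ := (Nat.dvd_prime_pow Nat.prime_two).1 (Nat.dvd_of_mul_dvd_mul_left c.hq.pos hd)
    exact ⟨i, by rw [hx, mul_comm]⟩
  have hri : r * 2 ^ i = 2 ^ c.a := by
    have h1 := (B.subgroupOf A).index_mul_card
    have h2 : Nat.card (B.subgroupOf A) = 2 ^ i * c.q := by
      rw [← hi, ← inf_subgroupOf_left, Nat.card_congr (subgroupOfEquivOfLe inf_le_left).toEquiv]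
    rw [h2, hAc, ← hstab, index_stabilizer, ← Nat.card_coe_set_eq, ← hr, ← mul_assoc] at h1
    exact Nat.eq_of_mul_eq_mul_right c.hq.pos h1
  set n := B.index with hn
  set β := ((Q : Subgroup G).subgroupOf B).index with hβ
  have hnβ : β * n = 9 * 2 ^ c.a := by
    rw [← (c.index_sylow Q).1]
    exact relIndex_mul_index hQB
  -- all weight one points lie over the orbit
  have hkr : k * n ≤ 9 * r := by
    let π : G ⧸ (Q : Subgroup G) → G ⧸ B := quotientMapOfLE hQB
    have hπ : ∀ g : G, π (g : G ⧸ (Q : Subgroup G)) = (g : G ⧸ B) := fun g => rfl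
    have hin : ∀ p : {p : G ⧸ (Q : Subgroup G) // Nat.card (stabilizer A p) = c.q},
        π p.1 ∈ orbit A ((1 : G) : G ⧸ B) := by
      rintro ⟨p, hp⟩
      have hX : Nat.card (zpowers (⟨y, hyA⟩ : A)) = c.q ^ 1 := by
        rw [Nat.card_zpowers, Subgroup.orderOf_mk, hy, pow_one]
      obtain ⟨g, hg⟩ := Weights.eq_of_card_eq (m := c.a) hX (by rw [pow_one]; exact hAc) c.hq2
        (Y := stabilizer A p) (by rw [hp, pow_one])
      obtain ⟨h, rfl⟩ := QuotientGroup.mk_surjective p
      have hfix : y • (((g : G)⁻¹ * h : G) : G ⧸ (Q : Subgroup G)) =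
          (((g : G)⁻¹ * h : G) : G ⧸ (Q : Subgroup G)) := by
        have hmem : g * ⟨y, hyA⟩ * g⁻¹ ∈ stabilizer A (h : G ⧸ (Q : Subgroup G)) :=
          hg ▸ ⟨⟨y, hyA⟩, mem_zpowers _, rfl⟩
        have h' := smul_eq_self_iff.1
          (show ((g : G) * y * (g : G)⁻¹) • (h : G ⧸ (Q : Subgroup G)) = _ from hmem)
        rw [smul_eq_self_iff]
        simpa [mul_assoc] using h'
      have hb' := smul_eq_self_iff.1 hfix
      obtain ⟨d, hd, b', hb'', hdb⟩ := c.exists_factor Q
        (A := zpowers y) (zpowers_le.2 (hQ hyV)) (g := (g : G)⁻¹ * h) (by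
          intro x hx
          obtain ⟨j, rfl⟩ := mem_zpowers_iff.1 hx
          have : ((g : G)⁻¹ * h)⁻¹ * y ^ j * ((g : G)⁻¹ * h) =
              (((g : G)⁻¹ * h)⁻¹ * y * ((g : G)⁻¹ * h)) ^ j := by
            have e := conj_zpow (a := ((g : G)⁻¹ * h)⁻¹) (b := y) (i := j)
            rw [inv_inv] at e
            exact e.symm
          rw [this]
          exact zpow_mem hb' j)
      have hdB : d ∈ B := hLB (mem_centralizer_singleton_iff.2
        (mem_centralizer_iff.1 hd y (mem_zpowers y)).symm)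
      refine ⟨g, ?_⟩
      show (g : G) • ((1 : G) : G ⧸ B) = π _
      rw [hπ, MulAction.Quotient.smul_coe, smul_eq_mul, mul_one, QuotientGroup.eq, hdb]
      exact mul_mem hdB hb''
    have hcard : Nat.card {p : G ⧸ (Q : Subgroup G) // π p ∈ orbit A ((1 : G) : G ⧸ B)} =
        r * β := by
      have e := quotientEquivProdOfLE hQB
      rw [hr, hβ, index, ← Nat.card_prod]
      refine Nat.card_congr ((Equiv.subtypeEquiv (quotientEquivProdOfLE hQB)
        (q := fun x => x.1 ∈ orbit A ((1 : G) : G ⧸ B)) fun p => ?_).trans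
          ⟨fun x => (⟨x.1.1, x.2⟩, x.1.2), fun x => ⟨(x.1.1, x.2), x.1.2⟩, fun x => rfl, fun x => rfl⟩)
      obtain ⟨g, rfl⟩ := QuotientGroup.mk_surjective p
      rfl
    have hle : 2 ^ c.a * k ≤ r * β := by
      rw [← hW1, ← hcard]
      exact Nat.card_le_card_of_injective (fun p => ⟨p.1, hin p⟩) fun p p' h =>
        Subtype.ext (congrArg Subtype.val h :)
    refine Nat.le_of_mul_le_mul_left ?_ (pow_pos (show 0 < 2 by norm_num) c.a)
    calc 2 ^ c.a * (k * n) = 2 ^ c.a * k * n := by ring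
      _ ≤ r * β * n := Nat.mul_le_mul_right _ hle
      _ = 2 ^ c.a * (9 * r) := by rw [mul_assoc, hnβ]; ring
  have hrpos : 0 < r := Nat.pos_of_ne_zero fun h => by
    rw [h, zero_mul] at hri
    exact (pow_pos (show 0 < 2 by norm_num) c.a).ne hri
  -- the normal `q`-subgroup of `B`
  set P := core c.q B with hP
  have hPp : IsPGroup c.q P := core_isPGroup _ _
  obtain ⟨hZne, hZp, -⟩ := c.centerThompson_facts Q
  have hZP : Cfsg.centerThompsonOf c.q (Q : Subgroup G) ≤ P :=
    le_core (le_normalizer : Cfsg.centerThompsonOf c.q (Q : Subgroup G) ≤ B) le_rfl hZp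
  have hPne : P ≠ ⊥ := fun h => hZne (le_bot_iff.1 (h ▸ hZP))
  have hPQ : P ≤ (Q : Subgroup G) := by
    have h := Q.3 (Q.isPGroup'.to_sup_of_normal_right' hPp (hQB.trans (le_normalizer_core c.q B)))
      le_sup_left
    exact h ▸ le_sup_right
  have hzP : ∀ x ∈ P, z * x * z⁻¹ ∈ P := fun x hx =>
    (mem_normalizer_iff.1 (le_normalizer_core c.q B hzB) x).1 hx
  -- `z` does not centralise `P`
  set H := closure {g : G | ∃ x ∈ P, g = x * z * x⁻¹ * z} with hH
  have hHP : H ≤ P := by
    rw [hH, closure_le]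
    rintro _ ⟨x, hx, rfl⟩
    have := mul_mem hx (hzP _ (inv_mem hx))
    rw [hzinv] at this
    simpa [mul_assoc] using this
  have hHne : H ≠ ⊥ := by
    intro hbot
    have hPA : P ≤ A := fun x hx => by
      have h1 : x * z * x⁻¹ * z ∈ H := subset_closure ⟨x, hx, rfl⟩
      rw [hbot, mem_bot] at h1
      have h2 : x * z * x⁻¹ = z := by
        rw [eq_inv_of_mul_eq_one_left h1, hzinv]
      exact mem_centralizer_singleton_iff.2 (mul_inv_eq_iff_eq_mul.1 h2)
    obtain ⟨j, hj⟩ := hPp.exists_card_eq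
    have hjle := c.q_pow_le (M := A) (m := c.a) (e := 1) (by rw [pow_one]; exact hAc)
      (hj ▸ card_dvd_of_le hPA)
    have hj0 : j ≠ 0 := fun h => hPne (card_eq_one.1 (by rw [hj, h, pow_zero]))
    have hPc : Nat.card P = c.q := by rw [hj, show j = 1 by omega, pow_one]
    obtain ⟨x, hxP, hx⟩ := c.exists_order_q (hPc ▸ dvd_rfl : c.q ∣ Nat.card P)
    have hx1 : x ≠ 1 := fun h => by rw [h, orderOf_one] at hx; exact c.hq.one_lt.ne hx
    have hzx : z * x = x * z := (mem_centralizer_singleton_iff.1 (hPA hxP)).symm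
    have hUx := c.core_two_centralizer_eq_bot hb hz hA hx hzx
    obtain ⟨hxV, hCx⟩ := c.mem_core_centralizer (i := 1) (by rw [hx, pow_one]) hx1 hUx
    set Lx := centralizer ({x} : Set G) with hLx
    have hxP' : zpowers x = P := eq_of_le_of_card_ge (zpowers_le.2 hxP) (by
      rw [hPc, Nat.card_zpowers, hx])
    have hLC : Lx = centralizer (P : Set G) := by
      rw [hLx, ← hxP', centralizer_zpowers]
    have hLxB : Lx ≤ B := by
      rw [hLC]
      exact (centralizer_le (SetLike.coe_subset_coe.2 hZP)).trans (centralizer_le_normalizer _)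
    have hVP : core c.q Lx ≤ P := by
      refine le_core ((core_le _ _).trans hLxB) ?_ (core_isPGroup _ _)
      refine (le_trans ?_ (normalizer_le_normalizer_core c.q Lx))
      rw [hLC]
      exact (le_normalizer_core c.q B).trans (normalizer_le_normalizer_centralizer P)
    have hQP : (Q : Subgroup G) ≤ P := by
      have hQL : (Q : Subgroup G) ≤ Lx := by
        obtain ⟨v, hv, hv1, hvc⟩ := exists_fixed_of_normalizes Q.isPGroup' hPp
          (hQB.trans (le_normalizer_core c.q B)) hPne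
        intro g hg
        rw [hLC, mem_centralizer_iff]
        have hvP : zpowers v = P := eq_of_le_of_card_ge (zpowers_le.2 hv) (by
          rw [hPc, Nat.card_zpowers]
          rcases (Nat.dvd_prime c.hq).1 (hPc ▸ P.orderOf_dvd_natCard hv) with h | h
          · exact absurd (orderOf_eq_one_iff.1 h) hv1
          · exact h.ge)
        intro w hw
        obtain ⟨m, rfl⟩ := mem_zpowers_iff.1 (hvP.symm ▸ hw : w ∈ zpowers v)
        exact (((show Commute g v from hvc g hg).zpow_right m).symm).eq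
      intro g hg
      refine hVP (hCx (mem_centralizer_iff.2 fun v hv => ?_))
      have hvx : v ∈ zpowers x := hxP'.symm ▸ hVP hv
      obtain ⟨m, rfl⟩ := mem_zpowers_iff.1 hvx
      exact (((show Commute g x from mem_centralizer_singleton_iff.1 (hQL hg)).zpow_right m).symm).eq
    have h := card_dvd_of_le hQP
    rw [(c.index_sylow Q).2, hPc] at h
    have := Nat.le_of_dvd c.hq.pos h
    have h2 : c.q ^ 2 ≤ c.q ^ c.b := Nat.pow_le_pow_right c.hq.pos hb
    nlinarith [c.hq.two_le]
  have hHp : IsPGroup c.q H := hPp.to_le hHP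
  -- the fixed points of `H`
  set FH := {p : G ⧸ B // ∀ x ∈ H, x • p = p}
  set N := Nat.card FH with hN
  set CH := centralizer (H : Set G) with hCH
  have hCH3 : ¬ 3 ∣ Nat.card CH := c.not_three_dvd_centralizer hHne (c.not_three_of_q hHp)
  have hNeq : N = Nat.card (orbit CH ((1 : G) : G ⧸ B)) := by
    refine Nat.card_congr (Equiv.subtypeEquivRight fun p => ⟨fun hp => ?_, ?_⟩)
    · obtain ⟨g, rfl⟩ := QuotientGroup.mk_surjective p
      -- a conjugate of `H` lies in `B`, hence a further one in `Q`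
      have hle : H.map (MulAut.conj g⁻¹).toMonoidHom ≤ B := by
        rintro _ ⟨x, hx, rfl⟩
        have := smul_eq_self_iff.1 (hp x hx)
        simpa using this
      obtain ⟨R, hR⟩ := ((hHp.map (MulAut.conj g⁻¹).toMonoidHom).comap_subtype :
        IsPGroup c.q ((H.map (MulAut.conj g⁻¹).toMonoidHom).subgroupOf B)).exists_le_sylow
      obtain ⟨b', hb'⟩ := exists_smul_eq B R (Q.subtype hQB)
      obtain ⟨d, hd, m, hm, hdm⟩ := c.exists_factor Q (hHP.trans hPQ) (g := g * (b' : G)⁻¹) (by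
        intro x hx
        have hgx : g⁻¹ * x * g ∈ B := by
          have := hle ⟨x, hx, rfl⟩
          simpa using this
        have hxR : (⟨g⁻¹ * x * g, hgx⟩ : B) ∈ (R : Subgroup B) := hR (by
          refine ⟨x, hx, ?_⟩
          simp)
        have h2 : b' * ⟨g⁻¹ * x * g, hgx⟩ * b'⁻¹ ∈ ((Q.subtype hQB : Sylow c.q B) : Subgroup B) := by
          rw [← hb', Sylow.coe_subgroup_smul]
          exact ⟨_, hxR, rfl⟩
        have h3 : ((b' * ⟨g⁻¹ * x * g, hgx⟩ * b'⁻¹ : B) : G) ∈ (Q : Subgroup G) := h2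
        simpa [mul_assoc] using h3)
      refine ⟨⟨d, hd⟩, ?_⟩
      show d • ((1 : G) : G ⧸ B) = _
      rw [MulAction.Quotient.smul_coe, smul_eq_mul, mul_one, QuotientGroup.eq]
      have : g = d * (m * b') := by rw [← mul_assoc, ← hdm]; group
      rw [this, inv_mul_cancel_left]
      exact mul_mem hm b'.2
    · rintro ⟨d, rfl⟩ x hx
      show x • ((d : G) • ((1 : G) : G ⧸ B)) = (d : G) • ((1 : G) : G ⧸ B)
      rw [← mul_smul, mem_centralizer_iff.1 d.2 x hx, mul_smul,
        smul_eq_self_iff.2 (by simpa using (hHP.trans hPQ |>.trans hQB) hx)]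
  have hstabC : stabilizer CH ((1 : G) : G ⧸ B) = B.subgroupOf CH := by
    ext x
    rw [mem_subgroupOf, mem_stabilizer_iff]
    show (x : G) • ((1 : G) : G ⧸ B) = ((1 : G) : G ⧸ B) ↔ _
    rw [smul_eq_self_iff]
    simp
  have hNC : N * Nat.card (CH ⊓ B : Subgroup G) = Nat.card CH := by
    have h1 := (B.subgroupOf CH).index_mul_card
    rw [← hstabC, index_stabilizer, ← Nat.card_coe_set_eq, ← hNeq, hstabC, ← inf_subgroupOf_left,
      Nat.card_congr (subgroupOfEquivOfLe inf_le_left).toEquiv] at h1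
    exact h1
  obtain ⟨t, ht⟩ : ∃ t, N = 2 ^ t := by
    have hmod : Nat.card (G ⧸ B) ≡ N [MOD c.q] := by
      have h := hHp.card_modEq_card_fixedPoints (G ⧸ B)
      rwa [show Nat.card (fixedPoints H (G ⧸ B)) = N from Nat.card_congr (Equiv.subtypeEquivRight
        fun p => ⟨fun h x hx => h ⟨x, hx⟩, fun h x => h (x : G) x.2⟩)] at h
    have hqN : ¬ c.q ∣ N := fun h => by
      have h' := Nat.modEq_zero_iff_dvd.1 (hmod.trans (Nat.modEq_zero_iff_dvd.2 h))
      rw [← index_eq_card, ← hn] at h'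
      have h9 : c.q ∣ 9 * 2 ^ c.a := hnβ ▸ h'.mul_left β
      rcases c.hq.dvd_mul.1 h9 with h'' | h''
      · exact c.hq3 ((Nat.prime_dvd_prime_iff_eq c.hq Nat.prime_three).1
          (c.hq.dvd_of_dvd_pow (show c.q ∣ 3 ^ 2 from h'')))
      · exact c.hq2 ((Nat.prime_dvd_prime_iff_eq c.hq Nat.prime_two).1 (c.hq.dvd_of_dvd_pow h''))
    obtain ⟨i', j', -, -, hij⟩ := c.card_eq_of_not_three hCH3
    have hd : N ∣ 2 ^ i' * c.q ^ j' := hij ▸ Dvd.intro _ hNC
    obtain ⟨t, -, ht⟩ := (Nat.dvd_prime_pow Nat.prime_two).1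
      (((c.hq.coprime_iff_not_dvd.2 hqN).symm.pow_right j').dvd_of_dvd_mul_right hd)
    exact ⟨t, ht⟩
  -- a `{2,q}`-subgroup containing `C(H)`, `P` and `C_B(z)`
  set D0 := A ⊓ B with hD0
  have hD0H : D0 ≤ normalizer (H : Set G) := by
    intro g hg
    refine mem_normalizer_of_forall fun h hh => ?_
    rw [hH] at hh ⊢
    induction hh using closure_induction with
    | mem h hh =>
      obtain ⟨x, hx, rfl⟩ := hh
      refine subset_closure ⟨g * x * g⁻¹, (mem_normalizer_iff.1
        (le_normalizer_core c.q B hg.2) x).1 hx, ?_⟩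
      have hgz : g * z = z * g := mem_centralizer_singleton_iff.1 hg.1
      have hgz' : g⁻¹ * z = z * g⁻¹ := ((show Commute g z from hgz).inv_left).eq
      calc g * (x * z * x⁻¹ * z) * g⁻¹ = g * x * z * x⁻¹ * (z * g⁻¹) := by group
        _ = g * x * z * x⁻¹ * (g⁻¹ * z) := by rw [hgz']
        _ = g * x * (g⁻¹ * (g * z)) * x⁻¹ * g⁻¹ * z := by group
        _ = g * x * (g⁻¹ * (z * g)) * x⁻¹ * g⁻¹ * z := by rw [hgz]
        _ = g * x * g⁻¹ * z * (g * x * g⁻¹)⁻¹ * z := by group
    | one => simp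
    | mul a b _ _ ha hb => simpa [mul_assoc] using mul_mem ha hb
    | inv a _ ha => simpa [mul_assoc] using inv_mem ha
  have hPH : P ≤ normalizer (H : Set G) := by
    intro g hg
    refine mem_normalizer_of_forall fun h hh => ?_
    rw [hH] at hh ⊢
    induction hh using closure_induction with
    | mem h hh =>
      obtain ⟨x, hx, rfl⟩ := hh
      have h1 : g * x * z * (g * x)⁻¹ * z ∈ closure {g : G | ∃ x ∈ P, g = x * z * x⁻¹ * z} :=
        subset_closure ⟨g * x, mul_mem hg hx, rfl⟩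
      have h2 : g * z * g⁻¹ * z ∈ closure {g : G | ∃ x ∈ P, g = x * z * x⁻¹ * z} :=
        subset_closure ⟨g, hg, rfl⟩
      have := mul_mem h1 (inv_mem h2)
      rw [show g * x * z * (g * x)⁻¹ * z * (g * z * g⁻¹ * z)⁻¹ =
        g * (x * z * x⁻¹ * z⁻¹) * g⁻¹ by group, hzinv] at this
      exact this
    | one => simp
    | mul a b _ _ ha hb => simpa [mul_assoc] using mul_mem ha hb
    | inv a _ ha => simpa [mul_assoc] using inv_mem ha
  have hD03 : ¬ 3 ∣ Nat.card D0 := fun h => hA3 (h.trans (card_dvd_of_le inf_le_left))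
  have hnC : normalizer (H : Set G) ≤ normalizer (CH : Set G) :=
    normalizer_le_normalizer_centralizer H
  set W := D0 ⊔ P
  have hW3 : ¬ 3 ∣ Nat.card W := not_three_dvd_sup
    ((inf_le_right : D0 ≤ B).trans (le_normalizer_core c.q B)) hD03 (c.not_three_of_q hPp)
  have hWC : W ≤ normalizer (CH : Set G) := (sup_le hD0H hPH).trans hnC
  set M := W ⊔ CH
  have hM3 : ¬ 3 ∣ Nat.card M := not_three_dvd_sup hWC hW3 hCH3
  have hqM : c.q ^ 2 ∣ Nat.card M := by
    obtain ⟨j, hj⟩ := hPp.exists_card_eq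
    have hj0 : j ≠ 0 := fun h => hPne (card_eq_one.1 (by rw [hj, h, pow_zero]))
    rcases Nat.lt_or_ge j 2 with h | h
    · have hPc : Nat.card P = c.q := by rw [hj, show j = 1 by omega, pow_one]
      have hQC : (Q : Subgroup G) ≤ CH := by
        obtain ⟨v, hv, hv1, hvc⟩ := exists_fixed_of_normalizes Q.isPGroup' hPp
          (hQB.trans (le_normalizer_core c.q B)) hPne
        intro g hg
        refine mem_centralizer_iff.2 fun w hw => ?_
        have hvP : zpowers v = P := eq_of_le_of_card_ge (zpowers_le.2 hv) (by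
          rw [hPc, Nat.card_zpowers]
          rcases (Nat.dvd_prime c.hq).1 (hPc ▸ P.orderOf_dvd_natCard hv) with h | h
          · exact absurd (orderOf_eq_one_iff.1 h) hv1
          · exact h.ge)
        obtain ⟨m, rfl⟩ := mem_zpowers_iff.1 (hvP.symm ▸ hHP hw : w ∈ zpowers v)
        exact (((show Commute g v from hvc g hg).zpow_right m).symm).eq
      exact ((pow_dvd_pow c.q hb).trans ((c.index_sylow Q).2 ▸ card_dvd_of_le hQC)).trans
        (card_dvd_of_le le_sup_right)
    · exact ((pow_dvd_pow c.q h).trans (hj ▸ dvd_rfl)).trans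
        (card_dvd_of_le ((le_sup_right : P ≤ W).trans le_sup_left))
  have h2M : 2 ^ (t + i) ∣ Nat.card M := by
    have hK : D0 ⊔ CH ≤ M := sup_le ((le_sup_left : D0 ≤ W).trans le_sup_left) le_sup_right
    have hmul := PLocal.card_sup_mul_card_inf (A := D0) (B := CH) (hD0H.trans hnC)
    obtain ⟨x, hx⟩ := card_dvd_of_le (show D0 ⊓ CH ≤ CH ⊓ B from
      le_inf inf_le_right (inf_le_left.trans inf_le_right))
    have hK' : Nat.card (D0 ⊔ CH : Subgroup G) = Nat.card D0 * (N * x) := by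
      refine Nat.eq_of_mul_eq_mul_right (Nat.card_pos (α := (D0 ⊓ CH : Subgroup G))) ?_
      rw [hmul, ← hNC, hx]
      ring
    refine Dvd.dvd.trans ?_ (card_dvd_of_le hK)
    rw [hK', hi, ht, pow_add]
    exact ⟨c.q * x, by ring⟩
  obtain ⟨mm, ee, hmm, -, hMc⟩ := c.card_eq_of_not_three hM3
  have hee : 2 ≤ ee := c.q_pow_le hMc hqM
  have hti : t + i ≤ mm := c.two_pow_le hMc h2M
  have hmma : mm ≠ c.a := fun h => by
    have := (c.full_weights (h ▸ hMc : Nat.card M = 2 ^ c.a * c.q ^ ee)).1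
    omega
  have hNr : ∀ d, t + i + d ≤ c.a → 2 ^ d * N ≤ r := fun d hd => by
    refine Nat.le_of_mul_le_mul_right ?_ (pow_pos (show 0 < 2 by norm_num) i)
    rw [hri, ht, mul_assoc, ← pow_add, ← pow_add]
    exact Nat.pow_le_pow_right (by norm_num) (by omega)
  -- double counting
  set Zs := {s : G // ∃ x ∈ P, s = x * z * x⁻¹}
  obtain ⟨l, hl⟩ := c.exists_card_conjSet hPp z
  set F := Nat.card {p : G ⧸ B // z • p = p}
  have hrF : r ≤ F := by
    refine Nat.card_le_card_of_injective (fun p => ⟨p.1, ?_⟩) fun p p' h =>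
      Subtype.ext (congrArg Subtype.val h :)
    obtain ⟨g, hg⟩ := p.2
    rw [← hg]
    show z • ((g : G) • ((1 : G) : G ⧸ B)) = (g : G) • ((1 : G) : G ⧸ B)
    rw [← mul_smul, ← mem_centralizer_singleton_iff.1 g.2, mul_smul,
      smul_eq_self_iff.2 (by simpa using hzB)]
  have hconjF : ∀ s : Zs, Nat.card {p : G ⧸ B // s.1 • p = p} = F := by
    rintro ⟨s, x, hx, rfl⟩
    refine Nat.card_congr (Equiv.subtypeEquiv (MulAction.toPerm x⁻¹) fun p => ?_)
    show (x * z * x⁻¹) • p = p ↔ z • x⁻¹ • p = x⁻¹ • p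
    constructor
    · intro h
      have := congrArg (x⁻¹ • ·) h
      simpa [mul_smul] using this
    · intro h
      simp [mul_smul, h]
  haveI := Fintype.ofFinite (G ⧸ B)
  haveI := Fintype.ofFinite Zs
  set X : G ⧸ B → ℕ := fun p => Nat.card {s : Zs // s.1 • p = p}
  have hsum : ∑ p, X p = Nat.card Zs * F := by
    have : Nat.card (Σ p : G ⧸ B, {s : Zs // s.1 • p = p}) =
        Nat.card (Σ s : Zs, {p : G ⧸ B // s.1 • p = p}) := Nat.card_congr
      ⟨fun x => ⟨x.2.1, x.1, x.2.2⟩, fun x => ⟨x.2.1, x.1, x.2.2⟩, fun x => rfl, fun x => rfl⟩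
    rw [Nat.card_sigma, Nat.card_sigma, Finset.sum_congr rfl fun s _ => hconjF s, Finset.sum_const,
      Finset.card_univ, smul_eq_mul, ← Nat.card_eq_fintype_card] at this
    exact this
  have hX : ∀ p : G ⧸ B, (∀ x ∈ H, x • p = p) ∨ c.q * X p ≤ Nat.card Zs := by
    intro p
    by_cases hall : ∀ s : Zs, s.1 • p = p
    · refine Or.inl fun x hx => ?_
      rw [hH] at hx
      induction hx using closure_induction with
      | mem g hg =>
        obtain ⟨w, hw, rfl⟩ := hg
        have h1 := hall ⟨z, 1, one_mem _, by group⟩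
        have h2 := hall ⟨w * z * w⁻¹, w, hw, rfl⟩
        rw [mul_smul, h1, h2]
      | one => exact one_smul _ _
      | mul a b _ _ ha hb => rw [mul_smul, hb, ha]
      | inv a _ ha => rw [inv_smul_eq_iff, ha]
    · refine Or.inr ?_
      rcases Nat.eq_zero_or_pos (X p) with h0 | h0
      · simp [h0]
      obtain ⟨⟨⟨s₀, hs₀⟩, hfix₀⟩⟩ : Nonempty {s : Zs // s.1 • p = p} := (Nat.card_pos_iff.1 h0).1
      obtain ⟨g, rfl⟩ := QuotientGroup.mk_surjective p
      set P' := P ⊓ B.map (MulAut.conj g).toMonoidHom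
      have hmem : ∀ w : G, w • (g : G ⧸ B) = (g : G ⧸ B) ↔ w ∈ B.map (MulAut.conj g).toMonoidHom := by
        intro w
        rw [smul_eq_self_iff]
        constructor
        · exact fun h => ⟨_, h, by simp [mul_assoc]⟩
        · rintro ⟨b', hb', rfl⟩
          simpa [mul_assoc] using hb'
      obtain ⟨j, hj⟩ := c.exists_card_conjSet (hPp.to_le (inf_le_left : P' ≤ P)) s₀
      obtain ⟨x₀, hx₀, hs₀'⟩ := hs₀
      have hs0sq : s₀ * s₀ = 1 := by
        rw [hs₀', show x₀ * z * x₀⁻¹ * (x₀ * z * x₀⁻¹) = x₀ * (z * z) * x₀⁻¹ by group, hzz]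
        group
      have hs0P : ∀ w ∈ P, s₀ * w * s₀⁻¹ ∈ P := fun w hw => by
        rw [hs₀']
        have := mul_mem (mul_mem hx₀ (hzP _ (mul_mem (mul_mem (inv_mem hx₀) hw) hx₀))) (inv_mem hx₀)
        simpa [mul_assoc] using this
      have hs0inv : s₀⁻¹ = s₀ := inv_eq_of_mul_eq_one_right hs0sq
      have hiff : ∀ s : G, ((∃ x ∈ P, s = x * z * x⁻¹) ∧ s • (g : G ⧸ B) = (g : G ⧸ B)) ↔
          ∃ x ∈ P', s = x * s₀ * x⁻¹ := by
        intro s
        constructor
        · rintro ⟨⟨x, hx, rfl⟩, hfix⟩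
          set w := x * z * x⁻¹ * s₀ with hw
          have hwP : w ∈ P := by
            have hzx₀ : w = (x * z * x⁻¹ * z) * (x₀ * z * x₀⁻¹ * z)⁻¹ := by
              rw [hw, hs₀']
              calc x * z * x⁻¹ * (x₀ * z * x₀⁻¹)
                  = x * z * x⁻¹ * (z * z) * (x₀ * z * x₀⁻¹) := by rw [hzz, mul_one]
                _ = x * z * x⁻¹ * z * (z⁻¹ * x₀ * z⁻¹ * x₀⁻¹) := by rw [hzinv]; group
                _ = _ := by group
            rw [hzx₀]
            exact hHP (mul_mem (subset_closure ⟨x, hx, rfl⟩)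
              (inv_mem (subset_closure ⟨x₀, hx₀, rfl⟩)))
          have hwB : w ∈ B.map (MulAut.conj g).toMonoidHom :=
            (hmem w).1 (by rw [hw, mul_smul, hfix₀, hfix])
          have hinv : s₀ * w * s₀⁻¹ = w⁻¹ := by
            rw [hw, mul_inv_rev, hs0inv]
            calc s₀ * (x * z * x⁻¹ * s₀) * s₀ = s₀ * (x * z * x⁻¹) * (s₀ * s₀) := by group
              _ = _ := by rw [hs0sq, mul_one]; simp [hzinv, mul_assoc]
          have hodd : ¬ 2 ∣ orderOf w := fun h =>
            not_dvd_of_isPGroup Nat.prime_two (Ne.symm c.hq2) hPp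
              (h.trans (P.orderOf_dvd_natCard hwP))
          obtain ⟨m, hm, hsq⟩ := exists_sqrt (show w ∈ P' from ⟨hwP, hwB⟩) hodd
          refine ⟨w ^ m, hm, ?_⟩
          have h1 : s₀ * (w ^ m)⁻¹ * s₀⁻¹ = w ^ m := by
            rw [← inv_pow, ← conj_pow, show s₀ * w⁻¹ * s₀⁻¹ = (s₀ * w * s₀⁻¹)⁻¹ by group, hinv,
              inv_inv]
          calc x * z * x⁻¹ = w * s₀ := by rw [hw, mul_assoc _ s₀ s₀, hs0sq, mul_one]
            _ = w ^ m * (w ^ m * s₀) := by rw [← mul_assoc, hsq]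
            _ = w ^ m * (s₀ * (w ^ m)⁻¹ * s₀⁻¹ * s₀) := by rw [h1]
            _ = _ := by group
        · rintro ⟨x, ⟨hxP, hxB⟩, rfl⟩
          refine ⟨⟨x * x₀, mul_mem hxP hx₀, by rw [hs₀']; group⟩, ?_⟩
          rw [mul_smul, mul_smul, (hmem x⁻¹).2 (inv_mem hxB), hfix₀, (hmem x).2 hxB]
      have hXc : X (g : G ⧸ B) = c.q ^ j := by
        rw [← hj]
        exact Nat.card_congr
          { toFun := fun s => ⟨s.1.1, (hiff _).1 ⟨s.1.2, s.2⟩⟩
            invFun := fun s => ⟨⟨s.1, ((hiff _).2 s.2).1⟩, ((hiff _).2 s.2).2⟩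
            left_inv := fun s => rfl
            right_inv := fun s => rfl }
      have hlt : X (g : G ⧸ B) < Nat.card Zs := by
        haveI := Fintype.ofFinite {s : Zs // s.1 • (g : G ⧸ B) = (g : G ⧸ B)}
        show Nat.card {s : Zs // s.1 • (g : G ⧸ B) = (g : G ⧸ B)} < _
        rw [Nat.card_eq_fintype_card, Nat.card_eq_fintype_card]
        push_neg at hall
        obtain ⟨s, hs⟩ := hall
        exact Fintype.card_subtype_lt (p := fun s : Zs => s.1 • (g : G ⧸ B) = (g : G ⧸ B)) (x := s) hs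
      rw [hXc] at hlt ⊢
      show c.q * c.q ^ j ≤ Nat.card Zs
      change c.q ^ j < Nat.card {s : G // ∃ x ∈ P, s = x * z * x⁻¹} at hlt
      rw [show Nat.card Zs = Nat.card {s : G // ∃ x ∈ P, s = x * z * x⁻¹} from rfl, hl] at *
      rw [← pow_succ']
      exact Nat.pow_le_pow_right c.hq.pos ((Nat.pow_lt_pow_iff_right c.hq.one_lt).1 hlt)
  have hcount : c.q * F ≤ (c.q - 1) * N + n := by
    have hZpos : 0 < Nat.card Zs := Nat.card_pos_iff.2 ⟨⟨⟨z, 1, one_mem _, by group⟩⟩, inferInstance⟩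
    have hstep : ∀ p, c.q * X p ≤ Nat.card Zs +
        (if (∀ x ∈ H, x • p = p) then (c.q - 1) * Nat.card Zs else 0) := by
      intro p
      rcases hX p with h | h
      · rw [if_pos h]
        have hle : X p ≤ Nat.card Zs := Nat.card_le_card_of_injective Subtype.val Subtype.val_injective
        calc c.q * X p ≤ c.q * Nat.card Zs := Nat.mul_le_mul_left _ hle
          _ = _ := by
            nth_rewrite 1 [show c.q = 1 + (c.q - 1) by have := c.hq.two_le; omega]
            rw [add_mul, one_mul]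
      · exact h.trans (Nat.le_add_right _ _)
    refine Nat.le_of_mul_le_mul_left ?_ hZpos
    calc Nat.card Zs * (c.q * F) = ∑ p, c.q * X p := by rw [← Finset.mul_sum, hsum]; ring
      _ ≤ ∑ p, (Nat.card Zs +
          (if (∀ x ∈ H, x • p = p) then (c.q - 1) * Nat.card Zs else 0)) :=
        Finset.sum_le_sum fun p _ => hstep p
      _ = Nat.card Zs * ((c.q - 1) * N + n) := by
        rw [Finset.sum_add_distrib, Finset.sum_const, Finset.card_univ, ← Finset.sum_filter,
          Finset.sum_const, hN, Nat.card_eq_fintype_card (α := FH), Fintype.card_subtype, hn,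
          index, Nat.card_eq_fintype_card (α := G ⧸ B), smul_eq_mul, smul_eq_mul]
        ring
  have hqr : c.q * r ≤ (c.q - 1) * N + n := (Nat.mul_le_mul_left _ hrF).trans hcount
  rcases h57 with h5 | h7
  · have h := hNr 1 (by omega)
    rw [pow_one] at h
    rw [h5] at hqr hk9
    obtain rfl : k = 4 := by omega
    omega
  · have hmm' : mm ≠ c.a - 1 := fun h => by
      have ha : 1 ≤ c.a := c.b_pos.1
      have := c.near_weights h7 ha (h ▸ hMc : Nat.card M = 2 ^ (c.a - 1) * c.q ^ ee)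
      omega
    have h := hNr 2 (by omega)
    rw [show (2 : ℕ) ^ 2 = 4 by norm_num] at h
    rw [h7] at hqr hk9
    obtain rfl : k = 2 := by omega
    omega

/-- The centraliser of an involution centralised by a Sylow 2-subgroup is a 2-group. -/
theorem isPGroup_centralizer_central [Fact c.q.Prime] (hb : 2 ≤ c.b) {z : G} (hz : orderOf z = 2)
    (hA : 2 ^ c.a ∣ Nat.card (centralizer ({z} : Set G))) :
    IsPGroup 2 (centralizer ({z} : Set G)) :=
  c.isPGroup_of_coprime_q (c.not_three_centralizer_two (i := 1) (by rw [hz, pow_one])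
    (orderOf_two hz).1) (c.not_dvd_centralizer_central hb hz hA)

end Ctx

end CfsgLib.NineTwoQSelf
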