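import Cfsg.Agent.NineTwoQSelf.Setup
import Cfsg.Agent.PLocal.Thompson
import Cfsg.Agent.SmallModP.Recognition
import Cfsg.Agent.SolvCrit.ZJBasic
import Cfsg.Agent.S0118
import Cfsg.Agent.S3331

/-!
# The normaliser of `Z(J(Q))` and fixed points of `q`-subgroups on `G / Q`
-/

set_option autoImplicit false
set_option linter.style.haveILetI false
set_option linter.unusedSectionVars false

namespace CfsgLib.NineTwoQSelf

open Subgroup CfsgLib.SolvSig
open scoped commutatorElement

universe u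

/-- In a solvable group the number of cosets of a Sylow subgroup fixed by a `q`-subgroup divides
the index. -/
theorem card_fixed_dvd_index.{v} {q : ℕ} [Fact q.Prime] (n : ℕ) :
    ∀ (B : Type v) [Group B] [Finite B], Nat.card B ≤ n → Group.IsSolvable B →
      ∀ (Q : Sylow q B) (X : Subgroup B), IsPGroup q X →
        Nat.card {p : B ⧸ (Q : Subgroup B) // ∀ x ∈ X, x • p = p} ∣ (Q : Subgroup B).index := by
  induction n with
  | zero => intro B _ _ h; exact absurd h (by have := Nat.card_pos (α := B); omega)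
  | succ n ih =>
    intro B _ _ hcard hs Q X hX
    classical
    by_cases hQ : (Q : Subgroup B) = ⊤
    · have : Subsingleton {p : B ⧸ (Q : Subgroup B) // ∀ x ∈ X, x • p = p} :=
        ⟨fun a b => Subtype.ext (by
          obtain ⟨g, hg⟩ := QuotientGroup.mk_surjective a.1
          obtain ⟨h, hh⟩ := QuotientGroup.mk_surjective b.1
          rw [← hg, ← hh, QuotientGroup.eq, hQ]
          exact mem_top _)⟩
      have : Nonempty {p : B ⧸ (Q : Subgroup B) // ∀ x ∈ X, x • p = p} :=
        ⟨⟨((1 : B) : B ⧸ (Q : Subgroup B)), fun x _ => by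
          rw [MulAction.Quotient.smul_coe, QuotientGroup.eq, hQ]
          exact mem_top _⟩⟩
      rw [Nat.card_of_subsingleton (Classical.arbitrary _)]
      exact one_dvd _
    haveI : Nontrivial B := by
      by_contra hnt
      rw [not_nontrivial_iff_subsingleton] at hnt
      exact hQ (eq_top_iff.2 fun b _ => (Subsingleton.elim (1 : B) b) ▸ one_mem _)
    obtain ⟨r, hr, hne⟩ := exists_core_ne_bot (K := (⊤ : Subgroup B))
      inferInstance (fun h => top_ne_bot h)
    haveI : Fact r.Prime := ⟨hr⟩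
    set N := core r (⊤ : Subgroup B) with hN
    haveI : N.Normal := normalizer_eq_top_iff.1 (eq_top_iff.2
      (le_normalizer_core r (⊤ : Subgroup B)))
    have hNr : IsPGroup r N := core_isPGroup r _
    set π := QuotientGroup.mk' N
    have hπ : Function.Surjective π := QuotientGroup.mk'_surjective N
    let Qb : Sylow q (B ⧸ N) := Q.mapSurjective hπ
    have hQb : (Qb : Subgroup (B ⧸ N)) = (Q : Subgroup B).map π := rfl
    have hlt : Nat.card (B ⧸ N) ≤ n := by
      have h1 : 1 < Nat.card N := Finite.one_lt_card_iff_nontrivial.2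
        ((nontrivial_iff_ne_bot N).2 hne)
      have h2 := card_eq_card_quotient_mul_card_subgroup N
      have h3 : 0 < Nat.card (B ⧸ N) := Nat.card_pos
      nlinarith
    have hrec := ih (B ⧸ N) hlt inferInstance Qb (X.map π) (hX.map π)
    -- the projection
    let f : B ⧸ (Q : Subgroup B) → (B ⧸ N) ⧸ (Qb : Subgroup (B ⧸ N)) :=
      Quotient.lift (fun g => ((π g : B ⧸ N) : (B ⧸ N) ⧸ (Qb : Subgroup (B ⧸ N)))) fun a b h => by
        have h' : a⁻¹ * b ∈ (Q : Subgroup B) := QuotientGroup.leftRel_apply.1 h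
        refine QuotientGroup.eq.2 ?_
        rw [hQb, ← map_inv, ← map_mul]
        exact ⟨_, h', rfl⟩
    have hf : ∀ g : B, f (g : B ⧸ (Q : Subgroup B)) =
        ((π g : B ⧸ N) : (B ⧸ N) ⧸ (Qb : Subgroup (B ⧸ N))) := fun g => rfl
    have hequiv : ∀ (x : B) p, f (x • p) = π x • f p := fun x p => by
      obtain ⟨g, rfl⟩ := QuotientGroup.mk_surjective p
      rw [MulAction.Quotient.smul_coe, hf, hf, MulAction.Quotient.smul_coe, smul_eq_mul,
        smul_eq_mul, map_mul]
    have hfib : ∀ g h : B, f (g : B ⧸ (Q : Subgroup B)) = f (h : B ⧸ (Q : Subgroup B)) →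
        ∃ m ∈ N, (h : B ⧸ (Q : Subgroup B)) = m • (g : B ⧸ (Q : Subgroup B)) := by
      intro g h e
      rw [hf, hf, QuotientGroup.eq, hQb, ← map_inv, ← map_mul] at e
      obtain ⟨s, hs, hs'⟩ := e
      obtain ⟨m, hm, hm'⟩ := (QuotientGroup.mk'_eq_mk' N).1 hs'
      -- `g⁻¹ * h = s * m`
      refine ⟨g * (s * m * s⁻¹) * g⁻¹, ?_, ?_⟩
      · exact (inferInstance : N.Normal).conj_mem _ ((inferInstance : N.Normal).conj_mem m hm s) g
      · rw [MulAction.Quotient.smul_coe, QuotientGroup.eq, smul_eq_mul]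
        have e2 : h = g * (s * m) := by rw [hm']; group
        rw [e2, show (g * (s * m))⁻¹ * (g * (s * m * s⁻¹) * g⁻¹ * g) = s⁻¹ by group]
        exact inv_mem hs
    let F : {p : B ⧸ (Q : Subgroup B) // ∀ x ∈ X, x • p = p} →
        {p : (B ⧸ N) ⧸ (Qb : Subgroup (B ⧸ N)) // ∀ x ∈ X.map π, x • p = p} :=
      fun p => ⟨f p, by rintro _ ⟨x, hx, rfl⟩; rw [← hequiv, p.2 x hx]⟩
    by_cases hrq : r = q
    · subst hrq
      have hNQ : N ≤ (Q : Subgroup B) := fun x hx => by
        have h1 : N ≤ Cfsg.pCore r B := PLocal.le_pCore hNr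
        exact PLocal.pCore_le_sylow Q (h1 hx)
      have hinj : Function.Injective f := fun a b e => by
        obtain ⟨g, rfl⟩ := QuotientGroup.mk_surjective a
        obtain ⟨h, rfl⟩ := QuotientGroup.mk_surjective b
        obtain ⟨m, hm, e'⟩ := hfib g h e
        rw [e', MulAction.Quotient.smul_coe, QuotientGroup.eq, smul_eq_mul, ← mul_assoc]
        have := (inferInstance : N.Normal).conj_mem m hm g⁻¹
        rw [inv_inv] at this
        exact hNQ this
      have hbij : Function.Bijective F := by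
        refine ⟨fun a b e => Subtype.ext (hinj (congrArg Subtype.val e)), fun pb => ?_⟩
        obtain ⟨gb, hgb⟩ := QuotientGroup.mk_surjective pb.1
        obtain ⟨g, rfl⟩ := hπ gb
        refine ⟨⟨(g : B ⧸ (Q : Subgroup B)), fun x hx => hinj ?_⟩, Subtype.ext ?_⟩
        · rw [hequiv, hf, hgb]
          exact pb.2 _ ⟨x, hx, rfl⟩
        · exact (hf g).trans hgb
      rw [Nat.card_congr (Equiv.ofBijective F hbij)]
      refine hrec.trans ?_
      rw [hQb, index_map, QuotientGroup.ker_mk', sup_eq_left.2 hNQ,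
        MonoidHom.range_eq_top.2 hπ, index_top, mul_one]
    · -- `N` meets every conjugate of `Q` trivially
      have hfree : ∀ (g : B) (m : B), m ∈ N →
          m • (g : B ⧸ (Q : Subgroup B)) = (g : B ⧸ (Q : Subgroup B)) → m = 1 := by
        intro g m hm e
        rw [MulAction.Quotient.smul_coe, QuotientGroup.eq, smul_eq_mul] at e
        have h1 : g⁻¹ * m⁻¹ * g ∈ N := by
          have := (inferInstance : N.Normal).conj_mem m⁻¹ (inv_mem hm) g⁻¹
          rwa [inv_inv] at this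
        have h2 : g⁻¹ * m⁻¹ * g ∈ (Q : Subgroup B) := by
          rwa [show g⁻¹ * m⁻¹ * g = (m * g)⁻¹ * g by group]
        have h3 : g⁻¹ * m⁻¹ * g = 1 := by
          have hb : g⁻¹ * m⁻¹ * g ∈ (N ⊓ (Q : Subgroup B)) := ⟨h1, h2⟩
          rwa [disjoint_iff.1 (IsPGroup.disjoint_of_ne r q hrq _ _ hNr Q.isPGroup'), mem_bot] at hb
        have h4 := congrArg (fun t => g * t * g⁻¹) h3
        simpa [mul_assoc] using h4
      have hfixN : ∀ pb : {p : (B ⧸ N) ⧸ (Qb : Subgroup (B ⧸ N)) // ∀ x ∈ X.map π, x • p = p},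
          ∃ p0, F p0 = pb := by
        intro pb
        obtain ⟨gb, hgb⟩ := QuotientGroup.mk_surjective pb.1
        obtain ⟨g, rfl⟩ := hπ gb
        let Fib := {p : B ⧸ (Q : Subgroup B) // f p = pb.1}
        letI : MulAction X Fib :=
          { smul := fun x p => ⟨(x : B) • p.1, by rw [hequiv, p.2]; exact pb.2 _ ⟨x, x.2, rfl⟩⟩
            one_smul := fun p => Subtype.ext (one_smul B p.1)
            mul_smul := fun x y p => Subtype.ext (mul_smul (x : B) (y : B) p.1) }
        have hcardFib : Nat.card Fib = Nat.card N := by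
          refine (Nat.card_congr (Equiv.ofBijective
            (fun m : N => (⟨(m : B) • (g : B ⧸ (Q : Subgroup B)), ?_⟩ : Fib)) ⟨?_, ?_⟩)).symm
          · rw [hequiv, hf, show π (m : B) = 1 from (QuotientGroup.eq_one_iff _).2 m.2, one_smul,
              hgb]
          · intro a b e
            have e' : (a : B) • (g : B ⧸ (Q : Subgroup B)) = (b : B) • (g : B ⧸ (Q : Subgroup B)) :=
              congrArg Subtype.val e
            have := hfree g ((b : B)⁻¹ * a) (mul_mem (inv_mem b.2) a.2) (by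
              rw [mul_smul, e', ← mul_smul, inv_mul_cancel, one_smul])
            exact Subtype.ext (inv_mul_eq_one.1 this).symm
          · intro p
            obtain ⟨h, hh⟩ := QuotientGroup.mk_surjective p.1
            obtain ⟨m, hm, e⟩ := hfib g h (by rw [hh, p.2, hf, hgb])
            exact ⟨⟨m, hm⟩, Subtype.ext (e.symm.trans hh)⟩
        have hmod := hX.card_modEq_card_fixedPoints Fib
        rw [hcardFib] at hmod
        obtain ⟨p⟩ : Nonempty (MulAction.fixedPoints X Fib) := by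
          by_contra hempty
          rw [not_nonempty_iff] at hempty
          have h0 : Nat.card (MulAction.fixedPoints X Fib) = 0 := Nat.card_of_isEmpty
          rw [h0] at hmod
          obtain ⟨l, hl⟩ := hNr.exists_card_eq
          rw [hl] at hmod
          exact hrq ((Nat.prime_dvd_prime_iff_eq (Fact.out : q.Prime) hr).1
            ((Fact.out : q.Prime).dvd_of_dvd_pow (Nat.modEq_zero_iff_dvd.1 hmod))).symm
        exact ⟨⟨p.1.1, fun x hx => congrArg Subtype.val (p.2 ⟨x, hx⟩)⟩, Subtype.ext p.1.2⟩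
      choose s hs using hfixN
      have hbij : Function.Bijective
          (fun pm : {p : (B ⧸ N) ⧸ (Qb : Subgroup (B ⧸ N)) // ∀ x ∈ X.map π, x • p = p} ×
            ↥(N ⊓ centralizer (X : Set B)) =>
            (⟨(pm.2 : B) • (s pm.1).1, fun x hx => by
              rw [← mul_smul, mem_centralizer_iff.1 pm.2.2.2 x hx, mul_smul, (s pm.1).2 x hx]⟩ :
              {p : B ⧸ (Q : Subgroup B) // ∀ x ∈ X, x • p = p})) := by
        refine ⟨?_, ?_⟩
        · rintro ⟨p, m⟩ ⟨p', m'⟩ e
          have e' : (m : B) • (s p).1 = (m' : B) • (s p').1 := congrArg Subtype.val e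
          have hp : p = p' := by
            have := congrArg f e'
            rw [hequiv, hequiv, show π (m : B) = 1 from (QuotientGroup.eq_one_iff _).2 m.2.1,
              show π (m' : B) = 1 from (QuotientGroup.eq_one_iff _).2 m'.2.1, one_smul, one_smul]
              at this
            exact (hs p).symm.trans ((Subtype.ext this).trans (hs p'))
          subst hp
          obtain ⟨g, hg⟩ := QuotientGroup.mk_surjective (s p).1
          rw [← hg] at e'
          have := hfree g ((m' : B)⁻¹ * m) (mul_mem (inv_mem m'.2.1) m.2.1) (by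
            rw [mul_smul, e', ← mul_smul, inv_mul_cancel, one_smul])
          exact Prod.ext rfl (Subtype.ext (inv_mul_eq_one.1 this).symm)
        · intro p
          obtain ⟨g, hg⟩ := QuotientGroup.mk_surjective (s (F p)).1
          obtain ⟨h, hh⟩ := QuotientGroup.mk_surjective p.1
          obtain ⟨m, hm, e⟩ := hfib g h (by
            rw [hg, hh]; exact congrArg Subtype.val (hs (F p)))
          refine ⟨(F p, ⟨m, hm, mem_centralizer_iff.2 fun x hx => ?_⟩), Subtype.ext ?_⟩
          · have h1 : (x * m * x⁻¹) • (g : B ⧸ (Q : Subgroup B)) =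
                m • (g : B ⧸ (Q : Subgroup B)) := by
              rw [← e, hh, mul_smul, show x⁻¹ • (g : B ⧸ (Q : Subgroup B)) =
                (g : B ⧸ (Q : Subgroup B)) by rw [hg]; exact (s (F p)).2 x⁻¹ (X.inv_mem hx),
                mul_smul, ← e, hh]
              exact p.2 x hx
            have := hfree g (m⁻¹ * (x * m * x⁻¹))
              (mul_mem (inv_mem hm) ((inferInstance : N.Normal).conj_mem m hm x)) (by
                rw [mul_smul, h1, ← mul_smul, inv_mul_cancel, one_smul])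
            exact (mul_inv_eq_iff_eq_mul.1 (inv_mul_eq_one.1 this).symm)
          · show m • (s (F p)).1 = p.1
            rw [← hg, ← e, hh]
      rw [← Nat.card_congr (Equiv.ofBijective _ hbij), Nat.card_prod]
      refine (Nat.mul_dvd_mul hrec (card_dvd_of_le inf_le_left)).trans ?_
      rw [hQb, index_map, QuotientGroup.ker_mk', MonoidHom.range_eq_top.2 hπ, index_top, mul_one]
      have hmul := relIndex_mul_index (le_sup_left : (Q : Subgroup B) ≤ (Q : Subgroup B) ⊔ N)
      have hd : Subgroup.relIndex (N : Subgroup B) (Q : Subgroup B) = Nat.card (Q : Subgroup B) := by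
        rw [← inf_relIndex_right, disjoint_iff.1
          (IsPGroup.disjoint_of_ne r q hrq _ _ hNr Q.isPGroup'), relIndex_bot_left]
      have h1 := relIndex_mul_relIndex ⊥ N ((Q : Subgroup B) ⊔ N) bot_le le_sup_right
      have h2 := relIndex_mul_relIndex ⊥ (Q : Subgroup B) ((Q : Subgroup B) ⊔ N) bot_le le_sup_left
      simp only [relIndex_sup_right, relIndex_bot_left] at h1 h2
      rw [hd, ← h2, mul_comm] at h1
      rw [← Nat.eq_of_mul_eq_mul_left Nat.card_pos h1] at hmul
      exact dvd_of_eq (by rw [← hmul]; ring)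

variable {G : Type u} [Group G] [Finite G]

namespace Ctx

variable (c : Ctx G)
include c

/-- The local subgroup controlling fusion in `Q`. -/
abbrev zjN (_c : Ctx G) (p : ℕ) (Q : Subgroup G) : Subgroup G :=
  normalizer (Cfsg.centerThompsonOf p Q : Set G)

/-- No section is `SL(2,q)`. -/
theorem not_sl_section [Fact c.q.Prime] : ¬ ∃ (H K : Subgroup G) (_ : (K.subgroupOf H).Normal),
    Nonempty ((H ⧸ K.subgroupOf H) ≃* Matrix.SpecialLinearGroup (Fin 2) (ZMod c.q)) := by
  rintro ⟨H, K, hK, ⟨e⟩⟩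
  let A : Matrix.SpecialLinearGroup (Fin 2) (ZMod c.q) :=
    ⟨!![0, 1; -1, 1], by simp [Matrix.det_fin_two]⟩
  have hA2 : (A ^ 2 : Matrix.SpecialLinearGroup (Fin 2) (ZMod c.q)) ≠ 1 := fun h => by
    have := congrArg (fun M : Matrix.SpecialLinearGroup (Fin 2) (ZMod c.q) => M.1 0 1) h
    rw [sq, Matrix.SpecialLinearGroup.coe_mul, Matrix.SpecialLinearGroup.coe_one] at this
    simp [A, Matrix.mul_apply, Fin.sum_univ_two] at this
  have hA3' : (A ^ 3 : Matrix.SpecialLinearGroup (Fin 2) (ZMod c.q)).1 = -1 := by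
    rw [pow_three, Matrix.SpecialLinearGroup.coe_mul, Matrix.SpecialLinearGroup.coe_mul]
    ext i j
    fin_cases i <;> fin_cases j <;> simp [A, Matrix.mul_apply, Fin.sum_univ_two]
  have hA6 : A ^ 6 = 1 := by
    refine Subtype.ext ?_
    rw [show 6 = 3 + 3 from rfl, pow_add, Matrix.SpecialLinearGroup.coe_mul, hA3']
    simp
  have hA3 : (A ^ 3 : Matrix.SpecialLinearGroup (Fin 2) (ZMod c.q)) ≠ 1 := fun h => by
    rw [h, Matrix.SpecialLinearGroup.coe_one] at hA3'
    have h2 : (2 : ZMod c.q) = 0 := by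
      have := congrArg (fun M : Matrix (Fin 2) (Fin 2) (ZMod c.q) => M 0 0) hA3'
      simp at this
      rw [← one_add_one_eq_two]
      nth_rewrite 1 [this]
      exact neg_add_cancel 1
    exact c.hq2 ((Nat.prime_dvd_prime_iff_eq c.hq Nat.prime_two).1
      ((CharP.cast_eq_zero_iff (ZMod c.q) c.q 2).1 (by exact_mod_cast h2)))
  obtain ⟨g, hg⟩ := QuotientGroup.mk_surjective (e.symm A)
  have h6 : 6 ∣ orderOf (g : G) := by
    have h1 : orderOf A = 6 := by
      have hd := orderOf_dvd_of_pow_eq_one hA6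
      have hn2 : ¬ orderOf A ∣ 2 := fun h => hA2 (orderOf_dvd_iff_pow_eq_one.1 h)
      have hn3 : ¬ orderOf A ∣ 3 := fun h => hA3 (orderOf_dvd_iff_pow_eq_one.1 h)
      have hle := Nat.le_of_dvd (by norm_num) hd
      interval_cases hord : orderOf A <;> revert hd hn2 hn3 <;> norm_num
    rw [← h1, ← e.symm.orderOf_eq A, ← hg, Subgroup.orderOf_coe]
    exact orderOf_map_dvd (QuotientGroup.mk' _) g
  obtain ⟨l, hl⟩ := h6
  set u := (g : G) ^ (3 * l) with hu
  have hul : orderOf u = 2 := by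
    rw [hu, orderOf_pow_of_dvd (by intro h; have := orderOf_pos (g : G); rw [hl] at this; omega)
      ⟨2, by rw [hl]; ring⟩, hl]
    have : 0 < l := by
      have := orderOf_pos (g : G)
      rw [hl] at this
      omega
    rw [show 6 * l = 2 * (3 * l) by ring, Nat.mul_div_cancel _ (by omega)]
  set t := (g : G) ^ (2 * l) with ht
  have htl : orderOf t = 3 := by
    rw [ht, orderOf_pow_of_dvd (by intro h; have := orderOf_pos (g : G); rw [hl] at this; omega)
      ⟨3, by rw [hl]; ring⟩, hl]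
    have : 0 < l := by
      have := orderOf_pos (g : G)
      rw [hl] at this
      omega
    rw [show 6 * l = 3 * (2 * l) by ring, Nat.mul_div_cancel _ (by omega)]
  refine c.not_three_dvd_card (g := u) (fun h => by rw [h, orderOf_one] at hul; norm_num at hul)
    (by rw [hul]; norm_num) (X := zpowers t) ?_ (by rw [Nat.card_zpowers, htl])
  rw [zpowers_le, mem_centralizer_singleton_iff]
  exact ((Commute.refl (g : G)).pow_pow (2 * l) (3 * l)).eq

variable {Q : Sylow c.q G}

theorem mem_centerThompson [Fact c.q.Prime] {P : Subgroup G} {x : G} (hx : x ∈ P)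
    (hxq : x ^ c.q = 1) (hcen : ∀ y ∈ P, x * y = y * x) : x ∈ Cfsg.centerThompsonOf c.q P := by
  obtain ⟨A, hA⟩ := PLocal.maxEAIn_nonempty c.q P
  have hel : Cfsg.IsElementaryAbelian c.q (A ⊔ zpowers x : Subgroup G) := by
    rw [PLocal.sup_eq_closure_union]
    refine PLocal.isElementaryAbelian_closure ?_ ?_
    · have hc : ∀ y ∈ A, x * y = y * x := fun y hy => hcen y (hA.1 hy)
      rintro s (hs | hs) t (ht | ht)
      · exact congrArg Subtype.val (hA.2.1.1.is_comm.comm ⟨s, hs⟩ ⟨t, ht⟩)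
      · obtain ⟨i, rfl⟩ := mem_zpowers_iff.1 ht
        exact ((show Commute x s from hc s hs).zpow_left i).symm.eq
      · obtain ⟨i, rfl⟩ := mem_zpowers_iff.1 hs
        exact ((show Commute x t from hc t ht).zpow_left i).eq
      · obtain ⟨i, rfl⟩ := mem_zpowers_iff.1 hs
        obtain ⟨j, rfl⟩ := mem_zpowers_iff.1 ht
        exact (Commute.zpow_zpow (Commute.refl x) i j).eq
    · rintro s (hs | hs)
      · exact hA.2.1.2 s hs
      · obtain ⟨i, rfl⟩ := mem_zpowers_iff.1 hs
        rw [← zpow_natCast, ← zpow_mul, mul_comm, zpow_mul, zpow_natCast, hxq, one_zpow]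
  have hle := hA.2.2 _ (sup_le hA.1 (zpowers_le.2 hx)) hel
  have hxA : x ∈ A := by
    rw [eq_of_le_of_card_ge (le_sup_left : A ≤ A ⊔ zpowers x) hle]
    exact mem_sup_right (mem_zpowers x)
  exact ⟨PLocal.le_thompsonSubgroupOf hA hxA, mem_centralizer_iff.2 fun y hy =>
    (hcen y (PLocal.thompsonSubgroupOf_le _ _ hy)).symm⟩

theorem normalizer_le_zjN (P : Subgroup G) : normalizer (P : Set G) ≤ c.zjN c.q P := by
  intro g hg
  have hJ := PLocal.normalizer_le_normalizer_thompsonSubgroupOf c.q P hg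
  rw [mem_normalizer_iff_map_conj_eq] at hJ ⊢
  show (Cfsg.centerThompsonOf c.q P).map (MulAut.conj g).toMonoidHom = _
  rw [Cfsg.centerThompsonOf, PLocal.map_inf_centralizer (MulAut.conj g).injective]
  exact (congrArg (fun J : Subgroup G => J ⊓ centralizer (J : Set G)) hJ :)

theorem q_dvd_card [IsSimpleGroup G] : c.q ∣ Nat.card G := by
  rw [c.card]
  exact (dvd_pow_self c.q (Nat.one_le_iff_ne_zero.1 c.b_pos.2)).mul_left _

theorem sylow_ne_bot [IsSimpleGroup G] [Fact c.q.Prime] (Q : Sylow c.q G) :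
    (Q : Subgroup G) ≠ ⊥ :=
  Q.ne_bot_of_dvd_card c.q_dvd_card

theorem centerThompson_facts [IsSimpleGroup G] [Fact c.q.Prime] (Q : Sylow c.q G) :
    Cfsg.centerThompsonOf c.q (Q : Subgroup G) ≠ ⊥ ∧
      IsPGroup c.q (Cfsg.centerThompsonOf c.q (Q : Subgroup G)) ∧
      ¬ 3 ∣ Nat.card (Cfsg.centerThompsonOf c.q (Q : Subgroup G)) := by
  have hp : IsPGroup c.q (Cfsg.centerThompsonOf c.q (Q : Subgroup G)) :=
    Q.isPGroup'.to_le (SolvCrit.centerThompson_le _ _)
  refine ⟨SolvCrit.centerThompson_ne_bot Q.isPGroup' (c.sylow_ne_bot Q), hp, fun h => ?_⟩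
  obtain ⟨k, hk⟩ := hp.exists_card_eq
  rw [hk] at h
  exact c.hq3 ((Nat.prime_dvd_prime_iff_eq Nat.prime_three c.hq).1
    (Nat.prime_three.dvd_of_dvd_pow h)).symm

theorem zjN_ne_top [IsSimpleGroup G] [Fact c.q.Prime] (Q : Sylow c.q G) :
    c.zjN c.q (Q : Subgroup G) ≠ ⊤ := by
  intro h
  obtain ⟨hne, hp, h3⟩ := c.centerThompson_facts Q
  haveI := normalizer_eq_top_iff.1 h
  have htop := (IsSimpleGroup.eq_bot_or_eq_top_of_normal
    (Cfsg.centerThompsonOf c.q (Q : Subgroup G)) (by assumption)).resolve_left hne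
  refine h3 ?_
  rw [htop, card_top, c.card]
  exact ⟨3 * 2 ^ c.a * c.q ^ c.b, by ring⟩

/-- The structure of a subgroup of order divisible by three, not nine, normalising a nontrivial
`p`-subgroup, `p ≠ 3`. -/
theorem nilpotent_or_alt {H : Subgroup G} (h3 : 3 ∣ Nat.card H) (h9 : ¬ 9 ∣ Nat.card H)
    {p : ℕ} [Fact p.Prime] (hp3 : p ≠ 3) {W : Subgroup G} (hW : W ≤ H)
    (hHW : H ≤ normalizer (W : Set G)) (hWp : IsPGroup p W) (hne : W ≠ ⊥) :
    (∃ N : Subgroup H, ∃ _ : N.Normal, Group.IsNilpotent N ∧ (Nat.card N).Coprime 3 ∧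
        (Nat.card (H ⧸ N) = 3 ∨ Nonempty (H ⧸ N ≃* Equiv.Perm (Fin 3)))) ∨
      (p = 2 ∧ ∃ N : Subgroup H, ∃ _ : N.Normal, W.subgroupOf H ≤ N ∧ IsMulCommutative N ∧
        (∀ n ∈ N, n ^ 2 = 1) ∧ Nonempty (H ⧸ N ≃* alternatingGroup (Fin 5))) := by
  haveI : Fact (Nat.Prime 3) := ⟨Nat.prime_three⟩
  obtain ⟨t, ht⟩ := exists_prime_orderOf_dvd_card' (G := H) 3 h3
  set X := zpowers t with hX
  have hXc : Nat.card X = 3 := by rw [hX, Nat.card_zpowers, ht]
  have hC : centralizer (X : Set H) = X := by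
    refine le_antisymm (fun g hg => ?_) (le_centralizer X)
    have hgt : Commute (g : G) (t : G) :=
      (congrArg Subtype.val (mem_centralizer_iff.1 hg t (mem_zpowers t))).symm
    -- `g` is a 3-element commuting with `t`
    have hpow : g ^ 3 = 1 := by
      by_contra hne3
      set m := g ^ (3 : ℕ)
      by_cases hm3 : 3 ∣ orderOf (m : G)
      · apply h9
        have h9' : 9 ∣ orderOf (g : G) := by
          have hd : 3 ∣ orderOf (g : G) := hm3.trans (by
            rw [show ((m : H) : G) = (g : G) ^ 3 by simp [m]]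
            exact orderOf_pow_dvd 3)
          obtain ⟨l, hl⟩ := hd
          rw [show ((m : H) : G) = (g : G) ^ 3 by simp [m],
            orderOf_pow_of_dvd (by norm_num) ⟨l, hl⟩, hl, Nat.mul_div_cancel_left _ (by norm_num)]
            at hm3
          rw [hl]
          exact Nat.mul_dvd_mul_left 3 hm3
        rw [Subgroup.orderOf_coe] at h9'
        exact h9'.trans (orderOf_dvd_natCard g)
      · refine c.not_three_dvd_card (g := (m : G)) (fun h => hne3 (Subtype.ext h)) hm3
          (X := zpowers (t : G)) ?_ (by rw [Nat.card_zpowers, Subgroup.orderOf_coe, ht])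
        rw [zpowers_le, mem_centralizer_singleton_iff]
        simpa [m] using ((hgt.pow_left 3).symm).eq
    by_contra hgX
    apply h9
    have hXg : IsPGroup 3 (X ⊔ zpowers g : Subgroup H) := by
      refine (IsPGroup.of_card (n := 1) (by rw [hXc, pow_one])).to_sup_of_normal_left' ?_ ?_
      · obtain ⟨i, -, hi⟩ := (Nat.dvd_prime_pow Nat.prime_three).1
          (show orderOf g ∣ 3 ^ 1 from orderOf_dvd_of_pow_eq_one hpow)
        exact isPGroup_zpowers_of_orderOf hi
      · exact zpowers_le.2 (centralizer_le_normalizer _ hg)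
    obtain ⟨i, hi⟩ := hXg.exists_card_eq
    have hlt : 3 < Nat.card (X ⊔ zpowers g : Subgroup H) := by
      rw [← hXc]
      by_contra hle
      exact hgX ((eq_of_le_of_card_ge (le_sup_left : X ≤ X ⊔ zpowers g) (not_lt.1 hle)).symm ▸
        mem_sup_right (mem_zpowers g))
    have h2i : 2 ≤ i := by
      by_contra h
      interval_cases i <;> omega
    exact (pow_dvd_pow 3 h2i).trans (hi ▸ card_subgroup_dvd_card _)
  haveI hWn : (W.subgroupOf H).Normal := (normal_subgroupOf_iff_le_normalizer hW).2 hHW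
  have hWne : W.subgroupOf H ≠ ⊥ := fun h => hne (by
    rw [← map_subgroupOf_eq_of_le hW, h, Subgroup.map_bot])
  have hWtop : W.subgroupOf H ≠ ⊤ := fun h => by
    obtain ⟨k, hk⟩ := (hWp.comap_subtype : IsPGroup p (W.subgroupOf H)).exists_card_eq
    change Nat.card (W.subgroupOf H) = p ^ k at hk
    rw [h, card_top] at hk
    rw [hk] at h3
    exact hp3 ((Nat.prime_dvd_prime_iff_eq Nat.prime_three (Fact.out : p.Prime)).1
      (Nat.prime_three.dvd_of_dvd_pow h3)).symm
  rcases Cfsg.Agent.S3331.result X hXc hC with h | ⟨N, hN, hab, hsq, ⟨e⟩⟩ | ⟨⟨e⟩⟩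
  · exact Or.inl h
  · refine Or.inr ?_
    haveI := hN
    have hle : W.subgroupOf H ≤ N := by
      by_contra hnle
      haveI : IsSimpleGroup (alternatingGroup (Fin 5)) := alternatingGroup.isSimpleGroup_five
      set f := e.toMonoidHom.comp (QuotientGroup.mk' N)
      have hf : Function.Surjective f := e.surjective.comp (QuotientGroup.mk'_surjective N)
      rcases IsSimpleGroup.eq_bot_or_eq_top_of_normal ((W.subgroupOf H).map f)
        (Normal.map inferInstance f hf) with h | h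
      · refine hnle fun w hw => (QuotientGroup.eq_one_iff w).1 (e.injective ?_)
        rw [map_one]
        exact mem_bot.1 (h ▸ mem_map_of_mem f hw)
      · obtain ⟨k, hk⟩ := ((hWp.comap_subtype : IsPGroup p (W.subgroupOf H)).map f).exists_card_eq
        change Nat.card ((W.subgroupOf H).map f) = p ^ k at hk
        rw [h, card_top] at hk
        have h60 : Nat.card (alternatingGroup (Fin 5)) = 60 := by
          rw [nat_card_alternatingGroup, Nat.card_fin]; norm_num [Nat.factorial]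
        rw [h60] at hk
        have : 3 ∣ p ^ k := hk ▸ (by norm_num)
        exact hp3 ((Nat.prime_dvd_prime_iff_eq Nat.prime_three (Fact.out : p.Prime)).1
          (Nat.prime_three.dvd_of_dvd_pow this)).symm
    refine ⟨?_, N, hN, hle, hab, hsq, ⟨e⟩⟩
    obtain ⟨w, hw, hw1⟩ := (bot_or_exists_ne_one (W.subgroupOf H)).resolve_left hWne
    obtain ⟨i, hi⟩ := IsPGroup.iff_orderOf.1 hWp ⟨(w : G), hw⟩
    rw [← Subgroup.orderOf_coe] at hi
    have hw2 : orderOf (w : G) = 2 := by
      refine orderOf_eq_prime ?_ (fun h => hw1 (Subtype.ext h))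
      exact congrArg Subtype.val (hsq w (hle hw))
    change orderOf (w : G) = p ^ i at hi
    rw [hw2] at hi
    exact ((Nat.prime_dvd_prime_iff_eq Nat.prime_two (Fact.out : p.Prime)).1
      (Nat.prime_two.dvd_of_dvd_pow (show 2 ∣ p ^ i by rw [← hi]))).symm
  · exfalso
    haveI : Fact (Nat.Prime 7) := ⟨by norm_num⟩
    haveI := SmallModP.isSimpleGroup_psl (p := 7) (by norm_num)
    haveI : IsSimpleGroup H := e.isSimpleGroup
    exact (IsSimpleGroup.eq_bot_or_eq_top_of_normal (W.subgroupOf H) hWn).elim hWne hWtop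

theorem isSolvable_zjN [IsSimpleGroup G] [Fact c.q.Prime] (Q : Sylow c.q G) :
    Group.IsSolvable (c.zjN c.q (Q : Subgroup G)) := by
  set B := c.zjN c.q (Q : Subgroup G)
  obtain ⟨hne, hp, h3⟩ := c.centerThompson_facts Q
  by_cases h : 3 ∣ Nat.card B
  · rcases c.nilpotent_or_alt h (c.not_nine_dvd hne h3 le_rfl) c.hq3
      (le_normalizer : Cfsg.centerThompsonOf c.q (Q : Subgroup G) ≤ B) le_rfl hp hne with
      ⟨N, hN, hnil, -, hq⟩ | ⟨h2, -⟩
    · haveI := hN
      haveI := hnil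
      haveI : Group.IsSolvable (B ⧸ N) := by
        rcases hq with h | ⟨⟨e⟩⟩
        · haveI : Fact (Nat.Prime 3) := ⟨Nat.prime_three⟩
          haveI : IsCyclic (B ⧸ N) := isCyclic_of_prime_card h
          infer_instance
        · haveI : Group.IsSolvable (Equiv.Perm (Fin 3)) :=
            Cfsg.Agent.S0144.result 2 3 1 1 Nat.prime_two Nat.prime_three (by
              rw [Nat.card_perm, Nat.card_fin]; norm_num [Nat.factorial])
          exact Group.isSolvable_of_isSolvable_injective (f := e.toMonoidHom) e.injective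
      exact Group.isSolvable_of_ker_le_range N.subtype (QuotientGroup.mk' N) (by
        rw [QuotientGroup.ker_mk', range_subtype])
    · exact absurd h2 c.hq2
  · exact c.isSolvable_of_not_three h

/-- Fusion inside `Q` is controlled by `N(Z(J(Q)))`. -/
theorem exists_factor [Fact c.q.Prime] (Q : Sylow c.q G) {A : Subgroup G}
    (hA : A ≤ (Q : Subgroup G)) {g : G} (hg : ∀ x ∈ A, g⁻¹ * x * g ∈ (Q : Subgroup G)) :
    ∃ d ∈ centralizer (A : Set G), ∃ n ∈ c.zjN c.q (Q : Subgroup G), g = d * n := by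
  obtain ⟨n, hn, hconj⟩ := Cfsg.Agent.S0118.result (p := c.q) c.hq2 c.not_sl_section Q
    (A : Set G) hA g (by rintro _ ⟨x, hx, rfl⟩; exact hg x hx)
  refine ⟨g * n⁻¹, mem_centralizer_iff.2 fun x hx => ?_, n, hn, by group⟩
  have := hconj x hx
  calc x * (g * n⁻¹) = g * (g⁻¹ * x * g) * n⁻¹ := by group
    _ = g * (n⁻¹ * x * n) * n⁻¹ := by rw [this]
    _ = g * n⁻¹ * x := by group

omit c in
theorem smul_eq_self_iff {H : Subgroup G} {x g : G} :
    x • (g : G ⧸ H) = (g : G ⧸ H) ↔ g⁻¹ * x * g ∈ H := by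
  rw [MulAction.Quotient.smul_coe, QuotientGroup.eq, smul_eq_mul]
  constructor <;> intro h
  · have := inv_mem h
    simpa [mul_assoc] using this
  · have := inv_mem h
    simpa [mul_assoc] using this

/-- The number of cosets of `Q` fixed by a nontrivial `q`-subgroup divides `3 · 2 ^ i · q ^ j`. -/
theorem card_fixed_dvd [IsSimpleGroup G] [Fact c.q.Prime] (Q : Sylow c.q G) (X : Subgroup G)
    (hX : IsPGroup c.q X) (hX1 : X ≠ ⊥) :
    ∃ i j : ℕ, Nat.card {p : G ⧸ (Q : Subgroup G) // ∀ x ∈ X, x • p = p} ∣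
      3 * 2 ^ i * c.q ^ j := by
  classical
  -- conjugate into `Q`
  obtain ⟨S, hS⟩ := hX.exists_le_sylow
  obtain ⟨w, hw⟩ := MulAction.exists_smul_eq G S Q
  set Y := X.map (MulAut.conj w).toMonoidHom
  have hY : Y ≤ (Q : Subgroup G) := by
    rw [← hw, Sylow.coe_subgroup_smul]
    exact map_mono hS
  have hcardY : Nat.card {p : G ⧸ (Q : Subgroup G) // ∀ x ∈ X, x • p = p} =
      Nat.card {p : G ⧸ (Q : Subgroup G) // ∀ x ∈ Y, x • p = p} := by
    refine Nat.card_congr (Equiv.subtypeEquiv (MulAction.toPerm w) fun p => ⟨?_, ?_⟩)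
    · rintro h _ ⟨x, hx, rfl⟩
      simp [mul_smul, h x hx]
    · intro h x hx
      have := h _ ⟨x, hx, rfl⟩
      simpa [mul_smul] using this
  rw [hcardY]
  set B := c.zjN c.q (Q : Subgroup G) with hB
  have hQB : (Q : Subgroup G) ≤ B := le_normalizer.trans (c.normalizer_le_zjN _)
  set C := centralizer (Y : Set G) with hC
  let Qs : Sylow c.q B := Q.subtype hQB
  let Ys : Subgroup B := Y.subgroupOf B
  let P0 := {p : B ⧸ (Qs : Subgroup B) // ∀ x ∈ Ys, x • p = p}
  have hP0 : Nat.card P0 ∣ (Qs : Subgroup B).index := by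
    refine card_fixed_dvd_index.{u} (Nat.card B) B le_rfl (c.isSolvable_zjN Q) Qs Ys ?_
    exact (Q.isPGroup'.to_le hY).comap_subtype
  -- choose representatives
  have hrep : ∀ p : P0, ∃ n : B, (n : B ⧸ (Qs : Subgroup B)) = p.1 :=
    fun p => QuotientGroup.mk_surjective p.1
  choose r hr using hrep
  have hfix : ∀ (d : C) (p : P0), ∀ x ∈ Y,
      x • (((d : G) * (r p : G) : G) : G ⧸ (Q : Subgroup G)) =
        (((d : G) * (r p : G) : G) : G ⧸ (Q : Subgroup G)) := by
    intro d p x hx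
    rw [smul_eq_self_iff]
    have hc := mem_centralizer_iff.1 d.2 x hx
    have e : ((d : G) * r p)⁻¹ * x * ((d : G) * r p) = (r p : G)⁻¹ * x * r p := by
      calc ((d : G) * r p)⁻¹ * x * ((d : G) * r p)
          = (r p : G)⁻¹ * (d : G)⁻¹ * (x * d) * r p := by group
        _ = (r p : G)⁻¹ * (d : G)⁻¹ * ((d : G) * x) * r p := by rw [hc]
        _ = _ := by group
    rw [e]
    have h1 := p.2 ⟨x, hQB (hY hx)⟩ hx
    rw [← hr p, MulAction.Quotient.smul_coe, QuotientGroup.eq, smul_eq_mul] at h1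
    have h2 : ((((⟨x, hQB (hY hx)⟩ : B) * r p)⁻¹ * r p : B) : G) ∈ (Q : Subgroup G) := h1
    have h3 := inv_mem h2
    simpa [mul_assoc] using h3
  let Φ : C × P0 → {p : G ⧸ (Q : Subgroup G) // ∀ x ∈ Y, x • p = p} :=
    fun dp => ⟨(((dp.1 : G) * (r dp.2 : G) : G) : G ⧸ (Q : Subgroup G)), hfix dp.1 dp.2⟩
  have hsurj : ∀ p, ∃ dp, Φ dp = p := by
    intro p
    obtain ⟨g, hg⟩ := QuotientGroup.mk_surjective p.1
    have hgY : ∀ x ∈ Y, g⁻¹ * x * g ∈ (Q : Subgroup G) := fun x hx =>
      smul_eq_self_iff.1 (by rw [hg]; exact p.2 x hx)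
    obtain ⟨d, hd, n, hn, hgdn⟩ := c.exists_factor Q hY hgY
    have hfx : ∀ x ∈ Ys, x • ((⟨n, hn⟩ : B) : B ⧸ (Qs : Subgroup B)) =
        ((⟨n, hn⟩ : B) : B ⧸ (Qs : Subgroup B)) := by
      intro x hx
      rw [MulAction.Quotient.smul_coe, QuotientGroup.eq, smul_eq_mul]
      show (((x * ⟨n, hn⟩)⁻¹ * ⟨n, hn⟩ : B) : G) ∈ (Q : Subgroup G)
      have h1 := inv_mem (hgY (x : G) hx)
      rw [hgdn] at h1
      have hc := mem_centralizer_iff.1 hd (x : G) hx
      have e : ((d * n)⁻¹ * (x : G) * (d * n))⁻¹ = ((x : G) * n)⁻¹ * n := by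
        calc ((d * n)⁻¹ * (x : G) * (d * n))⁻¹ = (n⁻¹ * d⁻¹ * ((x : G) * d) * n)⁻¹ := by group
          _ = (n⁻¹ * d⁻¹ * (d * (x : G)) * n)⁻¹ := by rw [hc]
          _ = _ := by group
      rw [e] at h1
      exact h1
    let p0 : P0 := ⟨_, hfx⟩
    refine ⟨(⟨d, hd⟩, p0), Subtype.ext ?_⟩
    show ((d * (r p0 : G) : G) : G ⧸ (Q : Subgroup G)) = p.1
    rw [← hg, hgdn, QuotientGroup.eq]
    have h1 : ((r p0)⁻¹ * ⟨n, hn⟩ : B) ∈ (Qs : Subgroup B) := QuotientGroup.eq.1 (hr p0)
    have h2 : ((r p0 : G)⁻¹ * n) ∈ (Q : Subgroup G) := h1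
    simpa [mul_assoc] using h2
  -- each fibre is a coset of `C_B(Y)`
  set CB := (C ⊓ B).subgroupOf C with hCB
  have hfibre : ∀ p, Nat.card {dp // Φ dp = p} = Nat.card ↥(C ⊓ B) := by
    intro p
    obtain ⟨⟨d₀, p₀⟩, h₀⟩ := hsurj p
    have hkey : ∀ (d : C) (p' : P0), Φ (d, p') = Φ (d₀, p₀) →
        ((d₀ : G)⁻¹ * d) ∈ C ⊓ B := by
      intro d p' e
      refine ⟨mul_mem (C.inv_mem d₀.2) d.2, ?_⟩
      have h := QuotientGroup.eq.1 (congrArg Subtype.val e).symm
      have : (d₀ : G)⁻¹ * d = (r p₀ : G) * (((d₀ : G) * r p₀)⁻¹ * ((d : G) * r p')) *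
          (r p' : G)⁻¹ := by group
      rw [this]
      exact mul_mem (mul_mem (r p₀).2 (hQB h)) (B.inv_mem (r p').2)
    have hmk : ∀ e : ↥(C ⊓ B), ∃ p' : P0,
        Φ (⟨(d₀ : G) * e, mul_mem d₀.2 e.2.1⟩, p') = Φ (d₀, p₀) := by
      intro e
      refine ⟨⟨(⟨(e : G)⁻¹, B.inv_mem e.2.2⟩ * r p₀ : B), fun x hx => ?_⟩, Subtype.ext ?_⟩
      · have h1 := p₀.2 x hx
        rw [← hr p₀] at h1
        have hcomm : x * (⟨(e : G)⁻¹, B.inv_mem e.2.2⟩ : B) = (⟨(e : G)⁻¹, B.inv_mem e.2.2⟩ : B) * x :=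
          Subtype.ext (mem_centralizer_iff.1 (C.inv_mem e.2.1) (x : G) hx)
        rw [MulAction.Quotient.smul_coe, smul_eq_mul, ← mul_assoc, hcomm, mul_assoc]
        rw [MulAction.Quotient.smul_coe, smul_eq_mul, QuotientGroup.eq] at h1
        rw [QuotientGroup.eq]
        simpa [mul_assoc] using h1
      · set q' : P0 := ⟨((⟨(e : G)⁻¹, B.inv_mem e.2.2⟩ * r p₀ : B) : B ⧸ (Qs : Subgroup B)), _⟩
        show (((d₀ : G) * e * (r q' : G) : G) : G ⧸ (Q : Subgroup G)) = _
        refine QuotientGroup.eq.2 ?_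
        have h1 : (((r q')⁻¹ * (⟨(e : G)⁻¹, B.inv_mem e.2.2⟩ * r p₀) : B) : G) ∈
            (Q : Subgroup G) := (show (r q')⁻¹ * (⟨(e : G)⁻¹, B.inv_mem e.2.2⟩ * r p₀) ∈
              (Qs : Subgroup B) from QuotientGroup.eq.1 (hr q'))
        simpa [mul_assoc] using h1
    choose P' hP' using hmk
    rw [← h₀]
    refine (Nat.card_congr (Equiv.ofBijective
      (fun e : ↥(C ⊓ B) => (⟨(⟨(d₀ : G) * e, mul_mem d₀.2 e.2.1⟩, P' e), hP' e⟩ :
        {dp // Φ dp = Φ (d₀, p₀)})) ⟨?_, ?_⟩)).symm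
    · intro e e' h
      have := congrArg (fun t => (((t.1).1 : C) : G)) h
      exact Subtype.ext (mul_left_cancel this)
    · rintro ⟨⟨d, p'⟩, hdp⟩
      refine ⟨⟨(d₀ : G)⁻¹ * d, hkey d p' hdp⟩, Subtype.ext (Prod.ext (Subtype.ext ?_) ?_)⟩
      · simp
      · set e : ↥(C ⊓ B) := ⟨(d₀ : G)⁻¹ * d, hkey d p' hdp⟩
        refine Subtype.ext ?_
        rw [← hr (P' e), ← hr p', QuotientGroup.eq]
        have h := QuotientGroup.eq.1 (congrArg Subtype.val ((hP' e).trans hdp.symm))
        show (((r (P' e))⁻¹ * r p' : B) : G) ∈ (Q : Subgroup G)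
        simpa [e, mul_assoc] using h
  have hcount : Nat.card (C × P0) =
      Nat.card {p : G ⧸ (Q : Subgroup G) // ∀ x ∈ Y, x • p = p} * Nat.card ↥(C ⊓ B) := by
    haveI := Fintype.ofFinite {p : G ⧸ (Q : Subgroup G) // ∀ x ∈ Y, x • p = p}
    rw [← Nat.card_congr (Equiv.sigmaFiberEquiv Φ), Nat.card_sigma,
      Finset.sum_congr rfl fun p _ => hfibre p, Finset.sum_const, Finset.card_univ, smul_eq_mul,
      Nat.card_eq_fintype_card (α := {p : G ⧸ (Q : Subgroup G) // ∀ x ∈ Y, x • p = p})]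
  have hdvd : Nat.card {p : G ⧸ (Q : Subgroup G) // ∀ x ∈ Y, x • p = p} ∣
      Nat.card C * Nat.card B := by
    refine (Dvd.intro _ hcount.symm).trans ?_
    rw [Nat.card_prod]
    exact Nat.mul_dvd_mul_left _ (hP0.trans (index_dvd_card _))
  have hYne : Y ≠ ⊥ := fun h => hX1 ((map_eq_bot_iff_of_injective _ (MulAut.conj w).injective).1 h)
  have hY3 : ¬ 3 ∣ Nat.card Y := fun h => by
    obtain ⟨k, hk⟩ := (Q.isPGroup'.to_le hY).exists_card_eq
    rw [hk] at h
    exact c.hq3 ((Nat.prime_dvd_prime_iff_eq Nat.prime_three c.hq).1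
      (Nat.prime_three.dvd_of_dvd_pow h)).symm
  obtain ⟨i, j, -, -, hCc⟩ := c.card_eq_of_not_three (c.not_three_dvd_centralizer hYne hY3)
  obtain ⟨hne, -, h3⟩ := c.centerThompson_facts Q
  have h9 : ¬ 9 ∣ Nat.card B := c.not_nine_dvd hne h3 le_rfl
  have hB3 : Nat.card B ∣ 3 * (2 ^ c.a * c.q ^ c.b) := by
    have h1 : Nat.card B ∣ 3 ^ 2 * (2 ^ c.a * c.q ^ c.b) := by
      rw [show 3 ^ 2 * (2 ^ c.a * c.q ^ c.b) = Nat.card G by rw [c.card]; ring]
      exact card_subgroup_dvd_card B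
    obtain ⟨u, v, hu, hv, huv⟩ := exists_dvd_and_dvd_of_dvd_mul h1
    obtain ⟨l, hl, rfl⟩ := (Nat.dvd_prime_pow Nat.prime_three).1 hu
    have : l ≤ 1 := by
      by_contra h
      exact h9 (huv ▸ ((pow_dvd_pow 3 (show 2 ≤ l by omega)).mul_right v))
    rw [huv]
    exact Nat.mul_dvd_mul ((pow_dvd_pow 3 this).trans (by rw [pow_one])) hv
  refine ⟨i + c.a, j + c.b, hdvd.trans ?_⟩
  calc Nat.card C * Nat.card B ∣ 2 ^ i * c.q ^ j * (3 * (2 ^ c.a * c.q ^ c.b)) :=
        Nat.mul_dvd_mul hCc.dvd hB3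
    _ = 3 * 2 ^ (i + c.a) * c.q ^ (j + c.b) := by rw [pow_add, pow_add]; ring

end Ctx

end CfsgLib.NineTwoQSelf
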