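import Cfsg.Agent.BlocksLocal.PrincipalSection
import Cfsg.Agent.BlockDegrees.Regular
import Cfsg.Agent.BlocksCharsC.RegularSupport
import Cfsg.Agent.PLocal.Constraint
import Cfsg.Agent.S0942

/-!
# Linking commuting elements of coprime prime-power orders

Let `p ≠ r` be primes, `k` an element of order prime to both with integral character values, and
`W = ∑ χ(k) χ` over the characters lying in both principal blocks. If every nonprincipal term has
degree divisible by `r`, then for an `r`-element `y` and a `p`-element `u` in `O_{r'}(C(y))` the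
element `y` lies in `O_{p'}(C(u))`.
-/

set_option autoImplicit false
set_option linter.style.haveILetI false
set_option linter.unusedSectionVars false

namespace CfsgLib.NineTwoQSelf

open Cfsg CfsgLib.Blocks CfsgLib.BlocksLocal CfsgLib.PrincipalBlock
open scoped ComplexConjugate

universe u

variable {G : Type u} [Group G] [Fintype G]

open Classical in
/-- An irreducible character sums to zero on each coset of a normal subgroup outside its kernel. -/
theorem sum_coset_eq_zero {H : Type u} [Group H] [Fintype H] (N : Subgroup H) [N.Normal]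
    (χ : IrrCharacter H) (h : ¬ N ≤ charKer χ) (y : H) :
    ∑ g : H, (if g ∈ N then (χ : H → ℂ) (y * g) else 0) = 0 := by
  obtain ⟨n, ρ, hρ, hχ⟩ := χ.2
  obtain ⟨k, hk, hkne⟩ := SetLike.not_le_iff_exists.mp h
  set S : (Fin n → ℂ) →ₗ[ℂ] (Fin n → ℂ) := ∑ g : H, if g ∈ N then ρ g else 0 with hS
  have hcomm : ∀ (x : H) (v : Fin n → ℂ), S (ρ x v) = ρ x (S v) := by
    intro x v
    have : S * ρ x = ρ x * S := by
      rw [hS, Finset.sum_mul, Finset.mul_sum]
      refine Fintype.sum_equiv (MulAut.conj x⁻¹).toEquiv _ _ fun g => ?_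
      have hmem : (MulAut.conj x⁻¹).toEquiv g ∈ N ↔ g ∈ N := by
        simp only [MulEquiv.toEquiv_eq_coe, EquivLike.coe_coe, MulAut.conj_apply, inv_inv]
        exact ⟨fun h1 => by simpa [mul_assoc] using Subgroup.Normal.conj_mem ‹_› _ h1 x,
          fun h1 => Subgroup.Normal.conj_mem' ‹_› _ h1 x⟩
      simp only [hmem]
      split_ifs with hg
      · simp [← map_mul, mul_assoc]
      · simp
    exact DFunLike.congr_fun this v
  obtain ⟨c, hc⟩ := Characters.schur_scalar ρ S hcomm
  have hkS : ρ k * S = S := by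
    rw [hS, Finset.mul_sum]
    refine Fintype.sum_equiv (Equiv.mulLeft k) _ _ fun g => ?_
    simp only [Equiv.coe_mulLeft, N.mul_mem_cancel_left hk]
    split_ifs with hg
    · rw [map_mul]
    · simp
  have hc0 : c = 0 := by
    by_contra hc0
    apply hkne
    have hone : ρ k = 1 := by
      refine LinearMap.ext fun v => ?_
      have h1 := DFunLike.congr_fun hkS v
      rw [Module.End.mul_apply, hc] at h1
      simp only [LinearMap.smul_apply, LinearMap.id_apply, map_smul] at h1
      exact smul_right_injective _ hc0 h1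
    rw [mem_charKer, ← hχ, Representation.character, hone, ← map_one ρ]
    rfl
  have hz : ρ y * S = 0 := by
    rw [hc, hc0, zero_smul, mul_zero]
  have htr := congrArg (LinearMap.trace ℂ (Fin n → ℂ)) hz
  rw [hS, Finset.mul_sum, map_sum, map_zero] at htr
  refine Eq.trans (Finset.sum_congr rfl fun g _ => ?_) htr
  rw [← hχ]
  split_ifs
  · rw [← map_mul]; rfl
  · simp

variable {p r : ℕ} [Fact p.Prime] [Fact r.Prime] {Mp Mr : Ideal AlgInt} [Mp.IsPrime] [Mr.IsPrime]

open Classical in
/-- **Linking.** -/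
theorem mem_pPrimeCore_of_linked (hMp : Cfsg.IsPModular p Mp) (hMr : Cfsg.IsPModular r Mr)
    (hpr : p ≠ r) {k : G} (hkr : ¬ r ∣ orderOf k)
    (v : IrrCharacter G → ℤ) (hv : ∀ χ : IrrCharacter G, (χ : G → ℂ) k = v χ)
    (hdeg : ∀ χ : IrrCharacter G, χ ≠ trivChar G → χ ∈ Cfsg.principalBlock Mp G →
      χ ∈ Cfsg.principalBlock Mr G → v χ ≠ 0 → ∃ d : ℕ, (χ : G → ℂ) 1 = d ∧ r ∣ d)
    {u y : G} (hu : ∃ i, orderOf u = p ^ i) (hy : ∃ i, orderOf y = r ^ i)
    (hs : Group.IsSolvable ↥(Subgroup.centralizer ({u} : Set G)))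
    (hmem : u ∈ Cfsg.centralizerPPrimeCore r y) :
    y ∈ Cfsg.centralizerPPrimeCore p u := by
  have hp : p.Prime := Fact.out
  have hr : r.Prime := Fact.out
  have huy : y * u = u * y :=
    (Subgroup.mem_centralizer_singleton_iff.1 (Subgroup.map_subtype_le _ hmem)).symm
  set H := Subgroup.centralizer ({u} : Set G) with hH
  haveI := Fintype.ofFinite H
  have hyH : y ∈ H := Subgroup.mem_centralizer_singleton_iff.2 huy
  set K := Cfsg.pPrimeCore p H with hK
  by_contra hcon
  have hyK : (⟨y, hyH⟩ : H) ∉ K := fun h => hcon ⟨⟨y, hyH⟩, h, rfl⟩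
  set Bp := Cfsg.principalBlock Mp G
  set Br := Cfsg.principalBlock Mr G
  let W : G → ℂ := fun g => ∑ χ : IrrCharacter G,
    if χ ∈ Bp ∧ χ ∈ Br then (v χ : ℂ) * (χ : G → ℂ) g else 0
  -- the value at `u * y` is congruent to one
  have hne : W (u * y) ≠ 0 := by
    have e1 : W (u * y) = W y := by
      refine Finset.sum_congr rfl fun χ _ => ?_
      split_ifs with h
      · rw [← huy, Cfsg.Agent.S0942.result r Mr hMr y hy u hmem χ h.2]
      · rfl
    rw [e1]
    have hloc : ∀ χ : IrrCharacter G, Cfsg.MemLocalRing Mr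
        (if χ ∈ Bp ∧ χ ∈ Br then (v χ : ℂ) * (χ : G → ℂ) y else 0) := by
      intro χ
      split_ifs
      · exact (localRing Mr).mul_mem (intCast_mem _ _) (memLocalRing_char χ _)
      · exact (localRing Mr).zero_mem
    have hWy : (⟨W y, (localRing Mr).sum_mem fun χ _ => hloc χ⟩ : localRing Mr) =
        ∑ χ : IrrCharacter G, (⟨_, hloc χ⟩ : localRing Mr) := Subtype.ext (by simp [W])
    intro hzero
    have h0 : red Mr (∑ χ : IrrCharacter G, (⟨_, hloc χ⟩ : localRing Mr)) = 0 := by
      rw [← hWy, show (⟨W y, _⟩ : localRing Mr) = 0 from Subtype.ext hzero, map_zero]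
    have hterm : ∀ χ : IrrCharacter G, red Mr ⟨_, hloc χ⟩ = if χ = trivChar G then 1 else 0 := by
      intro χ
      by_cases ht : χ = trivChar G
      · rw [if_pos ht, ← map_one (red Mr)]
        refine congrArg _ (Subtype.ext ?_)
        have h1 := hv χ
        rw [ht, trivChar_apply] at h1
        simp only [ht, trivChar_apply, mul_one]
        rw [if_pos ⟨trivChar_mem, trivChar_mem⟩, ← h1]
        rfl
      · rw [if_neg ht]
        by_cases h : (χ ∈ Bp ∧ χ ∈ Br) ∧ v χ ≠ 0
        · obtain ⟨d, hd, hrd⟩ := hdeg χ ht h.1.1 h.1.2 h.2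
          obtain ⟨i, hi⟩ := hy
          have hc := BlockDegrees.red_char_mul hMr χ (c := 1) hi (Commute.one_right y)
          simp only [mul_one] at hc
          have hval : (⟨_, hloc χ⟩ : localRing Mr) =
              ((v χ : localRing Mr)) * ⟨(χ : G → ℂ) y, memLocalRing_char χ _⟩ :=
            Subtype.ext (by simp [if_pos h.1])
          rw [hval, map_mul, hc,
            show (⟨(χ : G → ℂ) 1, memLocalRing_char χ _⟩ : localRing Mr) = (d : localRing Mr) from
              Subtype.ext (by simp [hd]), map_natCast]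
          haveI := charP_res hMr
          rw [(CharP.cast_eq_zero_iff (Res Mr) r d).2 hrd, mul_zero]
        · rw [← map_zero (red Mr)]
          refine congrArg _ (Subtype.ext ?_)
          show (if χ ∈ Bp ∧ χ ∈ Br then (v χ : ℂ) * (χ : G → ℂ) y else 0) = 0
          split_ifs with h'
          · rw [show v χ = 0 from not_not.1 fun hv0 => h ⟨h', hv0⟩]
            simp
          · rfl
    rw [map_sum, Finset.sum_congr rfl fun χ _ => hterm χ, Finset.sum_ite_eq'] at h0
    simp at h0
  apply hne
  -- the sum over the coset `y K`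
  have hKp : ¬ p ∣ Nat.card K :=
    PLocal.not_dvd_iff_coprime.1 (PLocal.coprime_card_pPrimeCore p H)
  obtain ⟨i, hi⟩ := hy
  have hreg : ∀ o : H, o ∈ K → ¬ p ∣ orderOf (⟨y, hyH⟩ * o) := by
    intro o ho hdvd
    have h1 : orderOf (QuotientGroup.mk' K (⟨y, hyH⟩ * o)) ∣ r ^ i := by
      rw [map_mul, show QuotientGroup.mk' K o = 1 from (QuotientGroup.eq_one_iff o).2 ho, mul_one,
        ← hi]
      exact (orderOf_map_dvd _ (⟨y, hyH⟩ : H)).trans (Subgroup.orderOf_mk y hyH).dvd
    set m := orderOf (QuotientGroup.mk' K (⟨y, hyH⟩ * o))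
    have h2 : (⟨y, hyH⟩ * o) ^ m ∈ K := by
      rw [← QuotientGroup.eq_one_iff]
      show QuotientGroup.mk' K ((⟨y, hyH⟩ * o) ^ m) = 1
      rw [map_pow, pow_orderOf_eq_one]
    have h3 : orderOf (⟨y, hyH⟩ * o) ∣ m * Nat.card K := by
      rw [orderOf_dvd_iff_pow_eq_one, pow_mul]
      exact congrArg Subtype.val (pow_card_eq_one' (x := (⟨_, h2⟩ : K)))
    rcases hp.dvd_mul.1 (hdvd.trans h3) with h | h
    · exact hpr ((Nat.prime_dvd_prime_iff_eq hp hr).1 (hp.dvd_of_dvd_pow (h.trans h1)))
    · exact hKp h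
  have hsing : ∀ o : H, o ∈ K → r ∣ orderOf (u * ((⟨y, hyH⟩ * o : H) : G)) := by
    intro o ho
    have hc : Commute u ((⟨y, hyH⟩ * o : H) : G) :=
      (show Commute ((⟨y, hyH⟩ * o : H) : G) u from
        Subgroup.mem_centralizer_singleton_iff.1 (⟨y, hyH⟩ * o : H).2).symm
    obtain ⟨j, hj⟩ := hu
    rw [hc.orderOf_mul_eq_mul_orderOf_of_coprime (by
      rw [hj, Subgroup.orderOf_coe]
      exact (hp.coprime_iff_not_dvd.2 (hreg o ho)).pow_left j)]
    refine Dvd.dvd.mul_left ?_ _
    rw [Subgroup.orderOf_coe]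
    have h1 : orderOf (QuotientGroup.mk' K (⟨y, hyH⟩ * o)) ∣ orderOf (⟨y, hyH⟩ * o) :=
      orderOf_map_dvd _ _
    refine Dvd.dvd.trans ?_ h1
    rw [map_mul, show QuotientGroup.mk' K o = 1 from (QuotientGroup.eq_one_iff o).2 ho, mul_one]
    have h2 : orderOf (QuotientGroup.mk' K (⟨y, hyH⟩ : H)) ∣ r ^ i := by
      rw [← hi]
      exact (orderOf_map_dvd _ (⟨y, hyH⟩ : H)).trans (Subgroup.orderOf_mk y hyH).dvd
    obtain ⟨l, -, hl⟩ := (Nat.dvd_prime_pow hr).1 h2
    rw [hl]
    refine dvd_pow_self r fun h0 => hyK ((QuotientGroup.eq_one_iff _).1 ?_)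
    show QuotientGroup.mk' K (⟨y, hyH⟩ : H) = 1
    rw [← orderOf_eq_one_iff, hl, h0, pow_zero]
  set b0 := Cfsg.principalBlock Mp H
  have hker : ∀ ξ : IrrCharacter H, ξ ∉ b0 → ¬ K ≤ charKer ξ := by
    intro ξ hξ hle
    have hcon : Cfsg.IsPConstrained p H := PLocal.isPConstrained_of_isPSolvable
      PLocal.isPSolvable_of_isSolvable
    let P : Sylow p (Cfsg.pPrimePCore p H) := default
    exact hξ (mem_principalBlock_of_ker hMp K
      ((P : Subgroup (Cfsg.pPrimePCore p H)).map (Cfsg.pPrimePCore p H).subtype)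
      (Cfsg.pPrimePCore p H) hKp (P.isPGroup'.map _)
      (by rw [sup_comm]; exact PLocal.sylow_pPrimePCore_sup P) (hcon P) hle)
  -- split each character on the section of `u`
  have hsplit : ∀ χ : IrrCharacter G, ∑ o : H, (if o ∈ K then
      (χ : G → ℂ) (u * ((⟨y, hyH⟩ * o : H) : G)) else 0) =
      if χ ∈ Bp then (Nat.card K : ℂ) * (χ : G → ℂ) (u * y) else 0 := by
    intro χ
    set θ : H → ℂ := fun c => (χ : G → ℂ) (u * (c : G)) with hθ
    have hθc : Cfsg.IsClassFunction H θ :=
      isClassFunction_translate _ (Characters.isClassFunction_of_isIrr χ.2) u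
    have hP : ∀ o : H, o ∈ K → Cfsg.blockPart b0 θ (⟨y, hyH⟩ * o) =
        if χ ∈ Bp then (χ : G → ℂ) (u * y) else 0 := by
      intro o ho
      have e2 := blockPart_principal_translate hMp hu χ (y := (⟨y, hyH⟩ : H)) (by
        have := hreg 1 K.one_mem
        rwa [mul_one] at this)
      refine Eq.trans ?_ e2
      simp only [Cfsg.blockPart, finsum_irr_mem]
      refine Finset.sum_congr rfl fun ξ _ => ?_
      split_ifs with hξ
      · congr 1
        exact apply_mul_of_eq_one ξ (mem_charKer.1 (le_charKer_of_mem hMp K hKp hξ ho)) _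
      · rfl
    have hQ : ∑ o : H, (if o ∈ K then Cfsg.blockPart b0ᶜ θ (⟨y, hyH⟩ * o) else 0) = 0 := by
      have hsw : ∀ o : H, (if o ∈ K then Cfsg.blockPart b0ᶜ θ (⟨y, hyH⟩ * o) else 0) =
          ∑ ξ : IrrCharacter H, (if o ∈ K then (if ξ ∈ b0ᶜ then Cfsg.classInner θ (ξ : H → ℂ) *
            (ξ : H → ℂ) (⟨y, hyH⟩ * o) else 0) else 0) := fun o => by
        by_cases ho : o ∈ K
        · simp only [if_pos ho, Cfsg.blockPart, finsum_irr_mem]
          rw [show Fintype.ofFinite H = ‹Fintype H› from Subsingleton.elim _ _]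
        · simp only [if_neg ho, Finset.sum_const_zero]
      rw [Finset.sum_congr rfl fun o _ => hsw o, Finset.sum_comm]
      refine Finset.sum_eq_zero fun ξ _ => ?_
      have he : ∀ o : H, (if o ∈ K then (if ξ ∈ b0ᶜ then Cfsg.classInner θ (ξ : H → ℂ) *
          (ξ : H → ℂ) (⟨y, hyH⟩ * o) else 0) else 0) =
          (if ξ ∈ b0ᶜ then Cfsg.classInner θ (ξ : H → ℂ) else 0) *
            (if o ∈ K then (ξ : H → ℂ) (⟨y, hyH⟩ * o) else 0) := fun o => by
        by_cases h1 : o ∈ K <;> by_cases h2 : ξ ∈ b0ᶜ <;>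
          simp only [h1, h2, if_pos, if_neg, not_false_iff, mul_zero, zero_mul]
      rw [Finset.sum_congr rfl fun o _ => he o, ← Finset.mul_sum]
      by_cases hξ : ξ ∈ b0ᶜ
      · rw [sum_coset_eq_zero K ξ (hker ξ hξ) (⟨y, hyH⟩ : H), mul_zero]
      · rw [if_neg hξ, zero_mul]
    calc ∑ o : H, (if o ∈ K then θ (⟨y, hyH⟩ * o) else 0)
        = ∑ o : H, ((if o ∈ K then (if χ ∈ Bp then (χ : G → ℂ) (u * y) else 0) else 0) +
            (if o ∈ K then Cfsg.blockPart b0ᶜ θ (⟨y, hyH⟩ * o) else 0)) := by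
          refine Finset.sum_congr rfl fun o _ => ?_
          split_ifs with ho h
          · rw [← blockPart_add_compl b0 hθc, hP o ho, if_pos h]
          · rw [← blockPart_add_compl b0 hθc, hP o ho, if_neg h]
          · simp
      _ = _ := by
          rw [Finset.sum_add_distrib, hQ, add_zero, ← Finset.sum_filter, Finset.sum_const,
            nsmul_eq_mul]
          rw [show (Finset.univ.filter fun o : H => o ∈ K).card = Nat.card K by
            rw [Nat.card_eq_fintype_card, Fintype.card_subtype]]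
          split_ifs <;> simp
  -- weak block orthogonality kills every term of the coset sum
  have hvan : ∀ g : G, r ∣ orderOf g →
      ∑ χ : IrrCharacter G, (if χ ∈ Br then (v χ : ℂ) * (χ : G → ℂ) g else 0) = 0 := by
    intro g hg
    refine Eq.trans (Finset.sum_congr rfl fun χ _ => ?_) (sum_union_mul_conj_eq_zero hMr
      (A := Br) (isBlockUnion_of_isPBlock isPBlock_principalBlock) hkr (y := g⁻¹)
      (by rwa [orderOf_inv]))
    split_ifs
    · rw [hv, Characters.character_inv (Characters.isCharacter_of_isIrr χ.2), Complex.conj_conj]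
    · rfl
  have htot : (Nat.card K : ℂ) * W (u * y) = 0 := by
    calc (Nat.card K : ℂ) * W (u * y)
        = ∑ χ : IrrCharacter G, (if χ ∈ Br then (v χ : ℂ) *
            ∑ o : H, (if o ∈ K then (χ : G → ℂ) (u * ((⟨y, hyH⟩ * o : H) : G)) else 0)
            else 0) := by
          simp only [W, Finset.mul_sum]
          refine Finset.sum_congr rfl fun χ _ => ?_
          rw [← Finset.mul_sum, hsplit χ]
          by_cases h1 : χ ∈ Br <;> by_cases h2 : χ ∈ Bp <;>
            simp [h1, h2, mul_left_comm]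
      _ = ∑ o : H, (if o ∈ K then ∑ χ : IrrCharacter G,
            (if χ ∈ Br then (v χ : ℂ) * (χ : G → ℂ) (u * ((⟨y, hyH⟩ * o : H) : G)) else 0)
            else 0) := by
          have h1 : ∀ χ : IrrCharacter G, (if χ ∈ Br then (v χ : ℂ) *
              ∑ o : H, (if o ∈ K then (χ : G → ℂ) (u * ((⟨y, hyH⟩ * o : H) : G)) else 0) else 0) =
              ∑ o : H, (if o ∈ K then (if χ ∈ Br then (v χ : ℂ) *
                (χ : G → ℂ) (u * ((⟨y, hyH⟩ * o : H) : G)) else 0) else 0) := fun χ => by
            by_cases hB : χ ∈ Br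
            · simp only [if_pos hB, Finset.mul_sum]
              exact Finset.sum_congr rfl fun o _ => by split_ifs <;> simp
            · simp only [if_neg hB, ite_self, Finset.sum_const_zero]
          rw [Finset.sum_congr rfl fun χ _ => h1 χ, Finset.sum_comm]
          refine Finset.sum_congr rfl fun o _ => ?_
          by_cases ho : o ∈ K
          · simp only [if_pos ho]
          · simp only [if_neg ho, Finset.sum_const_zero]
      _ = 0 := Finset.sum_eq_zero fun o _ => by
          split_ifs with ho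
          · exact hvan _ (hsing o ho)
          · rfl
  exact (mul_eq_zero.1 htot).resolve_left (Nat.cast_ne_zero.2 Nat.card_pos.ne')

end CfsgLib.NineTwoQSelf
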