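import Cfsg.Agent.NineTwoQSelf.OddType
import Cfsg.Agent.S0904
import Cfsg.Agent.Linear.Basic

/-!
# The centralisers of involutions are 2-groups, and the resulting arithmetic
-/

set_option autoImplicit false
set_option linter.style.haveILetI false
set_option linter.unusedSectionVars false

namespace CfsgLib.NineTwoQSelf

open Subgroup

universe u

/-- An element of order nine in the Sylow 3-subgroup gives three classes of 3-elements. -/
theorem three_classes_of_exp_nine {G : Type u} [Group G] [Finite G] (c : NineTwoQ.Ctx G) {k : G}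
    (hk : k ∈ (c.R : Subgroup G)) (hk3 : k ^ 3 ≠ 1) :
    3 ≤ Nat.card {C : ConjClasses G // ∃ g ∈ C.carrier, g ≠ 1 ∧ orderOf g ∣ 9} := by
  have hk9 : orderOf k = 9 := by
    obtain ⟨i, hi, he⟩ := (Nat.dvd_prime_pow Nat.prime_three).1
      (show orderOf k ∣ 3 ^ 2 from c.orderOf_dvd hk)
    interval_cases i
    · exact absurd (by rw [orderOf_eq_one_iff.1 he, one_pow]) hk3
    · exact absurd (by
        have h := pow_orderOf_eq_one k
        rw [he] at h
        simpa using h) hk3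
    · rw [he]; norm_num
  have hk33 : orderOf (k ^ 3) = 3 := by
    rw [orderOf_pow_of_dvd (by norm_num) (by rw [hk9]; norm_num), hk9]
  have hk2 : orderOf (k ^ 2) = 9 := by
    rw [Nat.Coprime.orderOf_pow (by rw [hk9]; norm_num), hk9]
  have hne : ¬ IsConj k (k ^ 2) := by
    intro h
    obtain ⟨n, hn, hnk⟩ := c.exists_normalizer_conj hk (pow_mem hk 2) h
    have hR : (c.R : Subgroup G) = zpowers k :=
      (eq_of_le_of_card_ge (zpowers_le.2 hk) (by rw [c.card_R, Nat.card_zpowers, hk9])).symm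
    have hstep : ∀ j : ℕ, n * k ^ j * n⁻¹ = k ^ (2 * j) := fun j => by
      rw [← conj_pow, hnk, ← pow_mul]
    have hpow : ∀ i : ℕ, n ^ i * k * (n ^ i)⁻¹ = k ^ (2 ^ i) := by
      intro i
      induction i with
      | zero => simp
      | succ i ih =>
        calc n ^ (i + 1) * k * (n ^ (i + 1))⁻¹ = n * (n ^ i * k * (n ^ i)⁻¹) * n⁻¹ := by
              rw [pow_succ']; group
          _ = k ^ (2 ^ (i + 1)) := by rw [ih, hstep, pow_succ' 2 i]
    have hcube : (n ^ 2) ^ 3 ∈ centralizer ((c.R : Subgroup G) : Set G) := by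
      rw [hR]
      refine mem_centralizer_iff.2 fun x hx => ?_
      obtain ⟨j, rfl⟩ := mem_zpowers_iff.1 hx
      have h6 := hpow (2 * 3)
      rw [pow_mul] at h6
      have h1 : k ^ (2 ^ (2 * 3)) = k := by
        rw [← pow_mod_orderOf, hk9]
        norm_num
      rw [h1] at h6
      exact ((show Commute ((n ^ 2) ^ 3) k from mul_inv_eq_iff_eq_mul.1 h6).zpow_right j).eq.symm
    have h2 := c.act_trivial_of_cube (pow_mem hn 2) hcube
    have h4 := hpow 2
    rw [(mul_inv_eq_iff_eq_mul.2 (mem_centralizer_iff.1 h2 k hk).symm : n ^ 2 * k * (n ^ 2)⁻¹ = k)] at h4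
    apply hk3
    refine mul_left_cancel (a := k) ?_
    rw [mul_one, ← pow_succ']
    exact h4.symm
  have hord : ∀ {x y : G}, IsConj x y → orderOf x = orderOf y := fun {x y} h => by
    obtain ⟨g, rfl⟩ := isConj_iff.1 h
    exact (orderOf_injective (MulAut.conj g).toMonoidHom (MulAut.conj g).injective x).symm
  have hmem : ∀ x : G, x ≠ 1 → orderOf x ∣ 9 →
      ∃ g ∈ (ConjClasses.mk x).carrier, g ≠ 1 ∧ orderOf g ∣ 9 := fun x h1 h9 =>
    ⟨x, ConjClasses.mem_carrier_iff_mk_eq.2 rfl, h1, h9⟩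
  have hne1 : k ≠ 1 := fun h => by rw [h, orderOf_one] at hk9; norm_num at hk9
  have hne2 : k ^ 2 ≠ 1 := fun h => by rw [h, orderOf_one] at hk2; norm_num at hk2
  let e : Fin 3 → {C : ConjClasses G // ∃ g ∈ C.carrier, g ≠ 1 ∧ orderOf g ∣ 9} :=
    ![⟨_, hmem k hne1 (hk9 ▸ dvd_rfl)⟩, ⟨_, hmem (k ^ 2) hne2 (hk2 ▸ dvd_rfl)⟩,
      ⟨_, hmem (k ^ 3) hk3 (by rw [hk33]; norm_num)⟩]
  have he : Function.Injective e := by
    have h12 : ConjClasses.mk k ≠ ConjClasses.mk (k ^ 2) := fun h =>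
      hne (ConjClasses.mk_eq_mk_iff_isConj.1 h)
    have h13 : ConjClasses.mk k ≠ ConjClasses.mk (k ^ 3) := fun h => by
      have := hord (ConjClasses.mk_eq_mk_iff_isConj.1 h); omega
    have h23 : ConjClasses.mk (k ^ 2) ≠ ConjClasses.mk (k ^ 3) := fun h => by
      have := hord (ConjClasses.mk_eq_mk_iff_isConj.1 h); omega
    intro i j h
    fin_cases i <;> fin_cases j <;>
      simp_all [e, Subtype.ext_iff, h12.symm, h13.symm, h23.symm]
  simpa using Nat.card_le_card_of_injective e he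

namespace Ctx

variable {G : Type u} [Group G] [Finite G] [IsSimpleGroup G] (c : Ctx G)
include c

/-- With one class of elements of order three every involution centraliser is a 2-group. -/
theorem isPGroup_involution (hone : ∀ s t : G, orderOf s = 3 → orderOf t = 3 → IsConj s t) {u : G}
    (hu : orderOf u = 2) : IsPGroup 2 (centralizer ({u} : Set G)) := by
  haveI : Fact c.q.Prime := ⟨c.hq⟩
  rcases Nat.lt_or_ge c.b 2 with hb | hb
  · have hb1 : c.b = 1 := by have := c.b_pos.2; omega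
    refine c.isPGroup_of_coprime_q
      (c.not_three_centralizer_two (i := 1) (by rw [hu, pow_one]) (orderOf_two hu).1) fun hq => ?_
    obtain ⟨y, hyu, hy⟩ := c.exists_order_q hq
    obtain ⟨S, hS⟩ := (isPGroup_zpowers_of_orderOf (i := 1) (by rw [hy, pow_one]) :
      IsPGroup c.q (zpowers y)).exists_le_sylow
    have hSy : zpowers y = (S : Subgroup G) := eq_of_le_of_card_ge hS (by
      rw [(c.index_sylow S).2, Nat.card_zpowers, hy, hb1, pow_one])
    have hC := Cfsg.Agent.S0904.result 2 3 c.q c.a 2 Nat.prime_two Nat.prime_three (by norm_num)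
      (Ne.symm c.hq2) (Ne.symm c.hq3) (by rw [c.card, hb1]; ring) S
    have huS : u ∈ (S : Subgroup G) := by
      rw [← hC]
      refine mem_centralizer_iff.2 fun x hx => ?_
      obtain ⟨j, rfl⟩ := mem_zpowers_iff.1 (hSy.ge hx)
      exact ((show Commute y u from mem_centralizer_singleton_iff.1 hyu).zpow_left j).eq
    exact not_dvd_of_isPGroup Nat.prime_two (Ne.symm c.hq2) S.isPGroup'
      (hu ▸ (S : Subgroup G).orderOf_dvd_natCard huS)
  · exact c.isPGroup_centralizer hb hone hu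

end Ctx

section Arithmetic

theorem eq_one_or_eq_one {q b A B : ℕ} (hq : q.Prime) (hAB : A.Coprime B) (h : A * B = q ^ b) :
    A = 1 ∨ B = 1 := by
  obtain ⟨i, -, rfl⟩ := (Nat.dvd_prime_pow hq).1 (Dvd.intro B h)
  obtain ⟨j, -, rfl⟩ := (Nat.dvd_prime_pow hq).1 (Dvd.intro_left _ h)
  rcases Nat.eq_zero_or_pos i with rfl | hi
  · exact Or.inl (pow_zero q)
  rcases Nat.eq_zero_or_pos j with rfl | hj
  · exact Or.inr (pow_zero q)
  exfalso
  exact hq.ne_one (Nat.eq_one_of_dvd_coprimes hAB (dvd_pow_self q hi.ne') (dvd_pow_self q hj.ne'))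

theorem odd_part_eq {i j x y : ℕ} (hx : ¬ 2 ∣ x) (hy : ¬ 2 ∣ y) (h : 2 ^ i * x = 2 ^ j * y) :
    x = y :=
  Nat.dvd_antisymm
    (((Nat.prime_two.coprime_iff_not_dvd.2 hx).symm.pow_right j).dvd_of_dvd_mul_left
      (h ▸ dvd_mul_left x (2 ^ i)))
    (((Nat.prime_two.coprime_iff_not_dvd.2 hy).symm.pow_right i).dvd_of_dvd_mul_left
      (h.symm ▸ dvd_mul_left y (2 ^ j)))

/-- `2 ^ n (4 ^ n - 1) = 9 · 2 ^ a · q ^ b` forces `n = 3`. -/
theorem even_field {q a b n : ℕ} (hq : q.Prime) (hq2 : q ≠ 2) (hq3 : q ≠ 3)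
    (h : 2 ^ n * ((2 ^ n) ^ 2 - 1) = 9 * 2 ^ a * q ^ b) (hn : 1 ≤ n) : n = 3 := by
  obtain ⟨m, rfl⟩ : ∃ m, n = m + 1 := ⟨n - 1, by omega⟩
  have hev : 2 ^ (m + 1) = 2 * 2 ^ m := pow_succ' 2 m
  have hpos := Nat.one_le_two_pow (n := m)
  set N := 2 ^ (m + 1) with hN
  have hfac : N ^ 2 - 1 = (N - 1) * (N + 1) := by
    rw [show (1 : ℕ) = 1 ^ 2 from rfl, Nat.sq_sub_sq, one_pow, mul_comm]
  have hodd : ¬ 2 ∣ (N - 1) * (N + 1) := fun hd => by
    rcases Nat.prime_two.dvd_mul.1 hd with hd | hd <;> omega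
  have hqodd : ¬ 2 ∣ 9 * q ^ b := fun hd => by
    rcases Nat.prime_two.dvd_mul.1 hd with hd | hd
    · omega
    · exact hq2 ((Nat.prime_dvd_prime_iff_eq Nat.prime_two hq).1 (Nat.prime_two.dvd_of_dvd_pow hd)).symm
  rw [hfac] at h
  have e : (N - 1) * (N + 1) = 9 * q ^ b :=
    odd_part_eq hodd hqodd (i := m + 1) (j := a) (by rw [← hN, h]; ring)
  have hcop : Nat.Coprime (N - 1) (N + 1) := by
    refine Nat.coprime_of_dvd fun r hr h1 h2 => ?_
    have h3 := Nat.dvd_sub h2 h1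
    rw [show N + 1 - (N - 1) = 2 by omega] at h3
    have := (Nat.prime_dvd_prime_iff_eq hr Nat.prime_two).1 h3
    subst this
    omega
  have h9 : 9 ∣ N - 1 ∨ 9 ∣ N + 1 := by
    by_cases h3 : 3 ∣ N - 1
    · refine Or.inl ((Nat.Coprime.pow_left 2 ?_ : Nat.Coprime (3 ^ 2) (N + 1)).dvd_of_dvd_mul_right
        (e ▸ dvd_mul_right 9 _))
      exact (Nat.prime_three.coprime_iff_not_dvd.2 fun h' =>
        absurd (Nat.eq_one_of_dvd_coprimes hcop h3 h') (by norm_num))
    · exact Or.inr ((Nat.Coprime.pow_left 2 (Nat.prime_three.coprime_iff_not_dvd.2 h3) :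
        Nat.Coprime (3 ^ 2) (N - 1)).dvd_of_dvd_mul_left (e ▸ dvd_mul_right 9 _))
  have hval : N = 8 := by
    have hpar : 2 ^ m = 1 ∨ 2 ∣ 2 ^ m := by
      rcases Nat.eq_zero_or_pos m with rfl | hm
      · exact Or.inl (pow_zero 2)
      · exact Or.inr (dvd_pow_self 2 hm.ne')
    rcases h9 with ⟨A, hA⟩ | ⟨B, hB⟩
    · have e' : A * (N + 1) = q ^ b := Nat.eq_of_mul_eq_mul_left (show 0 < 9 by norm_num)
        (by rw [← e, hA]; ring)
      rcases eq_one_or_eq_one hq ((hA ▸ hcop).coprime_mul_left) e' with h' | h' <;> omega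
    · have e' : (N - 1) * B = q ^ b := Nat.eq_of_mul_eq_mul_left (show 0 < 9 by norm_num)
        (by rw [← e, hB]; ring)
      rcases eq_one_or_eq_one hq ((hB ▸ hcop).coprime_mul_left_right) e' with h' | h'
      · have hm : 2 ^ m = 1 := by omega
        have hN2 : N = 2 := by omega
        rw [hN2] at hB
        omega
      · omega
  have := Nat.pow_right_injective (le_refl 2) (show 2 ^ (m + 1) = 2 ^ 3 from hN ▸ hval.trans (by norm_num))
  omega

/-- A Fermat or Mersenne prime field gives `p = 17`. -/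
theorem prime_field {q a b p : ℕ} (hq : q.Prime) (hq2 : q ≠ 2) (hq3 : q ≠ 3) (hp : p.Prime)
    (hp2 : p ≠ 2) (hk : ∃ k : ℕ, p = 2 ^ k + 1 ∨ p + 1 = 2 ^ k)
    (h : p * (p ^ 2 - 1) = 2 * (9 * 2 ^ a * q ^ b)) : p = 17 := by
  have hp3 : p ≠ 3 := by
    rintro rfl
    have hd : 9 ∣ 2 * (9 * 2 ^ a * q ^ b) := ⟨2 * 2 ^ a * q ^ b, by ring⟩
    rw [← h] at hd
    norm_num at hd
  have hp5 : 5 ≤ p := by
    have := hp.two_le
    have : p ≠ 4 := fun h4 => by rw [h4] at hp; norm_num at hp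
    omega
  have hfac : p ^ 2 - 1 = (p - 1) * (p + 1) := by
    rw [show (1 : ℕ) = 1 ^ 2 from rfl, Nat.sq_sub_sq, one_pow, mul_comm]
  have hnd : ¬ p ∣ (p - 1) * (p + 1) := fun hd => by
    rcases hp.dvd_mul.1 hd with hd | hd
    · have := Nat.le_of_dvd (by omega) hd; omega
    · have := (Nat.dvd_add_right (dvd_refl p)).1 hd
      exact hp.ne_one (Nat.dvd_one.1 this)
  rw [hfac] at h
  have hpq : p = q := by
    have hd : p ∣ 2 * (9 * 2 ^ a * q ^ b) := h ▸ dvd_mul_right _ _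
    rcases hp.dvd_mul.1 hd with hd | hd
    · exact absurd ((Nat.prime_dvd_prime_iff_eq hp Nat.prime_two).1 hd) hp2
    rcases hp.dvd_mul.1 hd with hd | hd
    · rcases hp.dvd_mul.1 hd with hd | hd
      · exact absurd ((Nat.prime_dvd_prime_iff_eq hp Nat.prime_three).1
          (hp.dvd_of_dvd_pow (show p ∣ 3 ^ 2 from hd))) hp3
      · exact absurd ((Nat.prime_dvd_prime_iff_eq hp Nat.prime_two).1 (hp.dvd_of_dvd_pow hd)) hp2
    · exact (Nat.prime_dvd_prime_iff_eq hp hq).1 (hp.dvd_of_dvd_pow hd)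
  subst hpq
  have hb : b = 1 := by
    rcases Nat.lt_or_ge b 1 with hb | hb
    · exfalso
      obtain rfl : b = 0 := by omega
      have hd : p ∣ 2 * (9 * 2 ^ a * p ^ 0) := h ▸ dvd_mul_right _ _
      rw [pow_zero, mul_one, ← mul_assoc] at hd
      rcases hp.dvd_mul.1 hd with hd | hd
      · rcases hp.dvd_mul.1 hd with hd | hd
        · exact hp2 ((Nat.prime_dvd_prime_iff_eq hp Nat.prime_two).1 hd)
        · exact hp3 ((Nat.prime_dvd_prime_iff_eq hp Nat.prime_three).1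
            (hp.dvd_of_dvd_pow (show p ∣ 3 ^ 2 from hd)))
      · exact hp2 ((Nat.prime_dvd_prime_iff_eq hp Nat.prime_two).1 (hp.dvd_of_dvd_pow hd))
    · by_contra hb1
      obtain ⟨j, rfl⟩ : ∃ j, b = j + 2 := ⟨b - 2, by omega⟩
      refine hnd ⟨2 * 9 * 2 ^ a * p ^ j, Nat.eq_of_mul_eq_mul_left hp.pos ?_⟩
      rw [h]; ring
  subst hb
  have e : (p - 1) * (p + 1) = 2 ^ (a + 1) * 9 := Nat.eq_of_mul_eq_mul_left hp.pos
    (by rw [h]; ring)
  obtain ⟨k, hk⟩ := hk
  rcases (show k = 0 ∨ k = 1 ∨ 2 ≤ k by omega) with rfl | rfl | hk2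
  · omega
  · omega
  obtain ⟨i, rfl⟩ : ∃ i, k = i + 2 := ⟨k - 2, by omega⟩
  have e4 : 2 ^ (i + 2) = 4 * 2 ^ i := by ring
  have e2 : 2 ^ (i + 1) = 2 * 2 ^ i := by ring
  have hpos := Nat.one_le_two_pow (n := i)
  rcases hk with hk | hk
  · have h' : 2 ^ (i + 3) * (2 ^ (i + 1) + 1) = 2 ^ (a + 1) * 9 := by
      rw [← e, show p - 1 = 2 ^ (i + 2) by omega, show p + 1 = 2 * (2 ^ (i + 1) + 1) by omega]
      ring
    have := odd_part_eq (by omega) (by norm_num) h'
    omega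
  · have h' : 2 ^ (i + 3) * (2 ^ (i + 1) - 1) = 2 ^ (a + 1) * 9 := by
      rw [← e, show p + 1 = 2 ^ (i + 2) by omega, show p - 1 = 2 * (2 ^ (i + 1) - 1) by omega]
      ring
    have := odd_part_eq (by omega) (by norm_num) h'
    exfalso
    have h10 : 2 ^ i = 5 := by omega
    have : Even (2 ^ i) ∨ i = 0 := (Nat.eq_zero_or_pos i).symm.imp (fun hi => (Even.pow_of_ne_zero (by norm_num) hi.ne')) id
    rcases this with hev | rfl
    · rw [h10] at hev
      norm_num at hev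
    · norm_num at h10

end Arithmetic

end CfsgLib.NineTwoQSelf
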