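import Cfsg.Agent.NineTwoQSelf.Pairs
import Cfsg.Agent.Small.BaerSuzuki
import Cfsg.Agent.NilpotentCover.Basic

/-!
# Every involution centraliser is a 2-group

With all linked pairs excluded, `N(Z(J(Q)))` is strongly `q`-embedded and central involutions
normalise no nontrivial `q`-subgroup. This bounds the order of the group.
-/

set_option autoImplicit false
set_option linter.style.haveILetI false
set_option linter.unusedSectionVars false

namespace CfsgLib.NineTwoQSelf

open Subgroup MulAction CfsgLib.SolvSig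

universe u

variable {G : Type u} [Group G] [Finite G] [IsSimpleGroup G]

theorem altFive_product : ∀ x : alternatingGroup (Fin 5), x * x = 1 → x ≠ 1 →
    ∃ g : alternatingGroup (Fin 5),
      (x * (g * x * g⁻¹)) ^ 5 = 1 ∧ x * (g * x * g⁻¹) ≠ 1 := by
  decide +kernel

theorem permThree_inverts : ∀ x t : Equiv.Perm (Fin 3), x * x = 1 → x ≠ 1 → t ^ 3 = 1 →
    x * t * x⁻¹ = t⁻¹ := by
  decide +kernel

theorem altFive_inverter : ∀ t : alternatingGroup (Fin 5), t ^ 3 = 1 → t ≠ 1 →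
    ∃ g : alternatingGroup (Fin 5), g * g = 1 ∧ g * t * g⁻¹ = t⁻¹ ∧ g ≠ 1 := by
  decide +kernel

theorem isPGroup_closure_pair {H : Type u} [Group H] [Finite H] {z w : H} (hz : z * z = 1) (hw : w * w = 1)
    (h : ∃ i, orderOf (z * w) = 2 ^ i) : IsPGroup 2 (closure ({z, w} : Set H)) := by
  obtain ⟨i, hi⟩ := h
  have hz2 : IsPGroup 2 (zpowers z) := by
    obtain ⟨j, -, hj⟩ := (Nat.dvd_prime_pow Nat.prime_two).1
      (show orderOf z ∣ 2 ^ 1 from orderOf_dvd_of_pow_eq_one (by rw [pow_one, sq, hz]))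
    exact isPGroup_zpowers_of_orderOf hj
  have hn : zpowers z ≤ normalizer (zpowers (z * w) : Set H) := by
    refine zpowers_le.2 (mem_normalizer_of_forall fun x hx => ?_)
    obtain ⟨k, rfl⟩ := mem_zpowers_iff.1 hx
    have e : z * (z * w) * z⁻¹ = (z * w)⁻¹ := by
      rw [mul_inv_rev, inv_eq_of_mul_eq_one_right hw, inv_eq_of_mul_eq_one_right hz, ← mul_assoc z z,
        hz, one_mul]
    rw [← conj_zpow, e, inv_zpow]
    exact inv_mem (zpow_mem (mem_zpowers _) k)
  refine (IsPGroup.to_sup_of_normal_right' hz2 (isPGroup_zpowers_of_orderOf hi) hn).to_le ?_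
  rw [closure_le]
  rintro x (rfl | hxw)
  · exact mem_sup_left (mem_zpowers x)
  · rw [Set.mem_singleton_iff.1 hxw, SetLike.mem_coe]
    have h := mul_mem (mem_sup_left (mem_zpowers z))
      (mem_sup_right (mem_zpowers (z * w)) : z * w ∈ zpowers z ⊔ zpowers (z * w))
    rwa [← mul_assoc, hz, one_mul] at h

theorem card_permThree : Nat.card (Equiv.Perm (Fin 3)) = 6 := by
  rw [Nat.card_perm, Nat.card_fin]
  norm_num [Nat.factorial]

namespace Ctx

variable (c : Ctx G)
include c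

theorem core_two_centralizer_q_eq_bot [Fact c.q.Prime] (hb : 2 ≤ c.b) {y : G} {i : ℕ}
    (hy : orderOf y = c.q ^ i) (hy1 : y ≠ 1) : core 2 (centralizer ({y} : Set G)) = ⊥ := by
  haveI : Fact (Nat.Prime 2) := ⟨Nat.prime_two⟩
  by_contra h
  obtain ⟨u, hu, hu2, -⟩ := exists_involution_fixed (core_isPGroup 2 (centralizer ({y} : Set G)))
    (core_isPGroup 2 (centralizer ({y} : Set G))) le_normalizer h
  have hy' := (c.core_two_iff (orderOf_two hu2).1 hy1 ⟨1, by rw [hu2, pow_one]⟩ ⟨i, hy⟩).1 hu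
  rw [c.core_q_centralizer_eq_bot hb hu2, mem_bot] at hy'
  exact hy1 hy'

omit [IsSimpleGroup G] in
theorem exists_pow_order {H : Subgroup G} (hH : IsPGroup c.q H) {x : G} (hx : x ∈ H) :
    ∃ i, orderOf x = c.q ^ i := by
  haveI : Fact c.q.Prime := ⟨c.hq⟩
  obtain ⟨i, hi⟩ := IsPGroup.iff_orderOf.1 hH ⟨x, hx⟩
  exact ⟨i, by rwa [Subgroup.orderOf_mk] at hi⟩

/-- The centraliser of a nontrivial element of `Q` lies in `N(Z(J(Q)))`, and the element fixes
only one of its cosets. -/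
theorem strongly_embedded [Fact c.q.Prime] (hb : 2 ≤ c.b) (Q : Sylow c.q G) :
    (∀ y ∈ (Q : Subgroup G), y ≠ 1 →
      centralizer ({y} : Set G) ≤ c.zjN c.q (Q : Subgroup G)) ∧
    ∀ y ∈ (Q : Subgroup G), y ≠ 1 → ∀ g : G, g⁻¹ * y * g ∈ c.zjN c.q (Q : Subgroup G) →
      g ∈ c.zjN c.q (Q : Subgroup G) := by
  set B := c.zjN c.q (Q : Subgroup G) with hB
  have hQB : (Q : Subgroup G) ≤ B := c.sylow_le_zjN Q
  -- if `C(x) ≤ B` then `x` fixes one coset only
  have hstep : ∀ x ∈ (Q : Subgroup G), centralizer ({x} : Set G) ≤ B → ∀ g : G,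
      g⁻¹ * x * g ∈ B → g ∈ B := by
    intro x hx hC g hg
    obtain ⟨i, hi⟩ := c.exists_pow_order Q.isPGroup' hx
    have hp : IsPGroup c.q ((zpowers (g⁻¹ * x * g)).subgroupOf B) := by
      refine (isPGroup_zpowers_of_orderOf (i := i) ?_).comap_subtype
      rw [← hi]
      have := orderOf_injective (MulAut.conj g⁻¹).toMonoidHom (MulAut.conj g⁻¹).injective x
      simpa using this
    obtain ⟨R, hR⟩ := hp.exists_le_sylow
    obtain ⟨b', hb'⟩ := exists_smul_eq B R (Q.subtype hQB)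
    have h2 : b' * ⟨g⁻¹ * x * g, hg⟩ * b'⁻¹ ∈ ((Q.subtype hQB : Sylow c.q B) : Subgroup B) := by
      rw [← hb', Sylow.coe_subgroup_smul]
      exact ⟨_, hR (show (⟨g⁻¹ * x * g, hg⟩ : B) ∈ (zpowers (g⁻¹ * x * g)).subgroupOf B from
        mem_zpowers _), rfl⟩
    have h3 : ((b' * ⟨g⁻¹ * x * g, hg⟩ * b'⁻¹ : B) : G) ∈ (Q : Subgroup G) := h2
    have h4 : (g * (b' : G)⁻¹)⁻¹ * x * (g * (b' : G)⁻¹) ∈ (Q : Subgroup G) := by
      simpa [mul_assoc] using h3
    obtain ⟨d, hd, m, hm, hdm⟩ := c.exists_factor Q (zpowers_le.2 hx) (g := g * (b' : G)⁻¹) (by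
      intro w hw
      obtain ⟨j, rfl⟩ := mem_zpowers_iff.1 hw
      have e := conj_zpow (a := (g * (b' : G)⁻¹)⁻¹) (b := x) (i := j)
      rw [inv_inv] at e
      rw [← e]
      exact zpow_mem h4 j)
    rw [centralizer_zpowers] at hd
    have : g = d * m * b' := by rw [← hdm]; group
    rw [this]
    exact mul_mem (mul_mem (hC hd) hm) b'.2
  -- a central element of `Q`
  obtain ⟨x, hx, hx1, hxc⟩ := exists_fixed_of_normalizes Q.isPGroup' Q.isPGroup' le_normalizer
    (c.sylow_ne_bot Q)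
  obtain ⟨i, hi⟩ := c.exists_pow_order Q.isPGroup' hx
  have hxB : centralizer ({x} : Set G) ≤ B := by
    obtain ⟨-, hCV⟩ := c.mem_core_centralizer hi hx1 (c.core_two_centralizer_q_eq_bot hb hi hx1)
    set V := core c.q (centralizer ({x} : Set G))
    have hQC : (Q : Subgroup G) ≤ centralizer ({x} : Set G) := fun w hw =>
      mem_centralizer_singleton_iff.2 (hxc w hw)
    have hQV : (Q : Subgroup G) ≤ normalizer (V : Set G) :=
      hQC.trans (le_normalizer_core _ _)
    have hVQ : V ≤ (Q : Subgroup G) := by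
      have h := Q.3 (Q.isPGroup'.to_sup_of_normal_right' (core_isPGroup _ _) hQV) le_sup_left
      exact h ▸ le_sup_right
    exact (le_normalizer_core c.q _).trans (c.normalizer_le_of_selfCentralizing Q hVQ hCV)
  have hmain : ∀ y ∈ (Q : Subgroup G), y ≠ 1 → centralizer ({y} : Set G) ≤ B := by
    intro y hy hy1
    obtain ⟨j, hj⟩ := c.exists_pow_order Q.isPGroup' hy
    obtain ⟨-, hCV⟩ := c.mem_core_centralizer hj hy1 (c.core_two_centralizer_q_eq_bot hb hj hy1)
    set V := core c.q (centralizer ({y} : Set G)) with hV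
    have hxy : x ∈ centralizer ({y} : Set G) := mem_centralizer_singleton_iff.2 (hxc y hy).symm
    obtain ⟨S, hS⟩ := ((core_isPGroup c.q (centralizer ({y} : Set G))).to_sup_of_normal_left'
      (isPGroup_zpowers_of_orderOf hi)
      ((zpowers_le.2 hxy).trans (le_normalizer_core c.q _))).exists_le_sylow
    obtain ⟨g, hg⟩ := exists_smul_eq G S Q
    have hconj : ∀ w ∈ (S : Subgroup G), g * w * g⁻¹ ∈ (Q : Subgroup G) := fun w hw => by
      rw [← hg, Sylow.coe_subgroup_smul]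
      exact ⟨w, hw, rfl⟩
    have hgB : g ∈ B := by
      have h := hstep x hx hxB g⁻¹ (hQB (by
        rw [inv_inv]
        exact hconj x (hS (mem_sup_right (mem_zpowers x)))))
      exact inv_mem_iff.1 h
    set V' := V.map (MulAut.conj g).toMonoidHom
    have hV'Q : V' ≤ (Q : Subgroup G) := by
      rintro _ ⟨w, hw, rfl⟩
      exact hconj w (hS (mem_sup_left hw))
    have hV'C : centralizer (V' : Set G) ≤ V' := by
      intro w hw
      have h' : g⁻¹ * w * g ∈ centralizer (V : Set G) := mem_centralizer_iff.2 fun v hv => by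
        have e := mem_centralizer_iff.1 hw _ ⟨v, hv, rfl⟩
        simp only [MulEquiv.toMonoidHom_eq_coe, MonoidHom.coe_coe, MulAut.conj_apply] at e
        calc v * (g⁻¹ * w * g) = g⁻¹ * (g * v * g⁻¹ * w) * g := by group
          _ = g⁻¹ * (w * (g * v * g⁻¹)) * g := by rw [e]
          _ = g⁻¹ * w * g * v := by group
      exact ⟨_, hCV h', by simp [mul_assoc]⟩
    have hN := c.normalizer_le_of_selfCentralizing Q hV'Q hV'C
    intro h hh
    have hn : g * h * g⁻¹ ∈ normalizer (V' : Set G) :=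
      le_normalizer_map (MulAut.conj g).toMonoidHom ⟨h, le_normalizer_core c.q _ hh, by simp⟩
    have := mul_mem (mul_mem (inv_mem hgB) (hN hn)) hgB
    simpa [mul_assoc] using this
  exact ⟨hmain, fun y hy hy1 => hstep y hy (hmain y hy hy1)⟩

theorem card_eq_index_mul [Fact c.q.Prime] (Q : Sylow c.q G) {m : ℕ}
    (hB : Nat.card (c.zjN c.q (Q : Subgroup G)) = 2 ^ m * c.q ^ c.b) :
    m ≤ c.a ∧ (c.zjN c.q (Q : Subgroup G)).index = 9 * 2 ^ (c.a - m) := by
  have h := (c.zjN c.q (Q : Subgroup G)).index_mul_card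
  rw [hB, c.card, ← mul_assoc] at h
  have h2 := Nat.eq_of_mul_eq_mul_right (pow_pos c.hq.pos c.b) h
  have hma : m ≤ c.a := by
    have hd : 2 ^ m ∣ 9 * 2 ^ c.a := Dvd.intro_left _ h2
    exact (Nat.pow_dvd_pow_iff_le_right (by norm_num)).1
      (((show Nat.Coprime 2 9 by norm_num).pow_left m).dvd_of_dvd_mul_left hd)
  refine ⟨hma, Nat.eq_of_mul_eq_mul_right (pow_pos (show 0 < 2 by norm_num) m) ?_⟩
  rw [h2, mul_assoc, ← pow_add, Nat.sub_add_cancel hma]

/-- The cosets of `N(Z(J(Q)))` other than itself form regular orbits of `Q`. -/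
theorem dvd_index_sub_one [Fact c.q.Prime] (hb : 2 ≤ c.b) (Q : Sylow c.q G) :
    c.q ^ c.b ∣ (c.zjN c.q (Q : Subgroup G)).index - 1 := by
  set B := c.zjN c.q (Q : Subgroup G) with hB
  have hQB : (Q : Subgroup G) ≤ B := c.sylow_le_zjN Q
  set p0 := ((1 : G) : G ⧸ B)
  have hfix : ∀ x ∈ (Q : Subgroup G), x • p0 = p0 := fun x hx =>
    smul_eq_self_iff.2 (by simpa using hQB hx)
  have hd : c.q ^ c.b ∣ Nat.card {p : G ⧸ B // p ≠ p0} := by
    refine Weights.dvd_card (M := (Q : Subgroup G)) _ ?_ _ fun p hp => ?_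
    · intro g p hp h
      apply hp
      have h' : (g : G) • p = p0 := h
      rw [← inv_smul_smul (g : G) p, h', hfix _ (inv_mem g.2)]
    · have hbot : stabilizer (Q : Subgroup G) p = ⊥ := by
        refine eq_bot_iff.2 fun x hx => ?_
        by_contra hx1
        rw [mem_bot] at hx1
        obtain ⟨g, rfl⟩ := QuotientGroup.mk_surjective p
        have hxg := smul_eq_self_iff.1 (show (x : G) • (g : G ⧸ B) = (g : G ⧸ B) from hx)
        have hgB := (c.strongly_embedded hb Q).2 x x.2 (fun h => hx1 (Subtype.ext h)) g hxg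
        exact hp (QuotientGroup.eq.2 (by simpa using inv_mem hgB))
      rw [hbot, index_bot, (c.index_sylow Q).2]
  have hsplit : Nat.card (G ⧸ B) =
      Nat.card {p : G ⧸ B // p = p0} + Nat.card {p : G ⧸ B // p ≠ p0} := Weights.card_split _
  have h1 : Nat.card {p : G ⧸ B // p = p0} = 1 := Nat.card_eq_one_iff_unique.2
    ⟨⟨fun a b => Subtype.ext (a.2.trans b.2.symm)⟩, ⟨⟨p0, rfl⟩⟩⟩
  rw [h1] at hsplit
  rw [index_eq_card, hsplit, Nat.add_sub_cancel_left]
  exact hd

theorem centralizer_core_le [Fact c.q.Prime] (hb : 2 ≤ c.b) (Q : Sylow c.q G) :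
    centralizer (core c.q (c.zjN c.q (Q : Subgroup G)) : Set G) ≤
        core c.q (c.zjN c.q (Q : Subgroup G)) ∧
      core c.q (c.zjN c.q (Q : Subgroup G)) ≤ (Q : Subgroup G) := by
  haveI : Fact (Nat.Prime 2) := ⟨Nat.prime_two⟩
  set B := c.zjN c.q (Q : Subgroup G) with hB
  have hQB : (Q : Subgroup G) ≤ B := c.sylow_le_zjN Q
  set P := core c.q B with hP
  obtain ⟨hZne, hZp, -⟩ := c.centerThompson_facts Q
  have hZP : Cfsg.centerThompsonOf c.q (Q : Subgroup G) ≤ P :=
    le_core (le_normalizer : Cfsg.centerThompsonOf c.q (Q : Subgroup G) ≤ B) le_rfl hZp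
  have hPQ : P ≤ (Q : Subgroup G) := by
    have h := Q.3 (Q.isPGroup'.to_sup_of_normal_right' (core_isPGroup c.q B)
      (hQB.trans (le_normalizer_core c.q B))) le_sup_left
    exact h ▸ le_sup_right
  refine ⟨?_, hPQ⟩
  obtain ⟨x0, hx0, hx01⟩ := (bot_or_exists_ne_one P).resolve_left fun h =>
    hZne (le_bot_iff.1 (h ▸ hZP))
  set C := centralizer (P : Set G) with hC
  set L := centralizer ({x0} : Set G) with hL
  have hCL : C ≤ L := centralizer_le (Set.singleton_subset_iff.2 hx0)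
  have hLB : L ≤ B := (c.strongly_embedded hb Q).1 x0 (hPQ hx0) hx01
  have hBC : B ≤ normalizer (C : Set G) :=
    (le_normalizer_core c.q B).trans (normalizer_le_normalizer_centralizer P)
  obtain ⟨i, hi⟩ := c.exists_pow_order (core_isPGroup c.q B) hx0
  have hC2 : core 2 C = ⊥ := by
    refine le_bot_iff.1 ((le_core ((core_le 2 C).trans hCL) ?_ (core_isPGroup 2 C)).trans
      (c.core_two_centralizer_q_eq_bot hb hi hx01).le)
    exact (hLB.trans hBC).trans (normalizer_le_normalizer_core 2 C)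
  have hC3 : ¬ 3 ∣ Nat.card C := fun h =>
    c.not_three_centralizer_q hi hx01 (h.trans (card_dvd_of_le hCL))
  have hCP : core c.q C ≤ P :=
    le_core ((core_le _ _).trans (hCL.trans hLB)) (hBC.trans (normalizer_le_normalizer_core c.q C))
      (core_isPGroup _ _)
  intro g hg
  have := c.mem_cores_of_centralizes hC3 hg (by
    rw [hC2]
    exact mem_centralizer_iff.2 fun x hx => by
      rw [coe_bot, Set.mem_singleton_iff] at hx; simp [hx]) (centralizer_le (SetLike.coe_subset_coe.2 hCP) hg)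
  rw [hC2, bot_sup_eq] at this
  exact hCP this

/-- An involution inverting `O_q(B)` gives a factorisation of `B`. -/
theorem factor_of_inverts [Fact c.q.Prime] (hb : 2 ≤ c.b) (Q : Sylow c.q G) {v : G} (hv : v * v = 1)
    (hinv : ∀ x ∈ core c.q (c.zjN c.q (Q : Subgroup G)), v * x * v⁻¹ = x⁻¹)
    (hvB : v ∈ c.zjN c.q (Q : Subgroup G))
    (hvq : ¬ c.q ∣ Nat.card
      (c.zjN c.q (Q : Subgroup G) ⊓ centralizer ({v} : Set G) : Subgroup G)) :
    core c.q (c.zjN c.q (Q : Subgroup G)) = (Q : Subgroup G) := by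
  set B := c.zjN c.q (Q : Subgroup G) with hB
  set P := core c.q B with hP
  obtain ⟨hCP, hPQ⟩ := c.centralizer_core_le hb Q
  have hPB : P ≤ B := core_le _ _
  have hvinv : v⁻¹ = v := inv_eq_of_mul_eq_one_right hv
  set K := B ⊓ centralizer ({v} : Set G)
  have hle : B ≤ K ⊔ P := by
    intro g hg
    set w := g * v * g⁻¹ * v with hw
    have hwP : w ∈ P := hCP (mem_centralizer_iff.2 fun x hx => by
      have hx' : g⁻¹ * x * g ∈ P := (mem_normalizer_iff''.1 (le_normalizer_core c.q B hg) x).1 hx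
      have h2 : g * v * g⁻¹ * x * (g * v * g⁻¹)⁻¹ = x⁻¹ := by
        calc g * v * g⁻¹ * x * (g * v * g⁻¹)⁻¹ = g * (v * (g⁻¹ * x * g) * v⁻¹) * g⁻¹ := by group
          _ = g * (g⁻¹ * x * g)⁻¹ * g⁻¹ := by rw [hinv _ hx']
          _ = x⁻¹ := by group
      have h3 : w * x * w⁻¹ = x := by
        calc w * x * w⁻¹ = g * v * g⁻¹ * (v * x * v⁻¹) * (g * v * g⁻¹)⁻¹ := by rw [hw]; group
          _ = g * v * g⁻¹ * x⁻¹ * (g * v * g⁻¹)⁻¹ := by rw [hinv x hx]
          _ = (g * v * g⁻¹ * x * (g * v * g⁻¹)⁻¹)⁻¹ := by group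
          _ = x := by rw [h2, inv_inv]
      exact (mul_inv_eq_iff_eq_mul.1 h3).symm)
    obtain ⟨n, hn, hsq⟩ := exists_sqrt hwP fun h => not_dvd_of_isPGroup Nat.prime_two
      (Ne.symm c.hq2) (core_isPGroup c.q B) (h.trans (P.orderOf_dvd_natCard hwP))
    set s := w ^ n
    have hvs : v * s = s⁻¹ * v := mul_inv_eq_iff_eq_mul.1 (hinv s hn)
    have hgv : g * v * g⁻¹ = s * s * v := by
      rw [hsq, hw, mul_assoc _ v v, hv, mul_one]
    have hkey : s⁻¹ * g * v * (s⁻¹ * g)⁻¹ = v := by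
      calc s⁻¹ * g * v * (s⁻¹ * g)⁻¹ = s⁻¹ * (g * v * g⁻¹) * s := by group
        _ = s⁻¹ * (s * s) * (v * s) := by rw [hgv]; group
        _ = s⁻¹ * (s * s) * (s⁻¹ * v) := by rw [hvs]
        _ = v := by group
    have : g = s * (s⁻¹ * g) := by group
    rw [this]
    exact mul_mem (mem_sup_right hn) (mem_sup_left ⟨mul_mem (B.inv_mem (hPB hn)) hg,
      mem_centralizer_singleton_iff.2 (mul_inv_eq_iff_eq_mul.1 hkey)⟩)
  refine eq_of_le_of_card_ge hPQ (Nat.le_of_dvd Nat.card_pos ?_)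
  have h := (card_dvd_of_le (c.sylow_le_zjN Q)).trans (card_dvd_of_le hle)
  have h' : Nat.card (Q : Subgroup G) ∣ Nat.card K * Nat.card P := by
    refine h.trans ?_
    rw [← PLocal.card_sup_mul_card_inf ((inf_le_left : K ≤ B).trans (le_normalizer_core c.q B))]
    exact dvd_mul_right _ _
  refine Nat.Coprime.dvd_of_dvd_mul_left ?_ h'
  rw [(c.index_sylow Q).2]
  exact (c.hq.coprime_iff_not_dvd.2 hvq).pow_left c.b

/-- No central involution lies in `N(Z(J(Q)))`. -/
theorem central_notMem_zjN [Fact c.q.Prime] (hb : 2 ≤ c.b) (Q : Sylow c.q G) {z : G}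
    (hz : c.Central z) : z ∉ c.zjN c.q (Q : Subgroup G) := by
  classical
  haveI : Fact (Nat.Prime 2) := ⟨Nat.prime_two⟩
  intro hzB
  set B := c.zjN c.q (Q : Subgroup G) with hB
  set A := centralizer ({z} : Set G) with hA
  have hA2 : IsPGroup 2 A := c.isPGroup_central hb hz
  have hPp := core_isPGroup c.q B
  obtain ⟨hinv, -⟩ := c.inverts_of_central hb hz hPp (le_normalizer_core c.q B hzB)
  obtain ⟨hzz, hzinv⟩ := (orderOf_two hz.1).2
  have hQ := c.factor_of_inverts hb Q hzz hinv hzB fun h =>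
    not_dvd_of_isPGroup c.hq c.hq2 hA2 (h.trans (card_dvd_of_le inf_le_right))
  rw [hQ] at hinv
  set n := B.index with hn
  -- the 2-part of `B`
  have hB3 : ¬ 3 ∣ Nat.card B := by
    intro h3
    haveI : Fact (Nat.Prime 3) := ⟨Nat.prime_three⟩
    obtain ⟨t, ht⟩ := exists_prime_orderOf_dvd_card' (G := B) 3 h3
    rw [← Subgroup.orderOf_coe] at ht
    have hn' : (Q : Subgroup G) = core c.q B := hQ.symm
    obtain ⟨-, -, hzi⟩ := orderOf_two hz.1
    set w := (t : G) * z * (t : G)⁻¹ * z with hw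
    have hwC : w ∈ centralizer (core c.q B : Set G) := mem_centralizer_iff.2 fun x hx => by
      rw [hQ] at hx
      have hx' : (t : G)⁻¹ * x * t ∈ (Q : Subgroup G) := by
        refine hn'.ge ((mem_normalizer_iff''.1 (le_normalizer_core c.q B t.2) x).1 (hn'.le hx))
      have h2 : (t : G) * z * (t : G)⁻¹ * x * ((t : G) * z * (t : G)⁻¹)⁻¹ = x⁻¹ := by
        calc (t : G) * z * (t : G)⁻¹ * x * ((t : G) * z * (t : G)⁻¹)⁻¹
            = t * (z * ((t : G)⁻¹ * x * t) * z⁻¹) * (t : G)⁻¹ := by group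
          _ = t * ((t : G)⁻¹ * x * t)⁻¹ * (t : G)⁻¹ := by rw [hinv _ hx']
          _ = x⁻¹ := by group
      have h3 : w * x * w⁻¹ = x := by
        calc w * x * w⁻¹ = (t : G) * z * (t : G)⁻¹ * (z * x * z⁻¹) *
              ((t : G) * z * (t : G)⁻¹)⁻¹ := by rw [hw]; group
          _ = (t : G) * z * (t : G)⁻¹ * x⁻¹ * ((t : G) * z * (t : G)⁻¹)⁻¹ := by rw [hinv x hx]
          _ = ((t : G) * z * (t : G)⁻¹ * x * ((t : G) * z * (t : G)⁻¹)⁻¹)⁻¹ := by group
          _ = x := by rw [h2, inv_inv]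
      exact (mul_inv_eq_iff_eq_mul.1 h3).symm
    have hwQ : w ∈ (Q : Subgroup G) := hQ ▸ (c.centralizer_core_le hb Q).1 hwC
    obtain ⟨k, hk, hsq⟩ := exists_sqrt hwQ fun h => not_dvd_of_isPGroup Nat.prime_two
      (Ne.symm c.hq2) Q.isPGroup' (h.trans ((Q : Subgroup G).orderOf_dvd_natCard hwQ))
    set s := w ^ k
    have hzs : z * s = s⁻¹ * z := mul_inv_eq_iff_eq_mul.1 (hinv s hk)
    have hkey : s⁻¹ * t * z * (s⁻¹ * t)⁻¹ = z := by
      have hgv : (t : G) * z * (t : G)⁻¹ = s * s * z := by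
        rw [hsq, hw, mul_assoc _ z z, hzz, mul_one]
      calc s⁻¹ * t * z * (s⁻¹ * t)⁻¹ = s⁻¹ * ((t : G) * z * (t : G)⁻¹) * s := by group
        _ = s⁻¹ * (s * s) * (z * s) := by rw [hgv]; group
        _ = s⁻¹ * (s * s) * (s⁻¹ * z) := by rw [hzs]
        _ = z := by group
    have hmem : s⁻¹ * t ∈ A := mem_centralizer_singleton_iff.2 (mul_inv_eq_iff_eq_mul.1 hkey)
    haveI : ((Q : Subgroup G).subgroupOf B).Normal :=
      (normal_subgroupOf_iff_le_normalizer (c.sylow_le_zjN Q)).2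
        ((le_normalizer_core c.q B).trans
          (congrArg (fun S : Subgroup G => normalizer (S : Set G)) hQ).le)
    let π := QuotientGroup.mk' ((Q : Subgroup G).subgroupOf B)
    have hsB : s ∈ B := c.sylow_le_zjN Q hk
    have h1 : π ⟨s⁻¹ * t, mul_mem (inv_mem hsB) t.2⟩ = π t := QuotientGroup.eq.2 (by
      show (s⁻¹ * (t : G))⁻¹ * t ∈ (Q : Subgroup G)
      have : (t : G)⁻¹ * s * t ∈ (Q : Subgroup G) := by
        exact hn'.ge ((mem_normalizer_iff''.1 (le_normalizer_core c.q B t.2) s).1 (hn'.le hk))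
      simpa [mul_assoc] using this)
    have hd1 : orderOf (π t) ∣ 3 := by
      refine (orderOf_map_dvd π t).trans ?_
      rw [← Subgroup.orderOf_coe, ht]
    obtain ⟨l, hl⟩ := IsPGroup.iff_orderOf.1 hA2 ⟨_, hmem⟩
    rw [Subgroup.orderOf_mk] at hl
    have hd2 : orderOf (π t) ∣ 2 ^ l := by
      rw [← h1, ← hl]
      refine (orderOf_map_dvd π _).trans ?_
      rw [← Subgroup.orderOf_coe]
    have hone := Nat.eq_one_of_dvd_coprimes
      (((show Nat.Coprime 3 2 by norm_num)).pow_right l) hd1 hd2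
    have htQ : (t : G) ∈ (Q : Subgroup G) :=
      (QuotientGroup.eq_one_iff t).1 (orderOf_eq_one_iff.1 hone)
    exact c.not_three_of_q Q.isPGroup' (ht ▸ (Q : Subgroup G).orderOf_dvd_natCard htQ)
  obtain ⟨m, e, -, he, hBc⟩ := c.card_eq_of_not_three hB3
  have he' : e = c.b := le_antisymm he (c.q_pow_le hBc
    ((c.index_sylow Q).2 ▸ card_dvd_of_le (c.sylow_le_zjN Q)))
  subst he'
  obtain ⟨hma, hindex⟩ := c.card_eq_index_mul Q hBc
  set d := 2 ^ (c.a - m) with hd
  set p0 := ((1 : G) : G ⧸ B)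
  -- the fixed points of `z`
  set F := Nat.card {p : G ⧸ B // z • p = p}
  have hF : d ≤ F := by
    have h1 : Nat.card (orbit A p0) * Nat.card (A ⊓ B : Subgroup G) = Nat.card A := by
      have hst : stabilizer A p0 = B.subgroupOf A := by
        ext x
        rw [mem_subgroupOf, mem_stabilizer_iff]
        show (x : G) • p0 = p0 ↔ _
        rw [smul_eq_self_iff]
        simp
      have h := (B.subgroupOf A).index_mul_card
      rw [← hst, index_stabilizer, ← Nat.card_coe_set_eq, hst, ← inf_subgroupOf_left,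
        Nat.card_congr (subgroupOfEquivOfLe inf_le_left).toEquiv] at h
      exact h
    obtain ⟨l, hl⟩ := (hA2.to_le (inf_le_left : A ⊓ B ≤ A)).exists_card_eq
    have hlm : l ≤ m := c.two_pow_le hBc (hl ▸ card_dvd_of_le inf_le_right)
    have hAa : 2 ^ c.a ≤ Nat.card A := Nat.le_of_dvd Nat.card_pos hz.2
    have horb : Nat.card (orbit A p0) ≤ F := by
      refine Nat.card_le_card_of_injective (fun p => ⟨p.1, ?_⟩) fun p p' h =>
        Subtype.ext (congrArg Subtype.val h :)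
      obtain ⟨g, hg⟩ := p.2
      rw [← hg]
      show z • ((g : G) • p0) = (g : G) • p0
      rw [← mul_smul, ← mem_centralizer_singleton_iff.1 g.2, mul_smul,
        smul_eq_self_iff.2 (by simpa using hzB)]
    refine le_trans ?_ horb
    rw [hl] at h1
    refine Nat.le_of_mul_le_mul_right ?_ (pow_pos (show 0 < 2 by norm_num) m)
    calc d * 2 ^ m = 2 ^ c.a := by rw [hd, ← pow_add, Nat.sub_add_cancel hma]
      _ ≤ Nat.card A := hAa
      _ = Nat.card (orbit A p0) * 2 ^ l := h1.symm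
      _ ≤ _ := Nat.mul_le_mul_left _ (Nat.pow_le_pow_right (by norm_num) hlm)
  -- the conjugates of `z` under `Q`
  haveI := Fintype.ofFinite (G ⧸ B)
  haveI := Fintype.ofFinite (Q : Subgroup G)
  set X : G ⧸ B → ℕ := fun p =>
    Nat.card {x : (Q : Subgroup G) // ((x : G) * z * (x : G)⁻¹) • p = p}
  have hsum : ∑ p, X p = c.q ^ c.b * F := by
    have hx : ∀ x : (Q : Subgroup G),
        Nat.card {p : G ⧸ B // ((x : G) * z * (x : G)⁻¹) • p = p} = F := fun x => by
      refine Nat.card_congr (Equiv.subtypeEquiv (MulAction.toPerm (x : G)⁻¹) fun p => ?_)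
      show ((x : G) * z * (x : G)⁻¹) • p = p ↔ z • (x : G)⁻¹ • p = (x : G)⁻¹ • p
      constructor
      · intro h
        have := congrArg ((x : G)⁻¹ • ·) h
        simpa [mul_smul] using this
      · intro h
        simp [mul_smul, h]
    have : Nat.card (Σ p : G ⧸ B, {x : (Q : Subgroup G) // ((x : G) * z * (x : G)⁻¹) • p = p}) =
        Nat.card (Σ x : (Q : Subgroup G), {p : G ⧸ B // ((x : G) * z * (x : G)⁻¹) • p = p}) :=
      Nat.card_congr
        ⟨fun w => ⟨w.2.1, w.1, w.2.2⟩, fun w => ⟨w.2.1, w.1, w.2.2⟩, fun w => rfl, fun w => rfl⟩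
    rw [Nat.card_sigma, Nat.card_sigma, Finset.sum_congr rfl fun x _ => hx x, Finset.sum_const,
      Finset.card_univ, smul_eq_mul, ← Nat.card_eq_fintype_card, (c.index_sylow Q).2] at this
    exact this
  have hX : ∀ p, p ≠ p0 → X p ≤ 1 := by
    intro p hp
    refine Finite.card_le_one_iff_subsingleton.2 ⟨fun ⟨x, hx⟩ ⟨y, hy⟩ => Subtype.ext ?_⟩
    obtain ⟨g, rfl⟩ := QuotientGroup.mk_surjective p
    by_contra hne
    set w := (x : G) * z * (x : G)⁻¹ * ((y : G) * z * (y : G)⁻¹) with hw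
    have hwv : w = ((x : G) * (y : G)⁻¹) * ((x : G) * (y : G)⁻¹) := by
      obtain ⟨-, hcomm⟩ := c.inverts_of_central hb hz Q.isPGroup'
        (hQ ▸ le_normalizer_core c.q B hzB)
      have e1 : z * ((x : G)⁻¹ * y) * z = (x : G) * (y : G)⁻¹ := by
        have := hinv _ (mul_mem (inv_mem x.2) y.2)
        rw [hzinv] at this
        rw [this, mul_inv_rev, inv_inv, hcomm _ (inv_mem y.2) _ x.2]
      calc w = (x : G) * (z * ((x : G)⁻¹ * y) * z) * (y : G)⁻¹ := by rw [hw]; group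
        _ = (x : G) * ((x : G) * (y : G)⁻¹) * (y : G)⁻¹ := by rw [e1]
        _ = (x : G) * ((x : G) * (y : G)⁻¹ * (y : G)⁻¹) := by group
        _ = (x : G) * (((y : G)⁻¹ * x) * (y : G)⁻¹) := by rw [hcomm _ (inv_mem y.2) _ x.2]
        _ = _ := by group
    have hd0 : ((x : G) * (y : G)⁻¹) ∈ (Q : Subgroup G) := mul_mem x.2 (inv_mem y.2)
    have hw1 : w ≠ 1 := fun h => by
      have h2 : orderOf ((x : G) * (y : G)⁻¹) ∣ 2 :=
        orderOf_dvd_of_pow_eq_one (by rw [sq, ← hwv, h])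
      rcases (Nat.dvd_prime Nat.prime_two).1 h2 with e | e
      · exact hne (Subtype.ext (mul_inv_eq_one.1 (orderOf_eq_one_iff.1 e)))
      · exact not_dvd_of_isPGroup Nat.prime_two (Ne.symm c.hq2) Q.isPGroup'
          (e ▸ (Q : Subgroup G).orderOf_dvd_natCard hd0)
    have hfix : w • (g : G ⧸ B) = (g : G ⧸ B) := by rw [hw, mul_smul, hy, hx]
    have := (c.strongly_embedded hb Q).2 w (hwv ▸ mul_mem hd0 hd0) hw1 g (smul_eq_self_iff.1 hfix)
    exact hp (QuotientGroup.eq.2 (by simpa using inv_mem this))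
  have hle : c.q ^ c.b * F ≤ c.q ^ c.b + (9 * d - 1) := by
    rw [← hsum, ← Finset.add_sum_erase _ _ (Finset.mem_univ p0)]
    refine Nat.add_le_add ?_ ((Finset.sum_le_card_nsmul _ _ 1
      fun p hp => hX p (Finset.mem_erase.1 hp).1).trans ?_)
    · rw [← (c.index_sylow Q).2]
      exact Nat.card_le_card_of_injective Subtype.val Subtype.val_injective
    · rw [smul_eq_mul, mul_one, Finset.card_erase_of_mem (Finset.mem_univ _), Finset.card_univ,
        ← Nat.card_eq_fintype_card, ← index_eq_card, hindex]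
  have hdiv : c.q ^ c.b ∣ 9 * d - 1 := hindex ▸ c.dvd_index_sub_one hb Q
  have h25 : 25 ≤ c.q ^ c.b := by
    have h5 : 5 ≤ c.q := by
      have := c.hq.two_le
      have := c.hq2
      have := c.hq3
      have : c.q ≠ 4 := fun h => by
        have h4 := c.hq
        rw [h] at h4
        norm_num at h4
      omega
    calc 25 ≤ c.q ^ 2 := by nlinarith
      _ ≤ _ := Nat.pow_le_pow_right c.hq.pos hb
  have hd1 : 1 ≤ d := Nat.one_le_two_pow
  rcases Nat.lt_or_ge d 2 with h | h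
  · have : d = 1 := by omega
    rw [this] at hdiv
    have := Nat.le_of_dvd (by norm_num) hdiv
    omega
  · have hF2 : c.q ^ c.b * d ≤ c.q ^ c.b + (9 * d - 1) :=
      (Nat.mul_le_mul_left _ hF).trans hle
    have : 25 * (d - 1) ≤ c.q ^ c.b * (d - 1) := Nat.mul_le_mul_right _ h25
    have : c.q ^ c.b * d = c.q ^ c.b * (d - 1) + c.q ^ c.b := by
      conv_lhs => rw [show d = d - 1 + 1 by omega, mul_add, mul_one]
    omega

/-- A central involution normalises no nontrivial `q`-subgroup. -/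
theorem central_not_normalizes [Fact c.q.Prime] (hb : 2 ≤ c.b) {z : G} (hz : c.Central z)
    {X : Subgroup G} (hX : IsPGroup c.q X) (hne : X ≠ ⊥) : z ∉ normalizer (X : Set G) := by
  intro hzX
  obtain ⟨hinv, -⟩ := c.inverts_of_central hb hz hX hzX
  obtain ⟨y, hy, hy1⟩ := (bot_or_exists_ne_one X).resolve_left hne
  obtain ⟨i, hi⟩ := c.exists_pow_order hX hy
  obtain ⟨-, hCV⟩ := c.mem_core_centralizer hi hy1 (c.core_two_centralizer_q_eq_bot hb hi hy1)
  obtain ⟨Q, hQ⟩ := (core_isPGroup c.q (centralizer ({y} : Set G))).exists_le_sylow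
  refine c.central_notMem_zjN hb Q hz (c.normalizer_le_of_selfCentralizing Q hQ hCV
    (normalizer_le_normalizer_core c.q _ (mem_normalizer_of_forall fun g hg => ?_)))
  have h := hinv y hy
  rw [mem_centralizer_singleton_iff] at hg ⊢
  have h1 : z * g * z⁻¹ * y⁻¹ = y⁻¹ * (z * g * z⁻¹) := by
    rw [← h]
    calc z * g * z⁻¹ * (z * y * z⁻¹) = z * (g * y) * z⁻¹ := by group
      _ = z * (y * g) * z⁻¹ := by rw [hg]
      _ = z * y * z⁻¹ * (z * g * z⁻¹) := by group
  have h2 : Commute (z * g * z⁻¹) y⁻¹ := h1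
  have h3 := h2.inv_right
  rw [inv_inv] at h3
  exact h3.eq

/-- The product of a central involution and an involution has order prime to `q`. -/
theorem not_dvd_orderOf_mul [Fact c.q.Prime] (hb : 2 ≤ c.b) {z w : G} (hz : c.Central z)
    (hw : w * w = 1) : ¬ c.q ∣ orderOf (z * w) := by
  intro h
  obtain ⟨-, hzz, hzinv⟩ := orderOf_two hz.1
  set y := (z * w) ^ (orderOf (z * w) / c.q) with hy
  have hyo : orderOf y = c.q := by
    rw [hy, orderOf_pow_of_dvd (fun h0 => by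
      have := Nat.div_eq_zero_iff.1 h0
      have := Nat.le_of_dvd (orderOf_pos _) h
      have := c.hq.pos
      omega) (Nat.div_dvd_of_dvd h), Nat.div_div_self h (orderOf_pos _).ne']
  have hinv : z * y * z⁻¹ = y⁻¹ := by
    rw [hy, ← conj_pow, ← inv_pow, mul_inv_rev, inv_eq_of_mul_eq_one_right hw, hzinv,
      ← mul_assoc z z, hzz, one_mul]
  refine c.central_not_normalizes hb hz (X := zpowers y)
    (isPGroup_zpowers_of_orderOf (i := 1) (by rw [hyo, pow_one])) (fun h0 => ?_)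
    (mem_normalizer_of_forall fun x hx => ?_)
  · rw [zpowers_eq_bot.1 h0, orderOf_one] at hyo
    exact c.hq.one_lt.ne hyo
  · obtain ⟨k, rfl⟩ := mem_zpowers_iff.1 hx
    rw [← conj_zpow, hinv, inv_zpow]
    exact inv_mem (zpow_mem (mem_zpowers y) k)

/-- A central involution of a `{2,q}`-subgroup lies in its `O_2`. -/
theorem central_mem_core [Fact c.q.Prime] (hb : 2 ≤ c.b) {M : Subgroup G} (hM : ¬ 3 ∣ Nat.card M)
    {z : G} (hz : c.Central z) (hzM : z ∈ M) : z ∈ core 2 M := by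
  haveI : Fact (Nat.Prime 2) := ⟨Nat.prime_two⟩
  obtain ⟨-, hzz, -⟩ := orderOf_two hz.1
  obtain ⟨N, hN, hN2, hzN⟩ := Small.baerSuzuki_elem (p := 2) (⟨z, hzM⟩ : M) (fun g => by
    set w := g * ⟨z, hzM⟩ * g⁻¹ with hw
    have hwz : (w : G) = (g : G) * z * (g : G)⁻¹ := rfl
    have hwG : (w : G) * w = 1 := by
      rw [hwz, show (g : G) * z * (g : G)⁻¹ * ((g : G) * z * (g : G)⁻¹) =
        (g : G) * (z * z) * (g : G)⁻¹ by group, hzz]
      group
    obtain ⟨i, hi⟩ : ∃ i, orderOf ((⟨z, hzM⟩ : M) * w) = 2 ^ i := by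
      obtain ⟨i, j, -, -, hMc⟩ := c.card_eq_of_not_three hM
      have hq : ¬ c.q ∣ orderOf ((⟨z, hzM⟩ : M) * w) := by
        rw [← Subgroup.orderOf_coe, show (((⟨z, hzM⟩ : M) * w : M) : G) = z * w from rfl]
        exact c.not_dvd_orderOf_mul hb hz hwG
      obtain ⟨i', -, h'⟩ := (Nat.dvd_prime_pow Nat.prime_two).1
        (((c.hq.coprime_iff_not_dvd.2 hq).symm.pow_right j).dvd_of_dvd_mul_right
          (hMc ▸ orderOf_dvd_natCard ((⟨z, hzM⟩ : M) * w)))
      exact ⟨i', h'⟩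
    exact isPGroup_closure_pair (H := M) (Subtype.ext hzz) (Subtype.ext hwG) ⟨i, hi⟩)
  have hle : N.map M.subtype ≤ core 2 M := by
    refine le_core (map_subtype_le _) ?_ (hN2.map _)
    intro g hg
    refine mem_normalizer_of_forall ?_
    rintro _ ⟨x, hx, rfl⟩
    exact ⟨⟨g, hg⟩ * x * ⟨g, hg⟩⁻¹, hN.conj_mem x hx _, rfl⟩
  exact hle ⟨_, hzN, rfl⟩

/-- Some element of order three is inverted by a central involution. -/
theorem exists_three_inverted [Fact c.q.Prime] (hb : 2 ≤ c.b) {z : G} (hz : c.Central z) :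
    ∃ t : G, orderOf t = 3 ∧ z * t * z⁻¹ = t⁻¹ := by
  haveI : Fact (Nat.Prime 2) := ⟨Nat.prime_two⟩
  obtain ⟨hz1, hzz, hzinv⟩ := orderOf_two hz.1
  by_contra! hno
  obtain ⟨N, hN, hN2, hzN⟩ := Small.baerSuzuki_elem (p := 2) z (fun g => by
    have hw : g * z * g⁻¹ * (g * z * g⁻¹) = 1 := by
      rw [show g * z * g⁻¹ * (g * z * g⁻¹) = g * (z * z) * g⁻¹ by group, hzz]
      group
    set p := z * (g * z * g⁻¹) with hp
    refine isPGroup_closure_pair hzz hw ?_
    have hq : ¬ c.q ∣ orderOf p := c.not_dvd_orderOf_mul hb hz hw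
    have h3 : ¬ 3 ∣ orderOf p := fun h3 => by
      set t := p ^ (orderOf p / 3) with ht
      have hto : orderOf t = 3 := by
        rw [ht, orderOf_pow_of_dvd (fun h0 => by
          have := Nat.div_eq_zero_iff.1 h0
          have := Nat.le_of_dvd (orderOf_pos p) h3
          omega) (Nat.div_dvd_of_dvd h3), Nat.div_div_self h3 (orderOf_pos _).ne']
      refine hno t hto ?_
      rw [ht, ← conj_pow, ← inv_pow, hp, mul_inv_rev, inv_eq_of_mul_eq_one_right hw, hzinv,
        ← mul_assoc z z, hzz, one_mul]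
    have hdvd : orderOf p ∣ 2 ^ c.a := by
      have h1 : orderOf p ∣ 3 ^ 2 * 2 ^ c.a * c.q ^ c.b := by
        have := orderOf_dvd_natCard p
        rwa [c.card] at this
      refine (Nat.Coprime.pow_right 2 (Nat.prime_three.coprime_iff_not_dvd.2 h3).symm).dvd_of_dvd_mul_left ?_
      exact ((c.hq.coprime_iff_not_dvd.2 hq).symm.pow_right c.b).dvd_of_dvd_mul_right h1
    obtain ⟨i, -, hi⟩ := (Nat.dvd_prime_pow Nat.prime_two).1 hdvd
    exact ⟨i, hi⟩)
  rcases IsSimpleGroup.eq_bot_or_eq_top_of_normal N hN with h | h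
  · rw [h, mem_bot] at hzN
    exact hz1 hzN
  · obtain ⟨i, hi⟩ := hN2.exists_card_eq
    rw [h, card_top, c.card] at hi
    have h3 : 3 ∣ 2 ^ i := hi ▸ (((show 3 ∣ 9 by norm_num).mul_right _).mul_right _)
    exact absurd ((Nat.prime_dvd_prime_iff_eq Nat.prime_three Nat.prime_two).1
      (Nat.prime_three.dvd_of_dvd_pow h3)) (by norm_num)

/-- The order of the centraliser of a central involution is less than the number of its
conjugates. -/
theorem two_pow_lt [Fact c.q.Prime] (hb : 2 ≤ c.b) : 2 ^ c.a < 9 * c.q ^ c.b := by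
  haveI : Fact (Nat.Prime 2) := ⟨Nat.prime_two⟩
  obtain ⟨z, hz, -⟩ := c.exists_central (IsPGroup.of_bot : IsPGroup 2 (⊥ : Subgroup G))
  obtain ⟨t, ht, hinv⟩ := c.exists_three_inverted hb hz
  obtain ⟨hz1, hzz, hzinv⟩ := orderOf_two hz.1
  set C := centralizer ({z} : Set G) with hC
  have ht1 : t ≠ 1 := fun h => by rw [h, orderOf_one] at ht; norm_num at ht
  -- `z` and `z t` are conjugate
  set s := t ^ 2 with hs
  have hss : s * s = t := by
    rw [hs, ← pow_add, show 2 + 2 = orderOf t + 1 by rw [ht], pow_succ, pow_orderOf_eq_one, one_mul]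
  have hzs : z * s * z⁻¹ = s⁻¹ := by rw [hs, ← conj_pow, hinv, inv_pow]
  have hzt : z * t = s⁻¹ * z * s := by
    calc z * t = z * s * z⁻¹ * (z * s) := by rw [← hss]; group
      _ = s⁻¹ * z * s := by rw [hzs]; group
  have hinj : Function.Injective (fun g : G =>
      ((⟨(g : G ⧸ C), ((g * s⁻¹ : G) : G ⧸ C)⟩ : (G ⧸ C) × (G ⧸ C)))) := by
    intro g h e
    obtain ⟨e1, e2⟩ := Prod.ext_iff.1 e
    have h1 : g⁻¹ * h ∈ C := QuotientGroup.eq.1 e1
    have h2 : (g * s⁻¹)⁻¹ * (h * s⁻¹) ∈ C := QuotientGroup.eq.1 e2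
    have h1' := mem_centralizer_singleton_iff.1 h1
    have h2' := mem_centralizer_singleton_iff.1 h2
    have hct : (g⁻¹ * h) * (z * t) = (z * t) * (g⁻¹ * h) := by
      rw [hzt]
      calc (g⁻¹ * h) * (s⁻¹ * z * s) = s⁻¹ * ((g * s⁻¹)⁻¹ * (h * s⁻¹) * z) * s := by group
        _ = s⁻¹ * (z * ((g * s⁻¹)⁻¹ * (h * s⁻¹))) * s := by rw [h2']
        _ = s⁻¹ * z * s * (g⁻¹ * h) := by group
    have hct' : (g⁻¹ * h) * t = t * (g⁻¹ * h) := by
      refine mul_left_cancel (a := z) ?_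
      calc z * (g⁻¹ * h * t) = (z * (g⁻¹ * h)) * t := by group
        _ = (g⁻¹ * h) * (z * t) := by rw [← h1']; group
        _ = z * (t * (g⁻¹ * h)) := by rw [hct]; group
    have hone : g⁻¹ * h = 1 := by
      by_contra hne
      obtain ⟨i, hi⟩ := IsPGroup.iff_orderOf.1 (c.isPGroup_central hb hz) ⟨_, h1⟩
      rw [Subgroup.orderOf_mk] at hi
      exact c.not_three_centralizer_two hi hne
        ((by rw [Nat.card_zpowers, ht] : 3 ∣ Nat.card (zpowers t)).trans
          (card_dvd_of_le (zpowers_le.2 (mem_centralizer_singleton_iff.2 hct'.symm))))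
    exact (inv_mul_eq_one.1 hone)
  have hne : ∀ g : G, ((g : G ⧸ C)) ≠ ((g * s⁻¹ : G) : G ⧸ C) := fun g h => by
    have h1 : g⁻¹ * (g * s⁻¹) ∈ C := QuotientGroup.eq.1 h
    rw [inv_mul_cancel_left] at h1
    have hsC : s ∈ C := C.inv_mem_iff.1 h1
    have h2 := C.mul_mem hsC hsC
    rw [hss] at h2
    obtain ⟨i, hi⟩ := IsPGroup.iff_orderOf.1 (c.isPGroup_central hb hz) ⟨_, h2⟩
    rw [Subgroup.orderOf_mk, ht] at hi
    exact absurd ((Nat.prime_dvd_prime_iff_eq Nat.prime_three Nat.prime_two).1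
      (Nat.prime_three.dvd_of_dvd_pow (by rw [← hi]))) (by norm_num)
  have hlt : Nat.card G < Nat.card ((G ⧸ C) × (G ⧸ C)) := by
    refine lt_of_le_of_ne (Nat.card_le_card_of_injective _ hinj) fun e => ?_
    obtain ⟨g, hg⟩ := (hinj.bijective_of_nat_card_le e.ge).2 (((1 : G) : G ⧸ C), ((1 : G) : G ⧸ C))
    have hg1 : (g : G ⧸ C) = ((1 : G) : G ⧸ C) := congrArg Prod.fst hg
    have hg2 : ((g * s⁻¹ : G) : G ⧸ C) = ((1 : G) : G ⧸ C) := congrArg Prod.snd hg
    exact hne g (hg1.trans hg2.symm)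
  obtain ⟨e, -, hCc⟩ := c.full_card
    (c.not_three_centralizer_two (i := 1) (by rw [hz.1, pow_one]) hz1) hz.2
  have he : e = 0 := by
    by_contra he
    exact not_dvd_of_isPGroup c.hq c.hq2 (c.isPGroup_central hb hz)
      (hCc ▸ (dvd_pow_self c.q he).mul_left _)
  rw [he, pow_zero, mul_one] at hCc
  have hidx : Nat.card (G ⧸ C) = 9 * c.q ^ c.b := by
    rw [← index_eq_card]
    have := C.index_mul_card
    rw [hCc, c.card] at this
    exact Nat.eq_of_mul_eq_mul_right (pow_pos (show 0 < 2 by norm_num) c.a) (this.trans (by ring))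
  rw [Nat.card_prod, hidx, c.card] at hlt
  have h' : 2 ^ c.a * (9 * c.q ^ c.b) < 9 * c.q ^ c.b * (9 * c.q ^ c.b) := by
    rw [show 2 ^ c.a * (9 * c.q ^ c.b) = 9 * 2 ^ c.a * c.q ^ c.b by ring]
    exact hlt
  exact Nat.lt_of_mul_lt_mul_right h'

omit [IsSimpleGroup G] in
/-- An involution over an inverting involution of a quotient. -/
theorem exists_inverter {H : Subgroup G} (N : Subgroup H) [N.Normal] (hN : ¬ 3 ∣ Nat.card N)
    {t : H} (ht : orderOf t = 3) {g : H ⧸ N} (hg : g * g = 1) (hg1 : g ≠ 1)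
    (hgt : g * (t : H ⧸ N) * g⁻¹ = (t : H ⧸ N)⁻¹) :
    ∃ j : H, orderOf (j : G) = 2 ∧ (j : G) * t * (j : G)⁻¹ = (t : G)⁻¹ ∧ j ∉ N := by
  haveI : Fact (Nat.Prime 3) := ⟨Nat.prime_three⟩
  set π := QuotientGroup.mk' N
  have htN : (t : H ⧸ N) ≠ 1 := fun h => hN (ht ▸ by
    rw [QuotientGroup.eq_one_iff] at h
    exact N.orderOf_dvd_natCard h)
  obtain ⟨h, rfl⟩ := QuotientGroup.mk_surjective g
  set K := zpowers t ⊔ N
  have hK : Nat.card K = 3 * Nat.card N := by
    have hm := PLocal.card_sup_mul_card_inf (A := zpowers t) (B := N)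
      (le_top.trans (normalizer_eq_top_iff.2 (inferInstance : N.Normal)).ge)
    have hbot : zpowers t ⊓ N = ⊥ := by
      rw [← card_eq_one]
      rcases (Nat.dvd_prime Nat.prime_three).1 (show Nat.card (zpowers t ⊓ N : Subgroup H) ∣ 3 by
        have := card_dvd_of_le (inf_le_left : zpowers t ⊓ N ≤ zpowers t)
        rwa [Nat.card_zpowers, ht] at this) with h | h
      · exact h
      · exact absurd (h ▸ card_dvd_of_le (inf_le_right : zpowers t ⊓ N ≤ N)) hN
    rwa [hbot, card_bot, mul_one, Nat.card_zpowers, ht] at hm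
  set t' := h * t * h⁻¹ with ht'
  have hto : orderOf t' = 3 := by
    rw [ht', ← ht]
    exact orderOf_injective (MulAut.conj h).toMonoidHom (MulAut.conj h).injective t
  have ht'K : t' ∈ K := by
    have e : ((t'⁻¹ * t⁻¹ : H) : H ⧸ N) = 1 := by
      rw [ht', QuotientGroup.mk_mul, QuotientGroup.mk_inv, QuotientGroup.mk_mul, QuotientGroup.mk_mul,
        QuotientGroup.mk_inv, hgt, inv_inv, QuotientGroup.mk_inv, mul_inv_cancel]
    rw [QuotientGroup.eq_one_iff] at e
    have e' : (t'⁻¹ * t⁻¹)⁻¹ ∈ K := inv_mem (mem_sup_right e)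
    have := mul_mem (inv_mem (mem_sup_left (mem_zpowers t) : t ∈ K)) e'
    simpa [mul_assoc] using this
  have hsyl : ∀ X : Subgroup K, Nat.card X = 3 → ∀ S : Sylow 3 K, X ≤ S → X = S := by
    intro X hX S hle
    refine eq_of_le_of_card_ge hle ?_
    obtain ⟨l, hl⟩ := S.isPGroup'.exists_card_eq
    have hd : 3 ^ l ∣ 3 * Nat.card N := hl ▸ hK ▸ card_subgroup_dvd_card _
    rw [hl, hX]
    exact Nat.le_of_dvd (by norm_num)
      (((Nat.prime_three.coprime_iff_not_dvd.2 hN).pow_left l).dvd_of_dvd_mul_right hd)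
  have hc : ∀ x : H, x ∈ K → orderOf x = 3 →
      Nat.card ((zpowers x).subgroupOf K) = 3 := fun x hx hxo => by
    rw [Nat.card_congr (subgroupOfEquivOfLe (zpowers_le.2 hx)).toEquiv, Nat.card_zpowers, hxo]
  have htK : t ∈ K := mem_sup_left (mem_zpowers t)
  obtain ⟨S, hS⟩ := (IsPGroup.of_card (n := 1) ((hc t htK ht).trans (pow_one 3).symm)).exists_le_sylow
  obtain ⟨S', hS'⟩ := (IsPGroup.of_card (n := 1)
    ((hc t' ht'K hto).trans (pow_one 3).symm)).exists_le_sylow
  obtain ⟨x, hx⟩ := exists_smul_eq K S' S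
  set n : H := x * h with hn
  have hnt : n * t * n⁻¹ ∈ zpowers t := by
    have hmem : x * ⟨t', ht'K⟩ * x⁻¹ ∈ (zpowers t).subgroupOf K := by
      rw [hsyl _ (hc t htK ht) S hS, ← hx, Sylow.coe_subgroup_smul]
      exact ⟨⟨t', ht'K⟩, hS' (show (⟨t', ht'K⟩ : K) ∈ (zpowers t').subgroupOf K from mem_zpowers t'),
        rfl⟩
    have e : ((x * ⟨t', ht'K⟩ * x⁻¹ : K) : H) ∈ zpowers t := hmem
    simpa [hn, ht', mul_assoc] using e
  -- the image of `x` is a power of the image of `t`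
  have hxim : ((x : H) : H ⧸ N) ∈ zpowers (t : H ⧸ N) := by
    have hle : K ≤ (zpowers (t : H ⧸ N)).comap π := sup_le
      (zpowers_le.2 (show (t : H ⧸ N) ∈ zpowers (t : H ⧸ N) from mem_zpowers _))
      (fun w hw => by
        show (w : H ⧸ N) ∈ zpowers (t : H ⧸ N)
        rw [(QuotientGroup.eq_one_iff w).2 hw]
        exact one_mem _)
    exact hle x.2
  obtain ⟨k, hk⟩ := mem_zpowers_iff.1 hxim
  have hn2 : ((n : H) : H ⧸ N) * (n : H ⧸ N) = 1 := by
    rw [hn, QuotientGroup.mk_mul, ← hk]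
    have e1 : (h : H ⧸ N) * (t : H ⧸ N) ^ k * (h : H ⧸ N)⁻¹ = ((t : H ⧸ N) ^ k)⁻¹ := by
      rw [← conj_zpow, hgt, inv_zpow]
    calc (t : H ⧸ N) ^ k * h * ((t : H ⧸ N) ^ k * h)
        = (t : H ⧸ N) ^ k * ((h : H ⧸ N) * (t : H ⧸ N) ^ k * (h : H ⧸ N)⁻¹) * (h * h) := by group
      _ = 1 := by rw [e1, hg, mul_inv_cancel, mul_one]
  have hn1 : ((n : H) : H ⧸ N) ≠ 1 := by
    rw [hn, QuotientGroup.mk_mul, ← hk]
    intro e
    have hh : (h : H ⧸ N) = ((t : H ⧸ N) ^ k)⁻¹ := eq_inv_of_mul_eq_one_right e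
    rw [hh] at hgt
    have h2 : (t : H ⧸ N) = (t : H ⧸ N)⁻¹ := by
      rw [← hgt]
      group
    have h3 : (t : H ⧸ N) ^ 3 = 1 := by
      rw [← QuotientGroup.mk_pow, ← ht, pow_orderOf_eq_one]
      rfl
    apply htN
    calc (t : H ⧸ N) = (t : H ⧸ N) ^ 3 * ((t : H ⧸ N) * (t : H ⧸ N))⁻¹ := by group
      _ = 1 := by
        rw [h3, one_mul]
        nth_rewrite 1 [h2]
        rw [inv_mul_cancel, inv_one]
  have heven : 2 ∣ orderOf n := by
    have h2 : orderOf (n : H ⧸ N) = 2 := orderOf_eq_prime (by rw [sq]; exact hn2) hn1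
    exact h2 ▸ orderOf_map_dvd π n
  set j := n ^ (orderOf n / 2) with hj
  have hjo : orderOf j = 2 := by
    rw [hj, orderOf_pow_of_dvd (fun h0 => by
      have := Nat.div_eq_zero_iff.1 h0
      have := Nat.le_of_dvd (orderOf_pos n) heven
      omega) (Nat.div_dvd_of_dvd heven), Nat.div_div_self heven (orderOf_pos _).ne']
  have hjt : j * t * j⁻¹ ∈ zpowers t := by
    have hnn : n ∈ normalizer (zpowers t : Set H) := mem_normalizer_of_forall fun w hw => by
      obtain ⟨l, rfl⟩ := mem_zpowers_iff.1 hw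
      rw [← conj_zpow]
      exact zpow_mem hnt l
    exact (mem_normalizer_iff.1 (pow_mem hnn _) t).1 (mem_zpowers t)
  have hjj : (j : G) * j = 1 := by
    have := pow_orderOf_eq_one j
    rw [hjo, sq] at this
    exact congrArg Subtype.val this
  have hnotcomm : j * t ≠ t * j := fun e => by
    have hjG : orderOf (j : G) = 2 ^ 1 := by rw [Subgroup.orderOf_coe, hjo, pow_one]
    refine (?_ : ¬ 3 ∣ Nat.card (centralizer ({(j : G)} : Set G)))
      ((by rw [Nat.card_zpowers, Subgroup.orderOf_coe, ht] :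
          3 ∣ Nat.card (zpowers (t : G))).trans (card_dvd_of_le (zpowers_le.2
        (mem_centralizer_singleton_iff.2 (congrArg Subtype.val e.symm)))))
    exact c.not_three_centralizer_two hjG (fun h => by
      rw [h, orderOf_one] at hjG
      norm_num at hjG)
  obtain ⟨l, hl⟩ := mem_zpowers_iff.1 hjt
  have hl3 : l % 3 = 2 := by
    have hmod : t ^ l = t ^ (l % 3) := by
      rw [show (3 : ℤ) = ((orderOf t : ℕ) : ℤ) by rw [ht]; norm_num, zpow_mod_orderOf]
    rcases (show l % 3 = 0 ∨ l % 3 = 1 ∨ l % 3 = 2 by omega) with e | e | e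
    · 
      exfalso
      have h1 : j * t * j⁻¹ = 1 := by rw [← hl, hmod, e, zpow_zero]
      rw [conj_eq_one_iff] at h1
      rw [h1, orderOf_one] at ht
      norm_num at ht
    · exfalso
      have h1 : j * t * j⁻¹ = t := by rw [← hl, hmod, e, zpow_one]
      exact hnotcomm (mul_inv_eq_iff_eq_mul.1 h1)
    · exact e
  have hjinv : j * t * j⁻¹ = t⁻¹ := by
    rw [← hl, show t ^ l = t ^ (l % 3) by
      rw [show (3 : ℤ) = ((orderOf t : ℕ) : ℤ) by rw [ht]; norm_num, zpow_mod_orderOf], hl3]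
    refine eq_inv_of_mul_eq_one_left ?_
    rw [← zpow_add_one, show (2 : ℤ) + 1 = ((orderOf t : ℕ) : ℤ) by rw [ht]; norm_num, zpow_natCast,
      pow_orderOf_eq_one]
  refine ⟨j, by rw [Subgroup.orderOf_coe, hjo], congrArg Subtype.val hjinv, fun hjN => hnotcomm ?_⟩
  -- an inverter inside `N` would centralise `t`
  have h1 : ((j * t * j⁻¹ : H) : H ⧸ N) = (t : H ⧸ N) := by
    rw [QuotientGroup.mk_mul, QuotientGroup.mk_mul, QuotientGroup.mk_inv,
      (QuotientGroup.eq_one_iff j).2 hjN, one_mul, inv_one, mul_one]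
  rw [hjinv, QuotientGroup.mk_inv] at h1
  exfalso
  have h3 : (t : H ⧸ N) ^ 3 = 1 := by
    rw [← QuotientGroup.mk_pow, ← ht, pow_orderOf_eq_one]
    rfl
  apply htN
  calc (t : H ⧸ N) = (t : H ⧸ N) ^ 3 * ((t : H ⧸ N) * (t : H ⧸ N))⁻¹ := by group
    _ = 1 := by
      rw [h3, one_mul]
      nth_rewrite 1 [← h1]
      rw [inv_mul_cancel, inv_one]

/-- An involution inverting an element of order three is central when there is one class of such
elements. -/
theorem central_of_inverts [Fact c.q.Prime] (hb : 2 ≤ c.b)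
    (hone : ∀ s t : G, orderOf s = 3 → orderOf t = 3 → IsConj s t) {j t : G}
    (hj : orderOf j = 2) (ht : orderOf t = 3) (hinv : j * t * j⁻¹ = t⁻¹) : c.Central j := by
  obtain ⟨z, hz, -⟩ := c.exists_central (IsPGroup.of_bot : IsPGroup 2 (⊥ : Subgroup G))
  obtain ⟨s, hs, hzs⟩ := c.exists_three_inverted hb hz
  obtain ⟨g, hg⟩ := isConj_iff.1 (hone s t hs ht)
  have hz' := c.central_conj hz g
  set z' := g * z * g⁻¹ with hz'def
  clear_value z'
  have hz't : z' * t * z'⁻¹ = t⁻¹ := by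
    rw [hz'def, ← hg]
    calc g * z * g⁻¹ * (g * s * g⁻¹) * (g * z * g⁻¹)⁻¹ = g * (z * s * z⁻¹) * g⁻¹ := by group
      _ = (g * s * g⁻¹)⁻¹ := by rw [hzs]; group
  set r := z' * j with hr
  clear_value r
  obtain ⟨-, hzz, hzi⟩ := orderOf_two hz'.1
  obtain ⟨-, hjj, hji⟩ := orderOf_two hj
  have hrC : r ∈ centralizer ({t} : Set G) := by
    have h1 : r * t * r⁻¹ = t := by
      rw [hr, show z' * j * t * (z' * j)⁻¹ = z' * (j * t * j⁻¹) * z'⁻¹ by group, hinv,
        show z' * t⁻¹ * z'⁻¹ = (z' * t * z'⁻¹)⁻¹ by group, hz't, inv_inv]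
    exact mem_centralizer_singleton_iff.2 (mul_inv_eq_iff_eq_mul.1 h1)
  have hr3 : r ^ 3 = 1 := by
    haveI : Fact (Nat.Prime 3) := ⟨Nat.prime_three⟩
    obtain ⟨S, hS⟩ := (isPGroup_zpowers_of_orderOf (i := 1) (by rw [ht, pow_one]) :
      IsPGroup 3 (zpowers t)).exists_le_sylow
    obtain ⟨x, hx⟩ := exists_smul_eq G S c.R
    have htR : x * t * x⁻¹ ∈ (c.R : Subgroup G) := by
      rw [← hx, Sylow.coe_subgroup_smul]
      exact ⟨t, hS (mem_zpowers t), rfl⟩
    have hne : x * t * x⁻¹ ≠ 1 := fun h => by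
      rw [conj_eq_one_iff] at h
      rw [h, orderOf_one] at ht
      norm_num at ht
    have hrR : x * r * x⁻¹ ∈ (c.R : Subgroup G) := by
      rw [← c.cent _ htR hne, mem_centralizer_singleton_iff]
      calc x * r * x⁻¹ * (x * t * x⁻¹) = x * (r * t) * x⁻¹ := by group
        _ = x * (t * r) * x⁻¹ := by rw [mem_centralizer_singleton_iff.1 hrC]
        _ = x * t * x⁻¹ * (x * r * x⁻¹) := by group
    have := c.exp3 _ hrR
    rwa [conj_pow, conj_eq_one_iff] at this
  have hrinv : z' * r * z'⁻¹ = r⁻¹ := by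
    rw [hr, mul_inv_rev, hzi, hji, ← mul_assoc z' z', hzz, one_mul]
  have hs2 : r ^ 2 * r ^ 2 = r := by rw [← pow_add, show 2 + 2 = 3 + 1 by rfl, pow_succ, hr3, one_mul]
  have hzr : z' * r ^ 2 = (r ^ 2)⁻¹ * z' := by
    exact mul_inv_eq_iff_eq_mul.1 (by rw [← conj_pow, hrinv, inv_pow])
  have hjr : j = (r ^ 2)⁻¹ * z' * r ^ 2 := by
    calc j = z' * r := by rw [hr, ← mul_assoc, hzz, one_mul]
      _ = z' * (r ^ 2 * r ^ 2) := by rw [hs2]
      _ = z' * r ^ 2 * r ^ 2 := by rw [mul_assoc]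
      _ = _ := by rw [hzr]
  have := c.central_conj hz' (r ^ 2)⁻¹
  rwa [inv_inv, ← hjr] at this

theorem orderOf_mk_eq_one {H : Subgroup G} {N : Subgroup H} [N.Normal] {x : H} {d : ℕ}
    (hd : Nat.card (H ⧸ N) ∣ d) (hx : (orderOf x).Coprime d) : x ∈ N := by
  rw [← QuotientGroup.eq_one_iff, ← orderOf_eq_one_iff]
  exact Nat.eq_one_of_dvd_coprimes hx (orderOf_map_dvd (QuotientGroup.mk' N) x)
    ((_root_.orderOf_dvd_natCard _).trans hd)

/-- An involution centralising an element of order `q` lies, with its centraliser, in a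
`{2,q}`-subgroup with a full Sylow 2-subgroup. -/
theorem exists_full [Fact c.q.Prime] (hb : 2 ≤ c.b)
    (hone : ∀ s t : G, orderOf s = 3 → orderOf t = 3 → IsConj s t) {u : G} (hu : orderOf u = 2)
    (hq : c.q ∣ Nat.card (centralizer ({u} : Set G))) :
    ∃ M : Subgroup G, centralizer ({u} : Set G) ≤ M ∧ Nat.card M = 2 ^ c.a * c.q := by
  classical
  haveI : Fact (Nat.Prime 2) := ⟨Nat.prime_two⟩
  have hu1 := (orderOf_two hu).1
  set C := centralizer ({u} : Set G) with hC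
  have hC3 : ¬ 3 ∣ Nat.card C := c.not_three_centralizer_two (i := 1) (by rw [hu, pow_one]) hu1
  have huC : u ∈ C := mem_centralizer_singleton_iff.2 rfl
  have hC2 : core 2 C ≠ ⊥ := by
    intro h
    have hle : zpowers u ≤ core 2 C := le_core (zpowers_le.2 huC)
      (fun g hg => centralizer_le_normalizer _ (by rw [centralizer_zpowers]; exact hg))
      (isPGroup_zpowers_two hu)
    rw [h, le_bot_iff, zpowers_eq_bot] at hle
    exact hu1 hle
  haveI : Nonempty {M : Subgroup G // C ≤ M ∧ ¬ 3 ∣ Nat.card M ∧ core 2 M ≠ ⊥} :=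
    ⟨⟨C, le_rfl, hC3, hC2⟩⟩
  obtain ⟨⟨M, hCM, hM3, hM2⟩, hmax⟩ := Finite.exists_max
    (fun M : {M : Subgroup G // C ≤ M ∧ ¬ 3 ∣ Nat.card M ∧ core 2 M ≠ ⊥} => Nat.card M.1)
  -- a Sylow 2-subgroup through `u`
  obtain ⟨S, hS⟩ := ((isPGroup_zpowers_two hu).comap_subtype :
    IsPGroup 2 ((zpowers u).subgroupOf M)).exists_le_sylow
  set T := (S : Subgroup M).map M.subtype with hT
  have hTM : T ≤ M := map_subtype_le _
  have hT2 : IsPGroup 2 T := S.isPGroup'.map _
  have huT : u ∈ T := ⟨⟨u, hCM huC⟩, hS (show (⟨u, hCM huC⟩ : M) ∈ (zpowers u).subgroupOf M from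
    mem_zpowers u), rfl⟩
  have hcoreT : core 2 M ≤ T := by
    haveI : ((core 2 M).subgroupOf M).Normal :=
      (normal_subgroupOf_iff_le_normalizer (core_le 2 M)).2 (le_normalizer_core 2 M)
    have h := S.3 (S.isPGroup'.to_sup_of_normal_right (K := (core 2 M).subgroupOf M)
      (core_isPGroup 2 M).comap_subtype) le_sup_left
    intro y hy
    exact ⟨⟨y, core_le 2 M hy⟩,
      h ▸ mem_sup_right (show (⟨y, core_le 2 M hy⟩ : M) ∈ (core 2 M).subgroupOf M from hy), rfl⟩
  obtain ⟨z, hz, hTz⟩ := c.exists_central hT2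
  have hzM : z ∈ M := hCM (mem_centralizer_singleton_iff.2
    (mem_centralizer_singleton_iff.1 (hTz huT)).symm)
  set W := closure {x : G | x ∈ M ∧ c.Central x} with hW
  have hzW : z ∈ W := subset_closure ⟨hzM, hz⟩
  have hWcore : W ≤ core 2 M := by
    rw [hW, closure_le]
    exact fun x hx => c.central_mem_core hb hM3 hx.2 hx.1
  have hWM : W ≤ M := hWcore.trans (core_le 2 M)
  have hW2 : IsPGroup 2 W := (core_isPGroup 2 M).to_le hWcore
  have hWne : W ≠ ⊥ := fun h => (orderOf_two hz.1).1 (by rwa [h, mem_bot] at hzW)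
  have hnorm : ∀ g : G, (∀ x, x ∈ M → c.Central x → g * x * g⁻¹ ∈ M) →
      g ∈ normalizer (W : Set G) := by
    intro g hg
    refine mem_normalizer_of_forall fun x hx => ?_
    rw [hW] at hx ⊢
    induction hx using closure_induction with
    | mem x hx => exact subset_closure ⟨hg x hx.1 hx.2, c.central_conj hx.2 g⟩
    | one => simp
    | mul a b _ _ ha hb => simpa [mul_assoc] using mul_mem ha hb
    | inv a _ ha => simpa [mul_assoc] using inv_mem ha
  have hMN : M ≤ normalizer (W : Set G) := fun g hg =>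
    hnorm g fun x hx _ => mul_mem (mul_mem hg hx) (inv_mem hg)
  obtain ⟨P, hP⟩ := hT2.exists_le_sylow
  obtain ⟨y, hyC, hy⟩ := c.exists_order_q hq
  by_cases hfull : T = (P : Subgroup G)
  · obtain ⟨e, -, he⟩ := c.full_card hM3
      (((hfull ▸ c.card_sylow_two P : 2 ^ c.a ∣ Nat.card T)).trans (card_dvd_of_le hTM))
    have he1 := (c.full_weights he).1
    have he0 : 1 ≤ e := c.q_pow_le he (by
      rw [pow_one, ← hy]
      exact M.orderOf_dvd_natCard (hCM hyC))
    exact ⟨M, hCM, by rw [he, show e = 1 by omega, pow_one]⟩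
  exfalso
  obtain ⟨g, ⟨hgN, hgP⟩, hgT⟩ := SetLike.exists_of_lt
    (CfsgLib.OddOrder.lt_normalizer_inf_of_lt P.isPGroup' (lt_of_le_of_ne hP hfull))
  have hgM : g ∉ M := fun hgM => by
    have h2 : IsPGroup 2 (T ⊔ zpowers g : Subgroup G) :=
      P.isPGroup'.to_le (sup_le hP (zpowers_le.2 hgP))
    have hle : (S : Subgroup M) ≤ (T ⊔ zpowers g).subgroupOf M := fun x hx =>
      mem_sup_left (⟨x, hx, rfl⟩ : (x : G) ∈ T)
    have h := S.3 h2.comap_subtype hle
    have hgS : (⟨g, hgM⟩ : M) ∈ (S : Subgroup M) :=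
      h ▸ (mem_sup_right (mem_zpowers g) : g ∈ T ⊔ zpowers g)
    exact hgT ⟨⟨g, hgM⟩, hgS, rfl⟩
  set N := normalizer (W : Set G) with hN
  have hgW : g ∈ N := hnorm g fun x hx hxc =>
    hTM ((mem_normalizer_iff.1 hgN x).1 (hcoreT (c.central_mem_core hb hM3 hxc hx)))
  have hWN : W ≤ N := le_normalizer
  have hN3 : 3 ∣ Nat.card N := by
    by_contra hN3
    have hNc : core 2 N ≠ ⊥ := fun h =>
      hWne (le_bot_iff.1 (h ▸ le_core hWN le_rfl hW2))
    have hle : Nat.card N ≤ Nat.card M := hmax ⟨N, hCM.trans hMN, hN3, hNc⟩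
    exact hgM (eq_of_le_of_card_ge hMN hle ▸ hgW)
  have hN9 := c.not_nine_dvd hWne (c.not_three_of_two hW2) (le_refl N)
  have hyN : y ∈ N := hMN (hCM hyC)
  have hyN' : orderOf (⟨y, hyN⟩ : N) = c.q := by rw [Subgroup.orderOf_mk, hy]
  rcases c.nilpotent_or_alt hN3 hN9 (p := 2) (by norm_num) hWN le_rfl hW2 hWne with
    ⟨N0, hN0, hnil, -, hcases⟩ | ⟨-, N0, hN0, -, -, hsq, ⟨e⟩⟩
  · haveI := hN0
    haveI := hnil
    have h6 : Nat.card (N ⧸ N0) ∣ 6 := by
      rcases hcases with h | ⟨⟨f⟩⟩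
      · rw [h]; norm_num
      · rw [Nat.card_congr f.toEquiv, card_permThree]
    have hq6 : c.q.Coprime 6 := (Nat.Coprime.mul_right
      c.coprime_two_q.symm ((Nat.coprime_primes c.hq Nat.prime_three).2 c.hq3) :
        c.q.Coprime (2 * 3))
    have hyN0 : (⟨y, hyN⟩ : N) ∈ N0 := c.orderOf_mk_eq_one h6 (hyN'.symm ▸ hq6)
    -- `y` centralises `W`
    set w : G := y * z * y⁻¹ * z⁻¹ with hw
    have hwW : w ∈ W := mul_mem ((mem_normalizer_iff.1 hyN z).1 hzW) (inv_mem hzW)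
    have hwN0 : (⟨w, hWN hwW⟩ : N) ∈ N0 := by
      have h1 := hN0.conj_mem _ (inv_mem hyN0) ⟨z, hWN hzW⟩
      have h2 := mul_mem hyN0 h1
      convert h2 using 1
      apply Subtype.ext
      show w = y * (z * y⁻¹ * z⁻¹)
      rw [hw]
      group
    have hcop : (orderOf (⟨⟨y, hyN⟩, hyN0⟩ : N0)).Coprime (orderOf (⟨⟨w, hWN hwW⟩, hwN0⟩ : N0)) := by
      rw [Subgroup.orderOf_mk, Subgroup.orderOf_mk, Subgroup.orderOf_mk, Subgroup.orderOf_mk, hy]
      obtain ⟨i, hi⟩ := IsPGroup.iff_orderOf.1 hW2 ⟨w, hwW⟩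
      rw [Subgroup.orderOf_mk] at hi
      rw [hi]
      exact c.coprime_two_q.symm.pow_right i
    have hyw : y * w = w * y :=
      congrArg (fun x : N0 => ((x : N) : G)) (NilpotentCover.commute_of_coprime _ _ hcop).eq
    have hpow : ∀ n : ℕ, y ^ n * z * (y ^ n)⁻¹ = w ^ n * z := by
      intro n
      induction n with
      | zero => simp
      | succ n ih =>
        have hc : y * w ^ n * y⁻¹ = w ^ n :=
          mul_inv_eq_iff_eq_mul.2 ((show Commute y w from hyw).pow_right n).eq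
        calc y ^ (n + 1) * z * (y ^ (n + 1))⁻¹ = y * (y ^ n * z * (y ^ n)⁻¹) * y⁻¹ := by
              rw [pow_succ']; group
          _ = y * (w ^ n * z) * y⁻¹ := by rw [ih]
          _ = (y * w ^ n * y⁻¹) * (y * z * y⁻¹) := by group
          _ = w ^ n * (w * z) := by rw [hc, hw]; group
          _ = w ^ (n + 1) * z := by rw [pow_succ]; group
    have hwq : w ^ c.q = 1 := by
      have h := hpow c.q
      rw [show y ^ c.q = 1 by rw [← hy, pow_orderOf_eq_one], one_mul, inv_one, mul_one] at h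
      exact mul_eq_right.1 h.symm
    have hw1 : w = 1 := by
      obtain ⟨i, hi⟩ := IsPGroup.iff_orderOf.1 hW2 ⟨w, hwW⟩
      rw [Subgroup.orderOf_mk] at hi
      exact orderOf_eq_one_iff.1 (Nat.eq_one_of_dvd_coprimes (c.coprime_two_q.pow_left i)
        hi.dvd (orderOf_dvd_of_pow_eq_one hwq))
    have hyz : y * z = z * y := by
      rw [hw, mul_inv_eq_one] at hw1
      exact mul_inv_eq_iff_eq_mul.1 hw1
    exact not_dvd_of_isPGroup c.hq c.hq2 (c.isPGroup_central hb hz)
      (hy ▸ (centralizer ({z} : Set G)).orderOf_dvd_natCard (mem_centralizer_singleton_iff.2 hyz))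
  · haveI := hN0
    haveI : Fact (Nat.Prime 3) := ⟨Nat.prime_three⟩
    have hN03 : ¬ 3 ∣ Nat.card N0 := fun h3 => by
      obtain ⟨x, hx⟩ := exists_prime_orderOf_dvd_card' (G := N0) 3 h3
      have := orderOf_dvd_of_pow_eq_one (show x ^ 2 = 1 from Subtype.ext (hsq x x.2))
      rw [hx] at this
      norm_num at this
    obtain ⟨t, ht⟩ := exists_prime_orderOf_dvd_card' (G := N) 3 hN3
    have ht0 : (t : N ⧸ N0) ≠ 1 := fun h => hN03 (ht ▸ N0.orderOf_dvd_natCard
      ((QuotientGroup.eq_one_iff t).1 h))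
    have ht3 : e (t : N ⧸ N0) ^ 3 = 1 := by
      rw [← map_pow, ← QuotientGroup.mk_pow, ← ht, pow_orderOf_eq_one, QuotientGroup.mk_one, map_one]
    obtain ⟨g0, hg0, hg0t, hg01⟩ := altFive_inverter (e (t : N ⧸ N0)) ht3
      (fun h => ht0 ((MulEquiv.map_eq_one_iff e).1 h))
    obtain ⟨j, hj, hjt, hjN⟩ := c.exists_inverter N0 hN03 ht (g := e.symm g0)
      (by rw [← map_mul, hg0, map_one]) (fun h => hg01 ((MulEquiv.map_eq_one_iff e.symm).1 h))
      (by
        apply e.injective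
        rw [map_mul, map_mul, map_inv, map_inv, MulEquiv.apply_symm_apply, hg0t])
    have hjc : c.Central (j : G) :=
      c.central_of_inverts hb hone hj (by rw [Subgroup.orderOf_coe, ht]) hjt
    obtain ⟨-, hjj, -⟩ := orderOf_two hj
    set x := e (j : N ⧸ N0) with hxdef
    have hx2 : x * x = 1 := by
      rw [hxdef, ← map_mul, ← QuotientGroup.mk_mul, show j * j = 1 from Subtype.ext hjj,
        QuotientGroup.mk_one, map_one]
    obtain ⟨g1, hg15, hg1ne⟩ := altFive_product x hx2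
      (fun h => hjN ((QuotientGroup.eq_one_iff j).1 ((MulEquiv.map_eq_one_iff e).1 h)))
    obtain ⟨h, hh⟩ := QuotientGroup.mk_surjective (e.symm g1)
    set p : N := j * (h * j * h⁻¹) with hp
    have hp' : e (p : N ⧸ N0) = x * (g1 * x * g1⁻¹) := by
      rw [hp, QuotientGroup.mk_mul, QuotientGroup.mk_mul, QuotientGroup.mk_mul, QuotientGroup.mk_inv,
        hh, map_mul, map_mul, map_mul, map_inv, MulEquiv.apply_symm_apply]
    haveI : Fact (Nat.Prime 5) := ⟨by norm_num⟩
    have h5 : 5 ∣ orderOf (p : G) := by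
      have ho : orderOf (e (p : N ⧸ N0)) = 5 := orderOf_eq_prime (hp' ▸ hg15) (hp' ▸ hg1ne)
      rw [Subgroup.orderOf_coe, ← ho, e.orderOf_eq]
      exact orderOf_map_dvd (QuotientGroup.mk' N0) p
    have hq5 : c.q = 5 := by
      have h5G : 5 ∣ 9 * 2 ^ c.a * c.q ^ c.b := c.card ▸ h5.trans (orderOf_dvd_natCard _)
      have h5p : Nat.Prime 5 := by norm_num
      rcases h5p.dvd_mul.1 h5G with h' | h'
      · rcases h5p.dvd_mul.1 h' with h'' | h''
        · norm_num at h''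
        · exact absurd ((Nat.prime_dvd_prime_iff_eq h5p Nat.prime_two).1 (h5p.dvd_of_dvd_pow h''))
            (by norm_num)
      · exact ((Nat.prime_dvd_prime_iff_eq h5p c.hq).1 (h5p.dvd_of_dvd_pow h')).symm
    refine c.not_dvd_orderOf_mul hb hjc (w := ((h * j * h⁻¹ : N) : G)) ?_ ?_
    · show (h : G) * j * (h : G)⁻¹ * ((h : G) * j * (h : G)⁻¹) = 1
      rw [show (h : G) * j * (h : G)⁻¹ * ((h : G) * j * (h : G)⁻¹) =
        (h : G) * ((j : G) * j) * (h : G)⁻¹ by group, hjj]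
      group
    · rw [hq5]
      exact h5

theorem card_zjN [Fact c.q.Prime] (hb : 2 ≤ c.b)
    (hone : ∀ s t : G, orderOf s = 3 → orderOf t = 3 → IsConj s t) (Q : Sylow c.q G) {u : G}
    (hu : orderOf u = 2) (huB : u ∈ c.zjN c.q (Q : Subgroup G)) :
    ∃ m, Nat.card (c.zjN c.q (Q : Subgroup G)) = 2 ^ m * c.q ^ c.b := by
  haveI : Fact (Nat.Prime 2) := ⟨Nat.prime_two⟩
  set B := c.zjN c.q (Q : Subgroup G) with hB
  suffices h3 : ¬ 3 ∣ Nat.card B by
    obtain ⟨m, e, -, he, hBc⟩ := c.card_eq_of_not_three h3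
    have : e = c.b := le_antisymm he (c.q_pow_le hBc
      ((c.index_sylow Q).2 ▸ card_dvd_of_le (c.sylow_le_zjN Q)))
    exact ⟨m, this ▸ hBc⟩
  intro h3
  haveI : Fact (Nat.Prime 3) := ⟨Nat.prime_three⟩
  obtain ⟨hZne, hZp, hZ3⟩ := c.centerThompson_facts Q
  rcases c.nilpotent_or_alt h3 (c.not_nine_dvd hZne hZ3 le_rfl) c.hq3
    (le_normalizer : Cfsg.centerThompsonOf c.q (Q : Subgroup G) ≤ B) le_rfl hZp hZne with
    ⟨N0, hN0, hnil, hcop, hcases⟩ | ⟨h2, -⟩
  swap
  · exact c.hq2 h2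
  haveI := hN0
  haveI := hnil
  obtain ⟨hCP, hPQ⟩ := c.centralizer_core_le hb Q
  set P := core c.q B with hP
  have h6 : Nat.card (B ⧸ N0) ∣ 6 := by
    rcases hcases with h | ⟨⟨f⟩⟩
    · rw [h]; norm_num
    · rw [Nat.card_congr f.toEquiv, card_permThree]
  have hu1 := (orderOf_two hu).1
  have huo : orderOf (⟨u, huB⟩ : B) = 2 := by rw [Subgroup.orderOf_mk, hu]
  have huN : (⟨u, huB⟩ : B) ∉ N0 := by
    intro hu0
    have huP : u ∈ P := hCP (mem_centralizer_iff.2 fun x hx => by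
      obtain ⟨i, hi⟩ := c.exists_pow_order (core_isPGroup c.q B) hx
      have hq6 : (c.q ^ i).Coprime 6 := Nat.Coprime.pow_left i (Nat.Coprime.mul_right
        c.coprime_two_q.symm ((Nat.coprime_primes c.hq Nat.prime_three).2 c.hq3) :
          c.q.Coprime (2 * 3))
      have hxB : x ∈ B := core_le c.q B hx
      have hx0 : (⟨x, hxB⟩ : B) ∈ N0 :=
        c.orderOf_mk_eq_one h6 (by rw [Subgroup.orderOf_mk, hi]; exact hq6)
      have hcop' : (orderOf (⟨⟨x, hxB⟩, hx0⟩ : N0)).Coprime (orderOf (⟨⟨u, huB⟩, hu0⟩ : N0)) := by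
        rw [Subgroup.orderOf_mk, Subgroup.orderOf_mk, Subgroup.orderOf_mk, Subgroup.orderOf_mk, hi, hu]
        exact c.coprime_two_q.symm.pow_left i
      exact congrArg (fun w : N0 => ((w : B) : G)) (NilpotentCover.commute_of_coprime _ _ hcop').eq)
    exact not_dvd_of_isPGroup Nat.prime_two (Ne.symm c.hq2) (core_isPGroup c.q B)
      (hu ▸ P.orderOf_dvd_natCard huP)
  rcases hcases with h | ⟨⟨f⟩⟩
  · exact huN (c.orderOf_mk_eq_one (dvd_of_eq h) (by rw [huo]; norm_num))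
  have hN03 : ¬ 3 ∣ Nat.card N0 := fun h =>
    absurd (Nat.eq_one_of_dvd_coprimes hcop h dvd_rfl) (by norm_num)
  obtain ⟨t, ht⟩ := exists_prime_orderOf_dvd_card' (G := B) 3 h3
  have hu0 : f ((⟨u, huB⟩ : B) : B ⧸ N0) ≠ 1 := fun h =>
    huN ((QuotientGroup.eq_one_iff _).1 ((MulEquiv.map_eq_one_iff f).1 h))
  have hu2 : ((⟨u, huB⟩ : B) : B ⧸ N0) * ((⟨u, huB⟩ : B) : B ⧸ N0) = 1 := by
    rw [← QuotientGroup.mk_mul, show (⟨u, huB⟩ : B) * ⟨u, huB⟩ = 1 from
      Subtype.ext (orderOf_two hu).2.1, QuotientGroup.mk_one]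
  have hinv := permThree_inverts (f ((⟨u, huB⟩ : B) : B ⧸ N0)) (f (t : B ⧸ N0))
    (by rw [← map_mul, hu2, map_one]) hu0
    (by rw [← map_pow, ← QuotientGroup.mk_pow, show t ^ 3 = 1 by rw [← ht, pow_orderOf_eq_one],
      QuotientGroup.mk_one, map_one])
  rw [← map_inv, ← map_inv, ← map_mul, ← map_mul] at hinv
  obtain ⟨j, hj, hjt, -⟩ := c.exists_inverter N0 hN03 ht hu2
    (fun h => huN ((QuotientGroup.eq_one_iff _).1 h)) (f.injective hinv)
  exact c.central_notMem_zjN hb Q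
    (c.central_of_inverts hb hone hj (by rw [Subgroup.orderOf_coe, ht]) hjt) j.2

/-- An involution central in a Sylow 2-subgroup of `B` commutes with no element of `Q` of order `q`. -/
theorem not_commute_of_central_in [Fact c.q.Prime] (hb : 2 ≤ c.b)
    (hone : ∀ s t : G, orderOf s = 3 → orderOf t = 3 → IsConj s t) (Q : Sylow c.q G) {m : ℕ}
    (hB : Nat.card (c.zjN c.q (Q : Subgroup G)) = 2 ^ m * c.q ^ c.b) {v : G} (hv : orderOf v = 2)
    (hm : 2 ^ m ∣ Nat.card
      (c.zjN c.q (Q : Subgroup G) ⊓ centralizer ({v} : Set G) : Subgroup G))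
    {y : G} (hyQ : y ∈ (Q : Subgroup G)) (hy : orderOf y = c.q) : v * y ≠ y * v := by
  classical
  intro hvy
  set B := c.zjN c.q (Q : Subgroup G) with hBdef
  have hQB : (Q : Subgroup G) ≤ B := c.sylow_le_zjN Q
  set K := B ⊓ centralizer ({v} : Set G) with hK
  have hyC : y ∈ centralizer ({v} : Set G) := mem_centralizer_singleton_iff.2 hvy.symm
  obtain ⟨M, hCM, hMc⟩ := c.exists_full hb hone hv
    (hy ▸ (centralizer ({v} : Set G)).orderOf_dvd_natCard hyC)
  have hy1 : y ≠ 1 := fun h => by rw [h, orderOf_one] at hy; exact c.hq.one_lt.ne hy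
  have hKc : Nat.card K = 2 ^ m * c.q := by
    have hd : Nat.card K ∣ 2 ^ m * c.q ^ c.b := hB ▸ card_dvd_of_le inf_le_left
    obtain ⟨x, hx⟩ := hm
    have hx' : x ∣ c.q ^ c.b := by
      rw [hx] at hd
      exact Nat.dvd_of_mul_dvd_mul_left (pow_pos (by norm_num) m) hd
    obtain ⟨i, -, rfl⟩ := (Nat.dvd_prime_pow c.hq).1 hx'
    have hi1 : i ≤ 1 := c.q_pow_le (M := M) (m := c.a) (e := 1) (by rw [pow_one]; exact hMc)
      ((dvd_mul_left _ _).trans (hx ▸ card_dvd_of_le (inf_le_right.trans hCM)))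
    have hi0 : i ≠ 0 := by
      rintro rfl
      have hyK : c.q ∣ Nat.card K := hy ▸ K.orderOf_dvd_natCard ⟨hQB hyQ, hyC⟩
      rw [hx, pow_zero, mul_one] at hyK
      exact c.hq2 ((Nat.prime_dvd_prime_iff_eq c.hq Nat.prime_two).1 (c.hq.dvd_of_dvd_pow hyK))
    rw [hx, show i = 1 by omega, pow_one]
  obtain ⟨-, hweights⟩ := c.full_weights (e := 1) (by rw [pow_one]; exact hMc)
  obtain ⟨-, hweights⟩ := hweights rfl
  obtain ⟨k, hk2, -, -, hfix⟩ := hweights Q
  have hyM : y ∈ M := hCM hyC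
  set X := zpowers (⟨y, hyM⟩ : M)
  have hX : Nat.card X = c.q := by rw [Nat.card_zpowers, Subgroup.orderOf_mk, hy]
  have hfixX := hfix X hX
  have hKM : K ≤ M := inf_le_right.trans hCM
  have hyK : y ∈ K := ⟨hQB hyQ, hyC⟩
  -- `Q` meets `K` in `<y>`
  have hQK : K ⊓ (Q : Subgroup G) = zpowers y := by
    refine (eq_of_le_of_card_ge (le_inf (zpowers_le.2 hyK) (zpowers_le.2 hyQ)) ?_).symm
    obtain ⟨i, hi⟩ := (Q.isPGroup'.to_le (inf_le_right : K ⊓ (Q : Subgroup G) ≤ Q)).exists_card_eq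
    have hi1 := c.q_pow_le (M := K) (m := m) (e := 1) (by rw [pow_one]; exact hKc)
      (hi ▸ card_dvd_of_le inf_le_left)
    rw [hi, Nat.card_zpowers, hy]
    exact (Nat.pow_le_pow_right c.hq.pos hi1).trans (pow_one _).le
  -- representatives in `K` of the cosets in `B`
  have hrep : ∀ p : {p : G ⧸ (Q : Subgroup G) // ∀ x ∈ X, x • p = p},
      ∃ r ∈ normalizer (X : Set M), (((r : M) : G) : G ⧸ (Q : Subgroup G)) = p.1 := by
    rintro ⟨p, hp⟩
    obtain ⟨g, rfl⟩ := QuotientGroup.mk_surjective p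
    have hyg : g⁻¹ * y * g ∈ (Q : Subgroup G) :=
      smul_eq_self_iff.1 (show y • (g : G ⧸ (Q : Subgroup G)) = _ from hp ⟨y, hyM⟩ (mem_zpowers _))
    have hgB : g ∈ B := (c.strongly_embedded hb Q).2 y hyQ hy1 g (hQB hyg)
    -- every element of `B` is a product from `K` and `Q`
    have hKQ : Nat.card (K ⧸ ((Q : Subgroup G).subgroupOf K)) = 2 ^ m := by
      have h := card_eq_card_quotient_mul_card_subgroup ((Q : Subgroup G).subgroupOf K)
      rw [← inf_subgroupOf_left, hQK, Nat.card_congr (subgroupOfEquivOfLe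
        (zpowers_le.2 hyK : zpowers y ≤ K)).toEquiv, Nat.card_zpowers, hy, hKc] at h
      have h' : (Q : Subgroup G).subgroupOf K = (zpowers y).subgroupOf K := by
        rw [← inf_subgroupOf_left, hQK]
      rw [h']
      exact (Nat.eq_of_mul_eq_mul_right c.hq.pos h).symm
    set φ : (K ⧸ ((Q : Subgroup G).subgroupOf K)) × (Q : Subgroup G) → B := fun ax =>
      ⟨(ax.1.out : G) * ax.2, mul_mem ax.1.out.2.1 (hQB ax.2.2)⟩
    have hinj : Function.Injective φ := by
      rintro ⟨a, x⟩ ⟨b, x'⟩ h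
      have h' : (a.out : G) * x = (b.out : G) * x' := congrArg Subtype.val h
      have hab : a = b := by
        rw [← QuotientGroup.out_eq' a, ← QuotientGroup.out_eq' b, QuotientGroup.eq]
        show (a.out : G)⁻¹ * b.out ∈ (Q : Subgroup G)
        have e : (a.out : G)⁻¹ * b.out = x * (x' : G)⁻¹ := by
          rw [eq_mul_inv_iff_mul_eq, mul_assoc, ← h', inv_mul_cancel_left]
        rw [e]
        exact mul_mem x.2 (inv_mem x'.2)
      subst hab
      exact Prod.ext rfl (Subtype.ext (mul_left_cancel h'))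
    obtain ⟨⟨a, x⟩, hax⟩ := (hinj.bijective_of_nat_card_le (by
      rw [Nat.card_prod, hKQ, (c.index_sylow Q).2, hB])).2 ⟨g, hgB⟩
    set w := a.out
    have hwg : ((w : G) : G ⧸ (Q : Subgroup G)) = (g : G ⧸ (Q : Subgroup G)) := by
      rw [QuotientGroup.eq, ← (show (w : G) * x = g from congrArg Subtype.val hax)]
      simp
    refine ⟨⟨w, hKM w.2⟩, ?_, hwg⟩
    have hyw : (w : G)⁻¹ * y * w ∈ K ⊓ (Q : Subgroup G) := by
      refine ⟨K.mul_mem (K.mul_mem (K.inv_mem w.2) hyK) w.2, smul_eq_self_iff.1 ?_⟩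
      rw [hwg]
      exact hp ⟨y, hyM⟩ (mem_zpowers _)
    rw [hQK] at hyw
    refine (inv_mem_iff (x := (⟨w, hKM w.2⟩ : M))).1 (mem_normalizer_of_forall fun x hx => ?_)
    obtain ⟨l, rfl⟩ := mem_zpowers_iff.1 hx
    rw [← conj_zpow]
    refine zpow_mem ?_ l
    obtain ⟨n, hn⟩ := mem_zpowers_iff.1 hyw
    refine ⟨n, Subtype.ext ?_⟩
    simpa using hn
  choose r hr hr' using hrep
  have hle : Nat.card {p : G ⧸ (Q : Subgroup G) // ∀ x ∈ X, x • p = p} * c.q ≤
      Nat.card (normalizer (X : Set M)) := by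
    refine le_trans (le_of_eq (show _ = Nat.card
      ({p : G ⧸ (Q : Subgroup G) // ∀ x ∈ X, x • p = p} × X) by rw [Nat.card_prod, hX])) ?_
    refine Nat.card_le_card_of_injective
      (fun px => ⟨r px.1 * px.2, mul_mem (hr px.1) (le_normalizer px.2.2)⟩) ?_
    rintro ⟨p, x⟩ ⟨p', x'⟩ h
    have h' : r p * x = r p' * x' := congrArg Subtype.val h
    have hxQ : ∀ x : X, ((x : M) : G) ∈ (Q : Subgroup G) := by
      rintro ⟨x, hx⟩
      obtain ⟨l, rfl⟩ := mem_zpowers_iff.1 hx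
      simpa using zpow_mem hyQ l
    have hp : p = p' := by
      apply Subtype.ext
      rw [← hr' p, ← hr' p', QuotientGroup.eq]
      have e : r p' = r p * (x : M) * (x' : M)⁻¹ := by rw [h']; group
      have e2 : (((r p : M) : G))⁻¹ * ((r p' : M) : G) = ((x : M) : G) * ((x' : M) : G)⁻¹ := by
        rw [e]
        push_cast
        group
      rw [e2]
      exact mul_mem (hxQ x) (inv_mem (hxQ x'))
    subst hp
    exact Prod.ext rfl (Subtype.ext (mul_left_cancel h'))
  rw [hfixX] at hle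
  have : 2 * Nat.card (normalizer (X : Set M)) ≤ k * Nat.card (normalizer (X : Set M)) :=
    Nat.mul_le_mul_right _ hk2
  have := Nat.card_pos (α := normalizer (X : Set M))
  omega

/-- **All involution centralisers are 2-groups.** -/
theorem isPGroup_centralizer [Fact c.q.Prime] (hb : 2 ≤ c.b)
    (hone : ∀ s t : G, orderOf s = 3 → orderOf t = 3 → IsConj s t) {u : G} (hu : orderOf u = 2) :
    IsPGroup 2 (centralizer ({u} : Set G)) := by
  classical
  haveI : Fact (Nat.Prime 2) := ⟨Nat.prime_two⟩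
  obtain ⟨hu1, huu, huinv⟩ := orderOf_two hu
  refine c.isPGroup_of_coprime_q (c.not_three_centralizer_two (i := 1) (by rw [hu, pow_one]) hu1)
    fun hq => ?_
  obtain ⟨y, hyu, hy⟩ := c.exists_order_q hq
  have hy1 : y ≠ 1 := fun h => by rw [h, orderOf_one] at hy; exact c.hq.one_lt.ne hy
  obtain ⟨Q, hQ⟩ := (isPGroup_zpowers_of_orderOf (i := 1) (by rw [hy, pow_one]) :
    IsPGroup c.q (zpowers y)).exists_le_sylow
  have hyQ : y ∈ (Q : Subgroup G) := hQ (mem_zpowers y)
  set B := c.zjN c.q (Q : Subgroup G) with hBdef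
  have hQB : (Q : Subgroup G) ≤ B := c.sylow_le_zjN Q
  have huB : u ∈ B := (c.strongly_embedded hb Q).1 y hyQ hy1
    (mem_centralizer_singleton_iff.2 (mem_centralizer_singleton_iff.1 hyu).symm)
  obtain ⟨m, hBc⟩ := c.card_zjN hb hone Q hu huB
  -- an involution central in a Sylow 2-subgroup of `B` through `u`
  obtain ⟨S, hS⟩ := ((isPGroup_zpowers_two hu).comap_subtype :
    IsPGroup 2 ((zpowers u).subgroupOf B)).exists_le_sylow
  set D := (S : Subgroup B).map B.subtype with hD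
  have hDB : D ≤ B := map_subtype_le _
  have huD : u ∈ D := ⟨⟨u, huB⟩, hS (show (⟨u, huB⟩ : B) ∈ (zpowers u).subgroupOf B from
    mem_zpowers u), rfl⟩
  have hDc : 2 ^ m ∣ Nat.card D := by
    rw [card_map_of_injective B.subtype_injective]
    exact S.pow_dvd_card_of_pow_dvd_card (hBc ▸ dvd_mul_right _ _)
  have hD2 : IsPGroup 2 D := S.isPGroup'.map _
  have hDne : D ≠ ⊥ := fun h => hu1 (by rwa [h, mem_bot] at huD)
  obtain ⟨v, hvD, hv, hvc⟩ := exists_involution_fixed hD2 hD2 le_normalizer hDne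
  obtain ⟨hv1, hvv, hvinv⟩ := orderOf_two hv
  set K := B ⊓ centralizer ({v} : Set G) with hK
  have hDK : D ≤ K := le_inf hDB fun d hd => mem_centralizer_singleton_iff.2 (hvc d hd)
  have hnc : ∀ x ∈ B, orderOf x = c.q → v * x ≠ x * v := by
    intro x hx hxo
    obtain ⟨R, hR⟩ := ((isPGroup_zpowers_of_orderOf (i := 1) (by rw [hxo, pow_one]) :
      IsPGroup c.q (zpowers x)).comap_subtype :
        IsPGroup c.q ((zpowers x).subgroupOf B)).exists_le_sylow
    obtain ⟨g, hg⟩ := exists_smul_eq B R (Q.subtype hQB)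
    have hxQ : (g : G) * x * (g : G)⁻¹ ∈ (Q : Subgroup G) := by
      have h2 : g * ⟨x, hx⟩ * g⁻¹ ∈ ((Q.subtype hQB : Sylow c.q B) : Subgroup B) := by
        rw [← hg, Sylow.coe_subgroup_smul]
        exact ⟨_, hR (show (⟨x, hx⟩ : B) ∈ (zpowers x).subgroupOf B from mem_zpowers x), rfl⟩
      exact (h2 : ((g * ⟨x, hx⟩ * g⁻¹ : B) : G) ∈ (Q : Subgroup G))
    have hxo' : orderOf ((g : G) * x * (g : G)⁻¹) = c.q := by
      rw [← hxo]
      exact orderOf_injective (MulAut.conj (g : G)).toMonoidHom (MulAut.conj (g : G)).injective x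
    have hv' : orderOf ((g : G) * v * (g : G)⁻¹) = 2 := by
      rw [← hv]
      exact orderOf_injective (MulAut.conj (g : G)).toMonoidHom (MulAut.conj (g : G)).injective v
    intro hcomm
    refine c.not_commute_of_central_in hb hone Q hBc hv' ?_ hxQ hxo' ?_
    · refine hDc.trans ?_
      rw [← card_map_of_injective (K := D) (f := (MulAut.conj (g : G)).toMonoidHom)
        (MulAut.conj (g : G)).injective]
      refine card_dvd_of_le ?_
      rintro _ ⟨d, hd, rfl⟩
      refine ⟨B.mul_mem (B.mul_mem g.2 (hDB hd)) (B.inv_mem g.2), mem_centralizer_singleton_iff.2 ?_⟩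
      show (g : G) * d * (g : G)⁻¹ * ((g : G) * v * (g : G)⁻¹) =
        (g : G) * v * (g : G)⁻¹ * ((g : G) * d * (g : G)⁻¹)
      calc (g : G) * d * (g : G)⁻¹ * ((g : G) * v * (g : G)⁻¹) = g * (d * v) * (g : G)⁻¹ := by group
        _ = g * (v * d) * (g : G)⁻¹ := by rw [hvc d hd]
        _ = _ := by group
    · calc (g : G) * v * (g : G)⁻¹ * ((g : G) * x * (g : G)⁻¹) = g * (v * x) * (g : G)⁻¹ := by group
        _ = g * (x * v) * (g : G)⁻¹ := by rw [hcomm]
        _ = _ := by group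
  have hKq : ¬ c.q ∣ Nat.card K := fun h => by
    obtain ⟨x, hxK, hx⟩ := c.exists_order_q h
    exact hnc x hxK.1 hx (mem_centralizer_singleton_iff.1 hxK.2).symm
  set P := core c.q B with hP
  obtain ⟨hinv, hcomm⟩ := Inv53.inverts_of_fixedPointFree (X := P) hvv
    (fun x hx => (mem_normalizer_iff.1 (le_normalizer_core c.q B (hDB hvD)) x).1 hx) fun x hx hc => by
    obtain ⟨i, hi⟩ := c.exists_pow_order (core_isPGroup c.q B) hx
    by_contra hx1
    have hi0 : i ≠ 0 := fun h => hx1 (orderOf_eq_one_iff.1 (by rw [hi, h, pow_zero]))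
    refine hKq (dvd_trans ?_ (K.orderOf_dvd_natCard
      (show x ∈ K from ⟨core_le c.q B hx, mem_centralizer_singleton_iff.2 hc.eq.symm⟩)))
    rw [hi]
    exact dvd_pow_self c.q hi0
  have hPQ : P = (Q : Subgroup G) := c.factor_of_inverts hb Q hvv hinv (hDB hvD) hKq
  rw [hPQ] at hinv hcomm
  have hne : u ≠ v := by
    rintro rfl
    exact hnc y (hQB hyQ) hy (mem_centralizer_singleton_iff.1 hyu).symm
  have huv : u * v = v * u := hvc u huD
  set w := u * v with hw
  have hw2 : orderOf w = 2 := by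
    refine orderOf_eq_prime ?_ fun h => hne ?_
    · rw [sq, hw]
      calc u * v * (u * v) = u * (v * u) * v := by group
        _ = u * (u * v) * v := by rw [hvc u huD]
        _ = (u * u) * (v * v) := by group
        _ = 1 := by rw [huu, hvv, one_mul]
    · rw [eq_inv_of_mul_eq_one_left (show u * v = 1 from h), hvinv]
  -- the two fixed subgroups have order at most `q`
  have hsmall : ∀ x : G, orderOf x = 2 →
      Nat.card ((Q : Subgroup G) ⊓ centralizer ({x} : Set G) : Subgroup G) ≤ c.q := by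
    intro x hx
    obtain ⟨i, hi⟩ := (Q.isPGroup'.to_le
      (inf_le_left : (Q : Subgroup G) ⊓ centralizer ({x} : Set G) ≤ Q)).exists_card_eq
    rcases Nat.eq_zero_or_pos i with h0 | h0
    · rw [hi, h0, pow_zero]; exact c.hq.one_lt.le
    have hd : c.q ^ i ∣ Nat.card (centralizer ({x} : Set G)) := hi ▸ card_dvd_of_le inf_le_right
    obtain ⟨M, hCM, hMc⟩ := c.exists_full hb hone hx ((dvd_pow_self c.q (by omega)).trans hd)
    have := c.q_pow_le (M := M) (m := c.a) (e := 1) (by rw [pow_one]; exact hMc)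
      (hd.trans (card_dvd_of_le hCM))
    rw [hi, show i = 1 by omega, pow_one]
  have huQ : ∀ x ∈ (Q : Subgroup G), u * x * u⁻¹ ∈ (Q : Subgroup G) := fun x hx => by
    rw [← hPQ] at hx ⊢
    exact (mem_normalizer_iff.1 (le_normalizer_core c.q B huB) x).1 hx
  have hb2 : c.b = 2 := by
    set C1 := (Q : Subgroup G) ⊓ centralizer ({u} : Set G)
    set C2 := (Q : Subgroup G) ⊓ centralizer ({w} : Set G)
    have hsurj : Nat.card (Q : Subgroup G) ≤ Nat.card (C1 × C2) := by
      refine Nat.card_le_card_of_surjective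
        (fun p => (⟨(p.1 : G) * p.2, mul_mem p.1.2.1 p.2.2.1⟩ : (Q : Subgroup G))) fun ⟨x, hx⟩ => ?_
      obtain ⟨n, hn, hsq⟩ := exists_sqrt hx fun h => not_dvd_of_isPGroup Nat.prime_two
        (Ne.symm c.hq2) Q.isPGroup' (h.trans ((Q : Subgroup G).orderOf_dvd_natCard hx))
      set s := x ^ n
      have hs' := huQ s hn
      rw [huinv] at hs'
      set s1 := s * (u * s * u)
      set s2 := s * (u * s * u)⁻¹
      have hs1Q : s1 ∈ (Q : Subgroup G) := mul_mem hn hs'
      have hs2Q : s2 ∈ (Q : Subgroup G) := mul_mem hn (inv_mem hs')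
      have h1 : u * s1 * u⁻¹ = s1 := by
        show u * (s * (u * s * u)) * u⁻¹ = s * (u * s * u)
        rw [huinv]
        calc u * (s * (u * s * u)) * u = u * s * u * (s * (u * u)) := by group
          _ = u * s * u * s := by rw [huu, mul_one]
          _ = s * (u * s * u) := hcomm _ hs' _ hn
      have h2 : u * s2 * u⁻¹ = s2⁻¹ := by
        show u * (s * (u * s * u)⁻¹) * u⁻¹ = (s * (u * s * u)⁻¹)⁻¹
        have e : (u * s * u)⁻¹ = u * s⁻¹ * u := by
          rw [mul_inv_rev, mul_inv_rev, huinv, ← mul_assoc]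
        rw [e, huinv]
        calc u * (s * (u * s⁻¹ * u)) * u = u * s * u * s⁻¹ * (u * u) := by group
          _ = u * s * u * s⁻¹ := by rw [huu, mul_one]
          _ = (s * (u * s⁻¹ * u))⁻¹ := by rw [← e, mul_inv_rev, inv_inv]
      have h3 : w * s2 * w⁻¹ = s2 := by
        rw [hw, show u * v * s2 * (u * v)⁻¹ = u * (v * s2 * v⁻¹) * u⁻¹ by group, hinv _ hs2Q,
          show u * s2⁻¹ * u⁻¹ = (u * s2 * u⁻¹)⁻¹ by group, h2, inv_inv]
      refine ⟨(⟨s1, hs1Q, mem_centralizer_singleton_iff.2 (mul_inv_eq_iff_eq_mul.1 h1).symm⟩,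
        ⟨s2, hs2Q, mem_centralizer_singleton_iff.2 (mul_inv_eq_iff_eq_mul.1 h3).symm⟩),
        Subtype.ext ?_⟩
      show s1 * s2 = x
      show s * (u * s * u) * (s * (u * s * u)⁻¹) = x
      rw [← hsq, mul_assoc s, ← mul_assoc (u * s * u) s, hcomm _ hs' _ hn]
      group
    have h1 : c.q ^ c.b ≤ c.q ^ 2 := by
      rw [← (c.index_sylow Q).2, sq]
      exact hsurj.trans (by rw [Nat.card_prod]; exact Nat.mul_le_mul (hsmall u hu) (hsmall w hw2))
    have := (Nat.pow_le_pow_iff_right c.hq.one_lt).1 h1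
    omega
  have hm2 : 2 ≤ m := by
    obtain ⟨i, hi⟩ := hD2.exists_card_eq
    have hle : i ≤ m := c.two_pow_le hBc (hi ▸ card_dvd_of_le hDB)
    by_contra hlt
    have hi1 : i ≤ 1 := by omega
    have hzu : zpowers u = D := eq_of_le_of_card_ge (zpowers_le.2 huD) (by
      rw [hi, Nat.card_zpowers, hu]
      exact (Nat.pow_le_pow_right (by norm_num) hi1).trans (pow_one 2).le)
    obtain ⟨k, hk⟩ := mem_zpowers_iff.1 (hzu.symm ▸ hvD : v ∈ zpowers u)
    rcases Int.emod_two_eq_zero_or_one k with hk2 | hk2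
    · apply hv1
      rw [← hk, show k = 2 * (k / 2) by omega, zpow_mul, show u ^ (2 : ℤ) = 1 by
        rw [zpow_two, huu], one_zpow]
    · apply hne
      rw [← hk, show k = 2 * (k / 2) + 1 by omega, zpow_add_one, zpow_mul,
        show u ^ (2 : ℤ) = 1 by rw [zpow_two, huu], one_zpow, one_mul]
  obtain ⟨hma, hindex⟩ := c.card_eq_index_mul Q hBc
  have hdiv := c.dvd_index_sub_one hb Q
  rw [hindex, hb2] at hdiv
  have hlt := c.two_pow_lt hb
  rw [hb2] at hlt
  obtain ⟨M, -, hMc⟩ := c.exists_full hb hone hu hq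
  obtain ⟨-, hw'⟩ := c.full_weights (e := 1) (by rw [pow_one]; exact hMc)
  obtain ⟨h57, -⟩ := hw' rfl
  rcases h57 with h5 | h7
  · rw [h5] at hdiv hlt
    have : 2 ^ c.a < 2 ^ 8 := lt_of_lt_of_le hlt (by norm_num)
    have ha : c.a < 8 := (Nat.pow_lt_pow_iff_right (by norm_num)).1 this
    have he : c.a - m ≤ 5 := by omega
    generalize c.a - m = d at hdiv he
    interval_cases d <;> norm_num at hdiv
  · rw [h7] at hdiv hlt
    have : 2 ^ c.a < 2 ^ 9 := lt_of_lt_of_le hlt (by norm_num)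
    have ha : c.a < 9 := (Nat.pow_lt_pow_iff_right (by norm_num)).1 this
    have he : c.a - m ≤ 6 := by omega
    generalize c.a - m = d at hdiv he
    interval_cases d <;> norm_num at hdiv

end Ctx

end CfsgLib.NineTwoQSelf
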