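import Cfsg.Agent.NineTwoQSelf.Central
import Cfsg.Agent.S4500
import Cfsg.Agent.NineTwoQ.Values

/-!
# No involution has a centraliser with nontrivial `O_q`
-/

set_option autoImplicit false
set_option linter.style.haveILetI false
set_option linter.unusedSectionVars false

namespace CfsgLib.NineTwoQSelf

open Subgroup CfsgLib.SolvSig

universe u

variable {G : Type u} [Group G] [Finite G] [IsSimpleGroup G]

omit [IsSimpleGroup G] in
theorem card_centralizer_conj (g z : G) :
    Nat.card (centralizer ({g * z * g⁻¹} : Set G)) = Nat.card (centralizer ({z} : Set G)) := by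
  refine Nat.card_congr (Equiv.subtypeEquiv (MulAut.conj g⁻¹).toEquiv fun x => ?_)
  show x ∈ centralizer ({g * z * g⁻¹} : Set G) ↔ g⁻¹ * x * g⁻¹⁻¹ ∈ centralizer ({z} : Set G)
  rw [inv_inv, mem_centralizer_singleton_iff, mem_centralizer_singleton_iff]
  constructor <;> intro h
  · calc g⁻¹ * x * g * z = g⁻¹ * (x * (g * z * g⁻¹)) * g := by group
      _ = g⁻¹ * (g * z * g⁻¹ * x) * g := by rw [h]
      _ = z * (g⁻¹ * x * g) := by group
  · calc x * (g * z * g⁻¹) = g * (g⁻¹ * x * g * z) * g⁻¹ := by group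
      _ = g * (z * (g⁻¹ * x * g)) * g⁻¹ := by rw [h]
      _ = g * z * g⁻¹ * x := by group

namespace Ctx

variable (c : Ctx G)
include c

/-- An involution centralised by a Sylow 2-subgroup. -/
def Central (_c : Ctx G) (z : G) : Prop :=
  orderOf z = 2 ∧ 2 ^ _c.a ∣ Nat.card (centralizer ({z} : Set G))

theorem central_conj {z : G} (hz : c.Central z) (g : G) : c.Central (g * z * g⁻¹) :=
  ⟨by rw [← hz.1]; exact orderOf_injective (MulAut.conj g).toMonoidHom (MulAut.conj g).injective z,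
    by rw [card_centralizer_conj]; exact hz.2⟩

theorem card_sylow_two (S : Sylow 2 G) : 2 ^ c.a ∣ Nat.card (S : Subgroup G) := by
  haveI : Fact (Nat.Prime 2) := ⟨Nat.prime_two⟩
  exact S.pow_dvd_card_of_pow_dvd_card (c.card ▸ (dvd_mul_left _ _).mul_right _)

/-- Every 2-subgroup is centralised by a central involution. -/
theorem exists_central {T : Subgroup G} (hT : IsPGroup 2 T) :
    ∃ z, c.Central z ∧ T ≤ centralizer ({z} : Set G) := by
  haveI : Fact (Nat.Prime 2) := ⟨Nat.prime_two⟩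
  obtain ⟨S, hS⟩ := hT.exists_le_sylow
  have hne : (S : Subgroup G) ≠ ⊥ := fun h => by
    have := c.card_sylow_two S
    rw [h, card_bot] at this
    have := Nat.eq_one_of_dvd_one this
    have := c.b_pos.1
    rcases Nat.pow_eq_one.1 ‹2 ^ c.a = 1› with h' | h' <;> omega
  obtain ⟨z, -, hz2, hc⟩ := exists_involution_fixed S.isPGroup' S.isPGroup' le_normalizer hne
  have hle : (S : Subgroup G) ≤ centralizer ({z} : Set G) := fun s hs =>
    mem_centralizer_singleton_iff.2 (hc s hs)
  exact ⟨z, ⟨hz2, (c.card_sylow_two S).trans (card_dvd_of_le hle)⟩, hS.trans hle⟩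

theorem isPGroup_central [Fact c.q.Prime] (hb : 2 ≤ c.b) {z : G} (hz : c.Central z) :
    IsPGroup 2 (centralizer ({z} : Set G)) :=
  c.isPGroup_centralizer_central hb hz.1 hz.2

/-- A central involution inverts every `q`-subgroup it normalises. -/
theorem inverts_of_central [Fact c.q.Prime] (hb : 2 ≤ c.b) {z : G} (hz : c.Central z)
    {X : Subgroup G} (hX : IsPGroup c.q X) (hzX : z ∈ normalizer (X : Set G)) :
    (∀ x ∈ X, z * x * z⁻¹ = x⁻¹) ∧ ∀ x ∈ X, ∀ y ∈ X, x * y = y * x := by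
  haveI : Fact (Nat.Prime 2) := ⟨Nat.prime_two⟩
  refine Inv53.inverts_of_fixedPointFree (orderOf_two hz.1).2.1
    (fun x hx => (mem_normalizer_iff.1 hzX x).1 hx) fun x hx hc => ?_
  have hd := disjoint_iff.1 (IsPGroup.disjoint_of_ne c.q 2 c.hq2 _ _ hX (c.isPGroup_central hb hz))
  exact mem_bot.1 (hd ▸ ⟨hx, mem_centralizer_singleton_iff.2 hc.eq.symm⟩)

/-- No involution centralises a Sylow `q`-subgroup. -/
theorem not_centralizes_sylow [Fact c.q.Prime] {u : G} (hu : orderOf u = 2) :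
    ¬ c.q ^ c.b ∣ Nat.card (centralizer ({u} : Set G)) := by
  classical
  intro hdvd
  haveI := Fintype.ofFinite G
  haveI : Nontrivial G := IsSimpleGroup.toNontrivial
  obtain ⟨⟨χ, hne, k, hk⟩, -⟩ := Cfsg.Agent.S4500.result (G := G) 3 c.q 2 2 c.b c.a Nat.prime_three
    c.hq Nat.prime_two (Ne.symm c.hq3) (by norm_num) c.hq2 le_rfl (by rw [c.card]; ring)
  obtain ⟨n, hn0, hn⟩ := Characters.exists_degree_pos χ.2
  have hnk : n = c.q ^ k := by
    rw [← hk, Cfsg.charDegree, hn]
    simp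
  have hχne : χ ≠ PrincipalBlock.trivChar G := fun h => hne (h ▸ funext fun g =>
    PrincipalBlock.trivChar_apply g)
  have hn1 : 1 < n := by
    by_contra h
    have h1 : n = 1 := by omega
    have hcard := Characters.card_linear_char (G := G)
    rw [NineTwoQ.commutator_eq_top c.hG, index_top] at hcard
    obtain ⟨hsub, -⟩ := Nat.card_eq_one_iff_unique.1 hcard
    exact hχne (congrArg Subtype.val (hsub.elim
      (⟨χ, by rw [hn, h1, Nat.cast_one]⟩ : {χ : Cfsg.IrrCharacter G // (χ : G → ℂ) 1 = 1})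
      ⟨PrincipalBlock.trivChar G, PrincipalBlock.trivChar_apply _⟩))
  have hcop : Nat.Coprime n (centralizer ({u} : Set G)).index := by
    rw [hnk]
    refine Nat.Coprime.pow_left k (c.hq.coprime_iff_not_dvd.2 fun hqi => ?_)
    obtain ⟨x, hx⟩ := hdvd
    obtain ⟨y, hy⟩ := hqi
    have hmul := (centralizer ({u} : Set G)).index_mul_card
    rw [hx, hy, c.card] at hmul
    have h9 : c.q ∣ 9 * 2 ^ c.a := ⟨y * x, Nat.eq_of_mul_eq_mul_right (pow_pos c.hq.pos c.b) (by
      rw [← hmul]; ring)⟩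
    rcases c.hq.dvd_mul.1 h9 with h' | h'
    · exact c.hq3 ((Nat.prime_dvd_prime_iff_eq c.hq Nat.prime_three).1
        (c.hq.dvd_of_dvd_pow (show c.q ∣ 3 ^ 2 from h')))
    · exact c.hq2 ((Nat.prime_dvd_prime_iff_eq c.hq Nat.prime_two).1 (c.hq.dvd_of_dvd_pow h'))
  have h0 := NineTwoQ.apply_eq_zero_of_coprime c.hG χ hχne hn (orderOf_two hu).1 hcop
  obtain ⟨v, hv, hpar, -⟩ := Small.Degree.exists_involution_value c.hG χ hn hn1 hu
  rw [h0] at hv
  have hv0 : v = 0 := by exact_mod_cast hv.symm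
  rw [hv0, sub_zero] at hpar
  have h2 : 2 ∣ c.q ^ k := hnk ▸ Int.natCast_dvd_natCast.1 hpar
  exact c.hq2 ((Nat.prime_dvd_prime_iff_eq Nat.prime_two c.hq).1
    (Nat.prime_two.dvd_of_dvd_pow h2)).symm

/-- A 2-group normalising an abelian `q`-subgroup whose centraliser has nontrivial `O_2`. -/
structure Pair (c : Ctx G) (T V : Subgroup G) : Prop where
  isTwo : IsPGroup 2 T
  isQ : IsPGroup c.q V
  ne : V ≠ ⊥
  comm : ∀ x ∈ V, ∀ y ∈ V, x * y = y * x
  norm : T ≤ normalizer (V : Set G)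
  core_ne : core 2 (centralizer (V : Set G)) ≠ ⊥

theorem pair_of [Fact c.q.Prime] (hb : 2 ≤ c.b) {u : G} (hu : orderOf u = 2)
    (hD : core c.q (centralizer ({u} : Set G)) ≠ ⊥) {T : Subgroup G} (hT : IsPGroup 2 T)
    (hTu : T ≤ centralizer ({u} : Set G)) :
    Pair c T (core c.q (centralizer ({u} : Set G))) := by
  set D := core c.q (centralizer ({u} : Set G)) with hDdef
  obtain ⟨z, hz, hzu⟩ := c.exists_central (isPGroup_zpowers_two hu)
  have hzC : z ∈ centralizer ({u} : Set G) := mem_centralizer_singleton_iff.2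
    (mem_centralizer_singleton_iff.1 (hzu (mem_zpowers u))).symm
  refine ⟨hT, core_isPGroup _ _, hD,
    (c.inverts_of_central hb hz (core_isPGroup _ _) (le_normalizer_core _ _ hzC)).2,
    hTu.trans (le_normalizer_core _ _), fun hbot => ?_⟩
  obtain ⟨v, hv, hv1⟩ := (bot_or_exists_ne_one D).resolve_left hD
  obtain ⟨i, hi⟩ := IsPGroup.iff_orderOf.1 (core_isPGroup c.q (centralizer ({u} : Set G))) ⟨v, hv⟩
  rw [Subgroup.orderOf_mk] at hi
  have hu' : u ∈ core 2 (centralizer ({v} : Set G)) :=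
    (c.core_two_iff (orderOf_two hu).1 hv1 ⟨1, by rw [hu, pow_one]⟩ ⟨i, hi⟩).2 hv
  have hle : centralizer (D : Set G) ≤ centralizer ({v} : Set G) :=
    centralizer_le (Set.singleton_subset_iff.2 hv)
  have huD : u ∈ centralizer (D : Set G) := mem_centralizer_iff.2 fun x hx =>
    mem_centralizer_singleton_iff.1 (core_le _ _ hx)
  have hX : core 2 (centralizer ({v} : Set G)) ⊓ centralizer (D : Set G) ≤
      core 2 (centralizer (D : Set G)) := inf_core_le_core hle
  have : u ∈ core 2 (centralizer (D : Set G)) := hX ⟨hu', huD⟩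
  rw [hbot, mem_bot] at this
  exact (orderOf_two hu).1 this

theorem balance [Fact c.q.Prime] {T V : Subgroup G} (h : Pair c T V) {u : G}
    (hu : u ∈ core 2 (centralizer (V : Set G))) (hu1 : u ≠ 1) :
    V ≤ core c.q (centralizer ({u} : Set G)) := by
  intro v hv
  by_cases hv1 : v = 1
  · rw [hv1]; exact one_mem _
  obtain ⟨i, hi⟩ := IsPGroup.iff_orderOf.1 h.isQ ⟨v, hv⟩
  rw [Subgroup.orderOf_mk] at hi
  obtain ⟨j, hj⟩ := IsPGroup.iff_orderOf.1 (core_isPGroup 2 (centralizer (V : Set G))) ⟨u, hu⟩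
  rw [Subgroup.orderOf_mk] at hj
  set Y := core 2 (centralizer (V : Set G))
  refine (c.core_two_iff hu1 hv1 ⟨j, hj⟩ ⟨i, hi⟩).1 ?_
  refine c.le_core_of_balance (H := centralizer ({v} : Set G)) (A := V) (Y := Y)
    (c.not_three_centralizer_q hi hv1) (fun x hx => mem_centralizer_singleton_iff.2 (h.comm x hx v hv))
    ((core_le _ _).trans (centralizer_le (Set.singleton_subset_iff.2 hv))) h.isQ (core_isPGroup _ _)
    (le_centralizer_iff.1 (core_le _ _)) (inf_le_right.trans (le_normalizer_core _ _)) hu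

/-- There is no linked pair. -/
theorem core_q_centralizer_eq_bot [Fact c.q.Prime] (hb : 2 ≤ c.b) {u : G} (hu : orderOf u = 2) :
    core c.q (centralizer ({u} : Set G)) = ⊥ := by
  classical
  haveI : Fact (Nat.Prime 2) := ⟨Nat.prime_two⟩
  by_contra hD
  have h0 := c.pair_of hb hu hD (isPGroup_zpowers_two hu)
    (zpowers_le.2 (mem_centralizer_singleton_iff.2 rfl))
  haveI : Nonempty {p : Subgroup G × Subgroup G // Pair c p.1 p.2} := ⟨⟨(_, _), h0⟩⟩
  obtain ⟨⟨⟨T, V⟩, hP⟩, hmax⟩ := Finite.exists_max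
    (fun p : {p : Subgroup G × Subgroup G // Pair c p.1 p.2} =>
      Nat.card p.1.1 * (Nat.card G + 1) + Nat.card p.1.2)
  have hcardle : ∀ H : Subgroup G, Nat.card H ≤ Nat.card G := fun H =>
    Nat.card_le_card_of_injective Subtype.val Subtype.val_injective
  have hmaxT : ∀ T' V', Pair c T' V' → Nat.card T' ≤ Nat.card T := by
    intro T' V' h
    have h1 : Nat.card T' * (Nat.card G + 1) + Nat.card V' ≤
        Nat.card T * (Nat.card G + 1) + Nat.card V := hmax ⟨(T', V'), h⟩
    have h2 := hcardle V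
    by_contra hlt
    have : (Nat.card T + 1) * (Nat.card G + 1) ≤ Nat.card T' * (Nat.card G + 1) :=
      Nat.mul_le_mul_right _ (by omega)
    have : (Nat.card T + 1) * (Nat.card G + 1) = Nat.card T * (Nat.card G + 1) + (Nat.card G + 1) := by
      ring
    omega
  have hmaxV : ∀ V', Pair c T V' → Nat.card V' ≤ Nat.card V := by
    intro V' h
    have h1 : Nat.card T * (Nat.card G + 1) + Nat.card V' ≤
        Nat.card T * (Nat.card G + 1) + Nat.card V := hmax ⟨(T, V'), h⟩
    omega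
  have hno : ∀ T' V', Pair c T' V' → T ≤ T' → T' ≤ T := fun T' V' h hle =>
    (eq_of_le_of_card_ge hle (hmaxT T' V' h)).ge
  set CV := centralizer (V : Set G) with hCV
  have hCV3 : ¬ 3 ∣ Nat.card CV := c.not_three_dvd_centralizer hP.ne (c.not_three_of_q hP.isQ)
  set U := core 2 CV with hUdef
  have hNU : normalizer (V : Set G) ≤ normalizer (U : Set G) :=
    (normalizer_le_normalizer_centralizer V).trans (normalizer_le_normalizer_core 2 CV)
  have hUN : U ≤ normalizer (V : Set G) := (core_le _ _).trans (centralizer_le_normalizer _)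
  have hUT : U ≤ T := le_sup_right.trans (hno (T ⊔ U) V
    ⟨hP.isTwo.to_sup_of_normal_right' (core_isPGroup _ _) (hP.norm.trans hNU), hP.isQ, hP.ne, hP.comm,
      sup_le hP.norm hUN, hP.core_ne⟩ le_sup_left)
  obtain ⟨u0, hu0, hu02, hu0T⟩ := exists_involution_fixed hP.isTwo (core_isPGroup 2 CV)
    (hP.norm.trans hNU) hP.core_ne
  -- central involutions centralising `T` lie in `T`
  have hcentral : ∀ z, c.Central z → T ≤ centralizer ({z} : Set G) → z ∈ T := by
    intro z hz hTz
    have hV0 : core c.q (centralizer ({u0} : Set G)) ≠ ⊥ := fun h =>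
      hP.ne (le_bot_iff.1 (h ▸ c.balance hP hu0 (orderOf_two hu02).1))
    have hzu0 : z ∈ centralizer ({u0} : Set G) := mem_centralizer_singleton_iff.2
      (mem_centralizer_singleton_iff.1 (hTz (hUT hu0))).symm
    have hTu0 : T ⊔ zpowers z ≤ centralizer ({u0} : Set G) :=
      sup_le (fun t ht => mem_centralizer_singleton_iff.2 (hu0T t ht)) (zpowers_le.2 hzu0)
    have hT2 : IsPGroup 2 (T ⊔ zpowers z : Subgroup G) :=
      (c.isPGroup_central hb hz).to_le (sup_le hTz (zpowers_le.2 (mem_centralizer_singleton_iff.2 rfl)))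
    exact hno _ _ (c.pair_of hb hu02 hV0 hT2 hTu0) le_sup_left (mem_sup_right (mem_zpowers z))
  -- involutions centralised by `V` and a 2-group over `T`
  have hOQ : ∀ x, orderOf x = 2 → V ≤ centralizer ({x} : Set G) → ∀ T' : Subgroup G, IsPGroup 2 T' →
      T ≤ T' → T' ≤ centralizer ({x} : Set G) → core c.q (centralizer ({x} : Set G)) ≠ ⊥ := by
    intro x hx hVx T' hT' hTT' hT'x hbot
    set X := centralizer ({x} : Set G) with hX
    have hX3 : ¬ 3 ∣ Nat.card X := c.not_three_centralizer_two (i := 1) (by rw [hx, pow_one])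
      (orderOf_two hx).1
    have hxX : x ∈ X := mem_centralizer_singleton_iff.2 rfl
    obtain ⟨S, hS⟩ := (hT'.comap_subtype : IsPGroup 2 (T'.subgroupOf X)).exists_le_sylow
    set Tx := (S : Subgroup X).map X.subtype
    have hT'Tx : T' ≤ Tx := fun t ht => ⟨⟨t, hT'x ht⟩, hS ht, rfl⟩
    have hmaxS : ∀ Y : Subgroup G, IsPGroup 2 Y → Y ≤ X → X ≤ normalizer (Y : Set G) → Y ≤ Tx := by
      intro Y hY hYX hnY
      haveI : (Y.subgroupOf X).Normal := (normal_subgroupOf_iff_le_normalizer hYX).2 hnY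
      have h := S.3 (S.isPGroup'.to_sup_of_normal_right (K := Y.subgroupOf X) hY.comap_subtype)
        le_sup_left
      intro y hy
      exact ⟨⟨y, hYX hy⟩, h ▸ mem_sup_right (show (⟨y, hYX hy⟩ : X) ∈ Y.subgroupOf X from hy), rfl⟩
    obtain ⟨z, hz, hTxz⟩ := c.exists_central (S.isPGroup'.map X.subtype)
    have hzT : z ∈ T := hcentral z hz ((hTT'.trans hT'Tx).trans hTxz)
    have hinv := (c.inverts_of_central hb hz hP.isQ (hP.norm hzT)).1
    have hzX : z ∈ X := hT'x (hTT' hzT)
    have hzcore : z ∈ core 2 X := by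
      refine c.le_core_of_centralizes' hX3 (zpowers_le.2 hzX) (isPGroup_zpowers_two hz.1)
        (zpowers_le.2 (mem_centralizer_iff.2 fun w hw => ?_))
        (zpowers_le.2 (mem_centralizer_iff.2 fun w hw => ?_)) (mem_zpowers z)
      · exact mem_centralizer_singleton_iff.1 (hTxz
          (hmaxS _ (core_isPGroup 2 X) (core_le _ _) (le_normalizer_core 2 X) hw))
      · rw [hbot, coe_bot, Set.mem_singleton_iff] at hw
        simp [hw]
    obtain ⟨v, hv, hv1⟩ := (bot_or_exists_ne_one V).resolve_left hP.ne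
    have hv2 : v * v ∈ core 2 X ⊓ V := by
      refine ⟨?_, mul_mem hv hv⟩
      have h1 : v * z * v⁻¹ * z⁻¹ ∈ core 2 X :=
        mul_mem ((mem_normalizer_iff.1 (le_normalizer_core 2 X (hVx hv)) z).1 hzcore) (inv_mem hzcore)
      have h2 := hinv v⁻¹ (inv_mem hv)
      rw [inv_inv] at h2
      have : v * z * v⁻¹ * z⁻¹ = v * v := by
        calc v * z * v⁻¹ * z⁻¹ = v * (z * v⁻¹ * z⁻¹) := by group
          _ = v * v := by rw [h2]
      rwa [this] at h1
    rw [disjoint_iff.1 (IsPGroup.disjoint_of_ne 2 c.q (Ne.symm c.hq2) _ _ (core_isPGroup 2 X)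
      hP.isQ), mem_bot] at hv2
    have hd : orderOf v ∣ 2 := orderOf_dvd_of_pow_eq_one (by rw [sq]; exact hv2)
    rcases (Nat.dvd_prime Nat.prime_two).1 hd with h | h
    · exact hv1 (orderOf_eq_one_iff.1 h)
    · exact not_dvd_of_isPGroup Nat.prime_two (Ne.symm c.hq2) hP.isQ (h ▸ V.orderOf_dvd_natCard hv)
  -- `T` is not a Sylow 2-subgroup
  obtain ⟨S, hS⟩ := hP.isTwo.exists_le_sylow
  have hlt : T < (S : Subgroup G) := lt_of_le_of_ne hS fun h => by
    have h3 : ¬ 3 ∣ Nat.card (T ⊔ V : Subgroup G) :=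
      not_three_dvd_sup hP.norm (c.not_three_of_two hP.isTwo) (c.not_three_of_q hP.isQ)
    obtain ⟨e, -, he⟩ := c.full_card h3 (((h ▸ c.card_sylow_two S : 2 ^ c.a ∣ Nat.card T)).trans
      (card_dvd_of_le le_sup_left))
    have hle : V ≤ core c.q (T ⊔ V) :=
      le_core le_sup_right (sup_le hP.norm le_normalizer) hP.isQ
    rw [c.core_full_eq_bot hb he] at hle
    exact hP.ne (le_bot_iff.1 hle)
  obtain ⟨g, ⟨hgN, hgS⟩, hgT⟩ := SetLike.exists_of_lt
    (CfsgLib.OddOrder.lt_normalizer_inf_of_lt S.isPGroup' hlt)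
  set T2 := T ⊔ zpowers g with hT2def
  have hT2 : IsPGroup 2 T2 := S.isPGroup'.to_le (sup_le hS (zpowers_le.2 hgS))
  have hT2N : T2 ≤ normalizer (T : Set G) := sup_le le_normalizer (zpowers_le.2 hgN)
  -- `T` contains only one central involution
  have huniq : ∀ z ∈ T, ∀ z' ∈ T, c.Central z → c.Central z' → z = z' := by
    intro z hzT z' hz'T hz hz'
    set I := closure {x : G | ∃ z ∈ T, ∃ z' ∈ T, c.Central z ∧ c.Central z' ∧ x = z * z'} with hI
    have hIT : I ≤ T := by
      rw [hI, closure_le]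
      rintro _ ⟨z, hz, z', hz', -, -, rfl⟩
      exact mul_mem hz hz'
    have hIV : I ≤ CV := by
      rw [hI, closure_le]
      rintro _ ⟨w, hw, w', hw', hwc, hw'c, rfl⟩
      refine mem_centralizer_iff.2 fun v hv => ?_
      have h1 := (c.inverts_of_central hb hwc hP.isQ (hP.norm hw)).1
      have h2 := (c.inverts_of_central hb hw'c hP.isQ (hP.norm hw')).1
      have h3 : w * w' * v * (w * w')⁻¹ = v := by
        rw [show w * w' * v * (w * w')⁻¹ = w * (w' * v * w'⁻¹) * w⁻¹ by group, h2 v hv,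
          h1 _ (inv_mem hv), inv_inv]
      exact (mul_inv_eq_iff_eq_mul.1 h3).symm
    have hnI : T2 ≤ normalizer (I : Set G) := by
      intro t ht
      refine mem_normalizer_of_forall fun x hx => ?_
      rw [hI] at hx ⊢
      induction hx using closure_induction with
      | mem x hx =>
        obtain ⟨w, hw, w', hw', hwc, hw'c, rfl⟩ := hx
        exact subset_closure ⟨t * w * t⁻¹, (mem_normalizer_iff.1 (hT2N ht) w).1 hw, t * w' * t⁻¹,
          (mem_normalizer_iff.1 (hT2N ht) w').1 hw', c.central_conj hwc t, c.central_conj hw'c t,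
          by group⟩
      | one => simp
      | mul a b _ _ ha hb => simpa [mul_assoc] using mul_mem ha hb
      | inv a _ ha => simpa [mul_assoc] using inv_mem ha
    have hIbot : I = ⊥ := by
      by_contra hne
      obtain ⟨x, hxI, hx2, hxT⟩ := exists_involution_fixed hT2 (hP.isTwo.to_le hIT) hnI hne
      have hT2x : T2 ≤ centralizer ({x} : Set G) := fun t ht =>
        mem_centralizer_singleton_iff.2 (hxT t ht)
      have hVx : V ≤ centralizer ({x} : Set G) := fun v hv =>
        mem_centralizer_singleton_iff.2 (mem_centralizer_iff.1 (hIV hxI) v hv)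
      have hDx := hOQ x hx2 hVx T2 hT2 le_sup_left hT2x
      exact hgT (hno _ _ (c.pair_of hb hx2 hDx hT2 hT2x) le_sup_left
        (mem_sup_right (mem_zpowers g)))
    have hmem : z * z' ∈ I := subset_closure ⟨z, hzT, z', hz'T, hz, hz', rfl⟩
    rw [hIbot, mem_bot] at hmem
    rw [eq_inv_of_mul_eq_one_left hmem, (orderOf_two hz'.1).2.2]
  obtain ⟨z, hz, hTz⟩ := c.exists_central hP.isTwo
  have hzT : z ∈ T := hcentral z hz hTz
  obtain ⟨-, hzz, hzinv⟩ := orderOf_two hz.1
  have hinv := (c.inverts_of_central hb hz hP.isQ (hP.norm hzT)).1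
  -- the cores of the centraliser of `V`
  have hVC : V ≤ CV := fun x hx => mem_centralizer_iff.2 fun y hy => hP.comm y hy x hx
  have hVV : core c.q CV = V := by
    have hle : V ≤ core c.q CV := le_core hVC (centralizer_le_normalizer _) hP.isQ
    refine (eq_of_le_of_card_ge hle (hmaxV _ ?_)).symm
    have hn : normalizer (V : Set G) ≤ normalizer (core c.q CV : Set G) :=
      (normalizer_le_normalizer_centralizer V).trans (normalizer_le_normalizer_core c.q CV)
    refine ⟨hP.isTwo, core_isPGroup _ _, fun h => hP.ne (le_bot_iff.1 (h ▸ hle)),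
      (c.inverts_of_central hb hz (core_isPGroup _ _) (hn (hP.norm hzT))).2, hP.norm.trans hn,
      fun h => hP.core_ne (le_bot_iff.1 (h ▸ ?_))⟩
    have hcc : centralizer (core c.q CV : Set G) ≤ CV :=
      centralizer_le (SetLike.coe_subset_coe.2 hle)
    exact le_core (core_le_centralizer_core (Ne.symm c.hq2) CV) (hcc.trans (le_normalizer_core 2 CV))
      (core_isPGroup 2 CV)
  have hsplit : ∀ h ∈ normalizer (V : Set G), ∃ s ∈ V, s⁻¹ * h ∈ centralizer ({z} : Set G) := by
    intro h hh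
    set w := h * z * h⁻¹ * z with hw
    have hwV : w ∈ CV := mem_centralizer_iff.2 fun v hv => by
      have hv' : h⁻¹ * v * h ∈ V := (mem_normalizer_iff''.1 hh v).1 hv
      have h2 : h * z * h⁻¹ * v * (h * z * h⁻¹)⁻¹ = v⁻¹ := by
        calc h * z * h⁻¹ * v * (h * z * h⁻¹)⁻¹ = h * (z * (h⁻¹ * v * h) * z⁻¹) * h⁻¹ := by group
          _ = h * (h⁻¹ * v * h)⁻¹ * h⁻¹ := by rw [hinv _ hv']
          _ = v⁻¹ := by group
      have h3 : w * v * w⁻¹ = v := by
        calc w * v * w⁻¹ = h * z * h⁻¹ * (z * v * z⁻¹) * (h * z * h⁻¹)⁻¹ := by rw [hw]; group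
          _ = h * z * h⁻¹ * v⁻¹ * (h * z * h⁻¹)⁻¹ := by rw [hinv v hv]
          _ = (h * z * h⁻¹ * v * (h * z * h⁻¹)⁻¹)⁻¹ := by group
          _ = v := by rw [h2, inv_inv]
      exact (mul_inv_eq_iff_eq_mul.1 h3).symm
    have hwU : w ∈ centralizer (U : Set G) := mem_centralizer_iff.2 fun e he => by
      have hze : ∀ e ∈ U, Commute e z := fun e he =>
        mem_centralizer_singleton_iff.1 (hTz (hUT he))
      have he' : h⁻¹ * e * h ∈ U := (mem_normalizer_iff''.1 (hNU hh) e).1 he
      have h1 : Commute e (h * z * h⁻¹) := by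
        have := (hze _ he').eq
        show e * (h * z * h⁻¹) = h * z * h⁻¹ * e
        calc e * (h * z * h⁻¹) = h * (h⁻¹ * e * h * z) * h⁻¹ := by group
          _ = h * (z * (h⁻¹ * e * h)) * h⁻¹ := by rw [this]
          _ = h * z * h⁻¹ * e := by group
      exact (h1.mul_right (hze e he)).eq
    have hmem := c.mem_cores_of_centralizes hCV3 hwV hwU (by
      rw [hVV]
      exact mem_centralizer_iff.2 fun v hv => mem_centralizer_iff.1 hwV v hv)
    rw [hVV, ← SetLike.mem_coe, coe_mul_of_left_le_normalizer_right U V hUN, Set.mem_mul] at hmem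
    obtain ⟨cU, hcU, v, hv, hcv⟩ := hmem
    have hodd : ¬ 2 ∣ orderOf v := fun h2 =>
      not_dvd_of_isPGroup Nat.prime_two (Ne.symm c.hq2) hP.isQ (h2.trans (V.orderOf_dvd_natCard hv))
    obtain ⟨n, hn, hsq⟩ := exists_sqrt hv hodd
    refine ⟨v ^ n, hn, ?_⟩
    set s := v ^ n
    have hcs : s * cU = cU * s := mem_centralizer_iff.1 (core_le 2 CV hcU) s hn
    have hzs : z * s = s⁻¹ * z := mul_inv_eq_iff_eq_mul.1 (hinv s hn)
    have hzh : h * z * h⁻¹ = cU * v * z := by
      rw [hcv, hw, mul_assoc _ z z, hzz, mul_one]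
    have hkey : s⁻¹ * h * z * (s⁻¹ * h)⁻¹ = cU * z := by
      calc s⁻¹ * h * z * (s⁻¹ * h)⁻¹ = s⁻¹ * (h * z * h⁻¹) * s := by group
        _ = s⁻¹ * (cU * (s * s)) * (z * s) := by rw [hzh, hsq]; group
        _ = s⁻¹ * ((cU * s) * s) * (s⁻¹ * z) := by rw [hzs]; group
        _ = s⁻¹ * ((s * cU) * s) * (s⁻¹ * z) := by rw [hcs]
        _ = cU * z := by group
    have hcen := c.central_conj hz (s⁻¹ * h)
    rw [hkey] at hcen
    have hcu : cU = 1 := mul_eq_right.1 (huniq _ (mul_mem (hUT hcU) hzT) z hzT hcen hz)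
    rw [hcu, one_mul] at hkey
    exact mem_centralizer_singleton_iff.2 (mul_inv_eq_iff_eq_mul.1 hkey)
  -- `V` is a Sylow subgroup
  set K := normalizer (V : Set G) ⊓ centralizer ({z} : Set G) with hK
  have hNeq : normalizer (V : Set G) ≤ K ⊔ V := fun h hh => by
    obtain ⟨s, hs, hs'⟩ := hsplit h hh
    have : h = s * (s⁻¹ * h) := by group
    rw [this]
    exact mul_mem (mem_sup_right hs)
      (mem_sup_left ⟨mul_mem ((normalizer (V : Set G)).inv_mem (le_normalizer hs)) hh, hs'⟩)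
  obtain ⟨Q, hVQ⟩ := hP.isQ.exists_le_sylow
  have hVeq : V = (Q : Subgroup G) := by
    by_contra hne
    have hlt' := CfsgLib.OddOrder.lt_normalizer_inf_of_lt Q.isPGroup' (lt_of_le_of_ne hVQ hne)
    set Y := normalizer (V : Set G) ⊓ (Q : Subgroup G)
    obtain ⟨i, hi⟩ := (Q.isPGroup'.to_le (inf_le_right : Y ≤ Q)).exists_card_eq
    obtain ⟨j, hj⟩ := ((c.isPGroup_central hb hz).to_le (inf_le_right : K ≤ _)).exists_card_eq
    have hd : c.q ^ i ∣ 2 ^ j * Nat.card V := by
      rw [← hi, ← hj]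
      refine ((card_dvd_of_le inf_le_left).trans (card_dvd_of_le hNeq)).trans ?_
      rw [← PLocal.card_sup_mul_card_inf (inf_le_left : K ≤ normalizer (V : Set G))]
      exact dvd_mul_right _ _
    have := Nat.le_of_dvd Nat.card_pos ((c.coprime_two_q.symm.pow i j).dvd_of_dvd_mul_left hd)
    exact hlt'.ne (eq_of_le_of_card_ge hlt'.le (hi ▸ this))
  refine c.not_centralizes_sylow hu02 ?_
  rw [← (c.index_sylow Q).2, ← hVeq]
  exact card_dvd_of_le fun v hv =>
    mem_centralizer_singleton_iff.2 (mem_centralizer_iff.1 (core_le 2 CV hu0) v hv)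

end Ctx

end CfsgLib.NineTwoQSelf
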