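import Cfsg.Agent.NineTwoQ.Ctx
import Cfsg.Agent.NineTwoQ.Main
import Cfsg.Agent.SolvSig.Core
import Cfsg.Agent.Inv53.Constrained
import Cfsg.Agent.Inv53.TwoConstrained
import Cfsg.Agent.BlocksCharsC.PGroupCenter
import Cfsg.Agent.NineTwoQSelf.Link
import Cfsg.Agent.S0058
import Cfsg.Agent.S0144

/-!
# Simple groups of order `9 · 2 ^ a · q ^ b` with strongly self-centralising Sylow 3-subgroup

The elementary consequences: centralisers are solvable `{2,q}`-groups, subgroups normalising a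
nontrivial `3'`-subgroup have order not divisible by nine, some element of order three is real, and
commuting 2- and `q`-elements are linked.
-/

set_option autoImplicit false
set_option linter.style.haveILetI false
set_option linter.unusedSectionVars false

namespace CfsgLib.NineTwoQSelf

open Subgroup CfsgLib.SolvSig
open scoped commutatorElement

universe u

variable {G : Type u} [Group G] [Finite G]

section General

theorem mem_normalizer_of_forall {H : Subgroup G} {g : G} (h : ∀ x ∈ H, g * x * g⁻¹ ∈ H) :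
    g ∈ normalizer (H : Set G) := by
  rw [mem_normalizer_iff]
  intro x
  refine ⟨h x, fun hx => ?_⟩
  have hcl : ∀ n : ℕ, ∀ y ∈ H, g ^ n * y * (g ^ n)⁻¹ ∈ H := by
    intro n
    induction n with
    | zero => intro y hy; simpa using hy
    | succ n ih =>
      intro y hy
      have := h _ (ih y hy)
      simpa [pow_succ', mul_assoc] using this
  have hn : g ^ (orderOf g - 1) = g⁻¹ := by
    refine eq_inv_of_mul_eq_one_left ?_
    rw [← pow_succ, Nat.sub_add_cancel (orderOf_pos g), pow_orderOf_eq_one]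
  have := hcl (orderOf g - 1) _ hx
  rw [hn] at this
  simpa [mul_assoc] using this

theorem isPGroup_zpowers_of_orderOf {p i : ℕ} {g : G} (h : orderOf g = p ^ i) :
    IsPGroup p (zpowers g) :=
  IsPGroup.of_card (n := i) (by rw [Nat.card_zpowers, h])

/-- A nontrivial normal subgroup of a p-group contains a nontrivial central element. -/
theorem exists_fixed_of_normalizes {p : ℕ} [Fact p.Prime] {D V : Subgroup G} (hD : IsPGroup p D)
    (hV : IsPGroup p V) (hDV : D ≤ normalizer (V : Set G)) (hne : V ≠ ⊥) :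
    ∃ v ∈ V, v ≠ 1 ∧ ∀ d ∈ D, d * v = v * d := by
  set P := D ⊔ V
  have hP : IsPGroup p P := hD.to_sup_of_normal_right' hV hDV
  let K := V.subgroupOf P
  haveI : K.Normal := (normal_subgroupOf_iff_le_normalizer le_sup_right).2
    (sup_le hDV le_normalizer)
  haveI : Nontrivial K := by
    obtain ⟨v, hv, hv1⟩ := (bot_or_exists_ne_one V).resolve_left hne
    exact ⟨⟨⟨v, mem_sup_right hv⟩, hv⟩, 1, fun e => hv1 (congrArg (fun t : K => ((t : P) : G)) e)⟩
  obtain ⟨x, hx, hx1⟩ := (bot_or_exists_ne_one (K ⊓ center P)).resolve_left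
    (BlocksCharsC.inf_center_ne_bot hP K)
  exact ⟨x, hx.1, fun e => hx1 (Subtype.ext e), fun d hd =>
    congrArg Subtype.val (mem_center_iff.1 hx.2 ⟨d, mem_sup_left hd⟩)⟩

end General

/-- A simple group of order `9 · 2 ^ a · q ^ b` with elementary Sylow 3-subgroup `R` centralising
only itself. -/
structure Ctx (G : Type u) [Group G] where
  q : ℕ
  a : ℕ
  b : ℕ
  hG : ¬ IsMulCommutative G
  hq : q.Prime
  hq2 : q ≠ 2
  hq3 : q ≠ 3
  card : Nat.card G = 9 * 2 ^ a * q ^ b
  R : Sylow 3 G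
  exp3 : ∀ k ∈ (R : Subgroup G), k ^ 3 = 1
  cent : ∀ k ∈ (R : Subgroup G), k ≠ 1 → centralizer ({k} : Set G) = R

namespace Ctx

variable (c : Ctx G)
include c

theorem not_three_dvd_cofactor : ¬ 3 ∣ 2 ^ c.a * c.q ^ c.b := fun h =>
  (Nat.prime_three.dvd_mul.1 h).elim
    (fun h => absurd ((Nat.prime_dvd_prime_iff_eq Nat.prime_three Nat.prime_two).1
      (Nat.prime_three.dvd_of_dvd_pow h)) (by norm_num))
    (fun h => c.hq3 ((Nat.prime_dvd_prime_iff_eq Nat.prime_three c.hq).1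
      (Nat.prime_three.dvd_of_dvd_pow h)).symm)

/-- The data of the order nine library. -/
def toNine : NineTwoQ.Ctx G where
  R := c.R
  m := 2 ^ c.a * c.q ^ c.b
  card_G := by rw [c.card]; ring
  not_dvd := c.not_three_dvd_cofactor

theorem card_R : Nat.card (c.R : Subgroup G) = 9 := c.toNine.card_R

theorem comm_R {x y : G} (hx : x ∈ (c.R : Subgroup G)) (hy : y ∈ (c.R : Subgroup G)) :
    x * y = y * x :=
  c.toNine.comm hx hy

theorem not_isCyclic_R : ¬ IsCyclic (c.R : Subgroup G) := by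
  intro h
  obtain ⟨g, hg⟩ := IsCyclic.exists_generator (α := (c.R : Subgroup G))
  have h9 : orderOf g = 9 := by rw [orderOf_eq_card_of_forall_mem_zpowers hg, c.card_R]
  have := orderOf_dvd_of_pow_eq_one (show g ^ 3 = 1 from Subtype.ext (c.exp3 g g.2))
  rw [h9] at this
  norm_num at this

/-- An element commuting with an element of order three has order a power of three. -/
theorem not_three_dvd_card {X : Subgroup G} {g : G} (hg : g ≠ 1) (hgo : ¬ 3 ∣ orderOf g)
    (hX : X ≤ centralizer ({g} : Set G)) : ¬ 3 ∣ Nat.card X := by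
  intro h
  haveI : Fact (Nat.Prime 3) := ⟨Nat.prime_three⟩
  obtain ⟨t, ht⟩ := exists_prime_orderOf_dvd_card' (G := X) 3 h
  rw [← Subgroup.orderOf_coe] at ht
  obtain ⟨k, hk, hconj⟩ := c.toNine.exists_mem_isConj (g := (t : G))
    (orderOf_dvd_iff_pow_eq_one.1 (ht ▸ (by norm_num)))
  obtain ⟨n, rfl⟩ := isConj_iff.1 hconj
  have hk1 : n * (t : G) * n⁻¹ ≠ 1 := fun e => by
    rw [conj_eq_one_iff] at e
    rw [e, orderOf_one] at ht
    norm_num at ht
  have hmem : n * g * n⁻¹ ∈ (c.R : Subgroup G) := by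
    rw [← c.cent _ hk hk1, mem_centralizer_singleton_iff]
    have := mem_centralizer_singleton_iff.1 (hX t.2)
    calc n * g * n⁻¹ * (n * t * n⁻¹) = n * (g * t) * n⁻¹ := by group
      _ = n * ((t : G) * g) * n⁻¹ := by rw [this]
      _ = n * t * n⁻¹ * (n * g * n⁻¹) := by group
  have h3 := orderOf_dvd_of_pow_eq_one (c.exp3 _ hmem)
  have he : orderOf (n * g * n⁻¹) = orderOf g :=
    orderOf_injective (MulAut.conj n).toMonoidHom (MulAut.conj n).injective g
  rw [he] at h3
  rcases (Nat.dvd_prime Nat.prime_three).1 h3 with e | e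
  · exact hg (orderOf_eq_one_iff.1 e)
  · exact hgo (e ▸ dvd_rfl)

/-- The centraliser of a nontrivial `3'`-subgroup has order prime to three. -/
theorem not_three_dvd_centralizer {V : Subgroup G} (hne : V ≠ ⊥) (hV : ¬ 3 ∣ Nat.card V) :
    ¬ 3 ∣ Nat.card (centralizer (V : Set G)) := by
  obtain ⟨v, hv, hv1⟩ := (bot_or_exists_ne_one V).resolve_left hne
  exact c.not_three_dvd_card hv1 (fun h => hV (h.trans (V.orderOf_dvd_natCard hv)))
    (centralizer_le (Set.singleton_subset_iff.2 hv))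

/-- A subgroup normalising a nontrivial `3'`-subgroup has order not divisible by nine. -/
theorem not_nine_dvd {V H : Subgroup G} (hne : V ≠ ⊥) (hV : ¬ 3 ∣ Nat.card V)
    (hH : H ≤ normalizer (V : Set G)) : ¬ 9 ∣ Nat.card H := by
  intro h
  haveI : Fact (Nat.Prime 3) := ⟨Nat.prime_three⟩
  obtain ⟨P, hP⟩ := Sylow.exists_subgroup_card_pow_prime (G := H) 3 (n := 2) (by norm_num; exact h)
  set P' := P.map H.subtype
  have hP' : Nat.card P' = 9 := by
    rw [card_map_of_injective H.subtype_injective, hP]; norm_num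
  obtain ⟨S, hS⟩ := (IsPGroup.of_card (n := 2) (by rw [hP']; norm_num) :
    IsPGroup 3 P').exists_le_sylow
  obtain ⟨n, hn⟩ := MulAction.exists_smul_eq G S c.R
  set A := P'.map (MulAut.conj n).toMonoidHom
  have hA : A = (c.R : Subgroup G) := by
    refine eq_of_le_of_card_ge ?_ ?_
    · rw [← hn, Sylow.coe_subgroup_smul]
      exact map_mono hS
    · rw [c.card_R, card_map_of_injective (MulAut.conj n).injective, hP']
  set W := V.map (MulAut.conj n).toMonoidHom
  haveI : IsMulCommutative (c.R : Subgroup G) := c.toNine.isMulCommutative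
  have hcop : (Nat.card (c.R : Subgroup G)).Coprime (Nat.card W) := by
    rw [c.card_R, card_map_of_injective (MulAut.conj n).injective, show (9 : ℕ) = 3 ^ 2 by norm_num]
    exact (Nat.prime_three.coprime_iff_not_dvd.2 hV).pow_left 2
  have hAW : (c.R : Subgroup G) ≤ normalizer (W : Set G) := by
    rw [← hA]
    exact (map_mono ((map_subtype_le P).trans hH)).trans (le_normalizer_map _)
  have hgen := Cfsg.Agent.S0058.result (c.R : Subgroup G) W c.not_isCyclic_R hAW hcop
  have hW : W = ⊥ := by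
    rw [← hgen, eq_bot_iff]
    refine iSup₂_le fun r hr => ?_
    rintro w ⟨hw, hwc⟩
    rw [c.cent r hr.1 hr.2] at hwc
    rw [mem_bot, ← orderOf_eq_one_iff]
    exact Nat.eq_one_of_dvd_coprimes hcop (orderOf_dvd_natCard _ hwc) (orderOf_dvd_natCard _ hw)
  exact hne ((map_eq_bot_iff_of_injective _ (MulAut.conj n).injective).1 hW)

/-- The order of a `3'`-subgroup. -/
theorem card_eq_of_not_three {H : Subgroup G} (h : ¬ 3 ∣ Nat.card H) :
    ∃ i j, i ≤ c.a ∧ j ≤ c.b ∧ Nat.card H = 2 ^ i * c.q ^ j := by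
  have h2 : Nat.card H ∣ 2 ^ c.a * c.q ^ c.b := by
    refine ((Nat.prime_three.coprime_iff_not_dvd.2 h).symm.pow_right 2).dvd_of_dvd_mul_left ?_
    rw [show (3 : ℕ) ^ 2 * (2 ^ c.a * c.q ^ c.b) = Nat.card G by rw [c.card]; ring]
    exact card_subgroup_dvd_card H
  obtain ⟨u, v, hu, hv, huv⟩ := exists_dvd_and_dvd_of_dvd_mul h2
  obtain ⟨i, hi, rfl⟩ := (Nat.dvd_prime_pow Nat.prime_two).1 hu
  obtain ⟨j, hj, rfl⟩ := (Nat.dvd_prime_pow c.hq).1 hv
  exact ⟨i, j, hi, hj, huv⟩

theorem isSolvable_of_not_three {H : Subgroup G} (h : ¬ 3 ∣ Nat.card H) :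
    Group.IsSolvable H := by
  obtain ⟨i, j, -, -, e⟩ := c.card_eq_of_not_three h
  exact Cfsg.Agent.S0144.result 2 c.q i j Nat.prime_two c.hq e

theorem prime_cases {H : Subgroup G} (h : ¬ 3 ∣ Nat.card H) {r : ℕ} (hr : r.Prime)
    (hd : r ∣ Nat.card H) : r = 2 ∨ r = c.q := by
  obtain ⟨i, j, -, -, e⟩ := c.card_eq_of_not_three h
  rw [e] at hd
  rcases hr.dvd_mul.1 hd with h' | h'
  · exact Or.inl ((Nat.prime_dvd_prime_iff_eq hr Nat.prime_two).1 (hr.dvd_of_dvd_pow h'))
  · exact Or.inr ((Nat.prime_dvd_prime_iff_eq hr c.hq).1 (hr.dvd_of_dvd_pow h'))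

theorem isPGroup_of_coprime_q {H : Subgroup G} (h : ¬ 3 ∣ Nat.card H)
    (hq : ¬ c.q ∣ Nat.card H) : IsPGroup 2 H := by
  obtain ⟨i, j, -, -, e⟩ := c.card_eq_of_not_three h
  cases j with
  | zero => exact IsPGroup.of_card (n := i) (by rw [e, pow_zero, mul_one])
  | succ j => exact absurd (e ▸ (dvd_pow_self c.q (Nat.succ_ne_zero j)).mul_left _) hq

theorem isPGroup_of_coprime_two {H : Subgroup G} (h : ¬ 3 ∣ Nat.card H)
    (h2 : ¬ 2 ∣ Nat.card H) : IsPGroup c.q H := by
  obtain ⟨i, j, -, -, e⟩ := c.card_eq_of_not_three h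
  cases i with
  | zero => exact IsPGroup.of_card (n := j) (by rw [e, pow_zero, one_mul])
  | succ i => exact absurd (e ▸ (dvd_pow_self 2 (Nat.succ_ne_zero i)).mul_right _) h2

theorem coprime_two_q : Nat.Coprime 2 c.q :=
  (Nat.coprime_primes Nat.prime_two c.hq).2 (Ne.symm c.hq2)

/-- In a `{2,q}`-subgroup `O_{q'} = O_2`. -/
theorem core'_q {H : Subgroup G} (h : ¬ 3 ∣ Nat.card H) : core' c.q H = core 2 H := by
  haveI : Fact c.q.Prime := ⟨c.hq⟩
  refine le_antisymm (le_core (core'_le _ H) ?_ ?_) (le_core' (core_le _ H) (le_normalizer_core _ H) ?_)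
  · exact le_normalizer.trans (normalizer_le_normalizer_core' _ H)
  · exact c.isPGroup_of_coprime_q (fun hd => h (hd.trans (card_dvd_of_le (core'_le _ H))))
      (c.hq.coprime_iff_not_dvd.1 (card_core'_coprime _ H).symm)
  · obtain ⟨k, hk⟩ := (core_isPGroup 2 H).exists_card_eq
    rw [hk]
    exact c.coprime_two_q.pow_left k

/-- In a `{2,q}`-subgroup `O_{2'} = O_q`. -/
theorem core'_two {H : Subgroup G} (h : ¬ 3 ∣ Nat.card H) : core' 2 H = core c.q H := by
  haveI : Fact c.q.Prime := ⟨c.hq⟩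
  haveI : Fact (Nat.Prime 2) := ⟨Nat.prime_two⟩
  refine le_antisymm (le_core (core'_le _ H) ?_ ?_) (le_core' (core_le _ H) (le_normalizer_core _ H) ?_)
  · exact le_normalizer.trans (normalizer_le_normalizer_core' _ H)
  · exact c.isPGroup_of_coprime_two (fun hd => h (hd.trans (card_dvd_of_le (core'_le _ H))))
      (Nat.prime_two.coprime_iff_not_dvd.1 (card_core'_coprime _ H).symm)
  · obtain ⟨k, hk⟩ := (core_isPGroup c.q H).exists_card_eq
    rw [hk]
    exact c.coprime_two_q.symm.pow_left k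

/-- One of the two cores of a nontrivial `{2,q}`-subgroup is nontrivial. -/
theorem core_ne_bot {H : Subgroup G} (h : ¬ 3 ∣ Nat.card H) (hne : H ≠ ⊥) :
    core 2 H ≠ ⊥ ∨ core c.q H ≠ ⊥ := by
  obtain ⟨r, hr, hne'⟩ := exists_core_ne_bot (c.isSolvable_of_not_three h) hne
  haveI : Fact r.Prime := ⟨hr⟩
  have hd : r ∣ Nat.card H := by
    obtain ⟨k, hk⟩ := (core_isPGroup r H).exists_card_eq
    cases k with
    | zero => exact absurd (card_eq_one.1 (by rw [hk, pow_zero])) hne'
    | succ k => exact (hk ▸ dvd_pow_self r (Nat.succ_ne_zero k)).trans (card_dvd_of_le (core_le _ H))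
  rcases c.prime_cases h hr hd with rfl | rfl
  · exact Or.inl hne'
  · exact Or.inr hne'

/-- The Fitting subgroup contains its centraliser. -/
theorem le_core_of_centralizes' {H X : Subgroup G} (h : ¬ 3 ∣ Nat.card H) {r : ℕ} [Fact r.Prime]
    (hXH : X ≤ H) (hX : IsPGroup r X) (h2 : X ≤ centralizer (core 2 H : Set G))
    (hqc : X ≤ centralizer (core c.q H : Set G)) : X ≤ core r H := by
  refine le_core_of_centralizes (c.isSolvable_of_not_three h) hXH hX fun v hv => ?_
  haveI : Fact v.Prime := ⟨hv⟩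
  by_cases hd : v ∣ Nat.card H
  · rcases c.prime_cases h hv hd with rfl | rfl
    · exact h2
    · exact hqc
  · have : core v H = ⊥ := by
      obtain ⟨k, hk⟩ := (core_isPGroup v H).exists_card_eq
      refine card_eq_one.1 ?_
      cases k with
      | zero => rw [hk, pow_zero]
      | succ k => exact absurd ((hk ▸ dvd_pow_self v (Nat.succ_ne_zero k)).trans
          (card_dvd_of_le (core_le _ H))) hd
    rw [this]
    exact fun x _ => mem_centralizer_iff.2 fun y hy => by
      rw [coe_bot, Set.mem_singleton_iff] at hy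
      simp [hy]

/-- Elements centralising both cores lie in their product. -/
theorem mem_cores_of_centralizes {H : Subgroup G} (h : ¬ 3 ∣ Nat.card H) {g : G} (hg : g ∈ H)
    (h2 : g ∈ centralizer (core 2 H : Set G)) (hqc : g ∈ centralizer (core c.q H : Set G)) :
    g ∈ core 2 H ⊔ core c.q H := by
  haveI : Fact c.q.Prime := ⟨c.hq⟩
  haveI : Fact (Nat.Prime 2) := ⟨Nat.prime_two⟩
  obtain ⟨i, j, -, -, e⟩ := c.card_eq_of_not_three h
  have hgo : orderOf g ∣ 2 ^ i * c.q ^ j := e ▸ H.orderOf_dvd_natCard hg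
  have hb := Nat.gcd_eq_gcd_ab (2 ^ i) (c.q ^ j)
  rw [(c.coprime_two_q.pow i j)] at hb
  have hg2 : g = g ^ (((2 ^ i : ℕ) : ℤ) * Nat.gcdA (2 ^ i) (c.q ^ j)) *
      g ^ (((c.q ^ j : ℕ) : ℤ) * Nat.gcdB (2 ^ i) (c.q ^ j)) := by
    rw [← zpow_add, ← hb]
    simp
  have aux : ∀ (r m : ℕ) (x : G), Fact r.Prime → x ∈ H → x ∈ centralizer (core 2 H : Set G) →
      x ∈ centralizer (core c.q H : Set G) → x ^ (r ^ m) = 1 → x ∈ core r H := by
    intro r m x hr hx hx2 hxq hpow
    obtain ⟨l, -, hl⟩ := (Nat.dvd_prime_pow hr.out).1 (orderOf_dvd_of_pow_eq_one hpow)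
    exact c.le_core_of_centralizes' h (zpowers_le.2 hx) (isPGroup_zpowers_of_orderOf hl)
      (zpowers_le.2 hx2) (zpowers_le.2 hxq) (mem_zpowers x)
  rw [hg2]
  refine mul_mem (mem_sup_right ?_) (mem_sup_left ?_)
  · refine aux c.q j _ ‹_› (zpow_mem hg _) (zpow_mem h2 _) (zpow_mem hqc _) ?_
    rw [← zpow_natCast, ← zpow_mul, ← orderOf_dvd_iff_zpow_eq_one]
    have hd : ((orderOf g : ℕ) : ℤ) ∣ ((2 ^ i * c.q ^ j : ℕ) : ℤ) := Int.natCast_dvd_natCast.2 hgo
    exact hd.trans ⟨Nat.gcdA (2 ^ i) (c.q ^ j), by push_cast; ring⟩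
  · refine aux 2 i _ ‹_› (zpow_mem hg _) (zpow_mem h2 _) (zpow_mem hqc _) ?_
    rw [← zpow_natCast, ← zpow_mul, ← orderOf_dvd_iff_zpow_eq_one]
    have hd : ((orderOf g : ℕ) : ℤ) ∣ ((2 ^ i * c.q ^ j : ℕ) : ℤ) := Int.natCast_dvd_natCast.2 hgo
    exact hd.trans ⟨Nat.gcdB (2 ^ i) (c.q ^ j), by push_cast; ring⟩

/-- A `q`-subgroup normalised by a Sylow 2-subgroup lies in `O_q`. -/
theorem le_core_of_normalized {H X T : Subgroup G} (h : ¬ 3 ∣ Nat.card H) (hT : T ≤ H)
    (hTp : IsPGroup 2 T) (hTmax : ∀ P : Subgroup G, P ≤ H → IsPGroup 2 P → T ≤ P → P = T)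
    (hXH : X ≤ H) (hX : IsPGroup c.q X) (hTX : T ≤ normalizer (X : Set G)) : X ≤ core c.q H := by
  haveI : Fact c.q.Prime := ⟨c.hq⟩
  haveI : Fact (Nat.Prime 2) := ⟨Nat.prime_two⟩
  haveI : Group.IsSolvable H := c.isSolvable_of_not_three h
  set O := Cfsg.pCore c.q H
  set π := QuotientGroup.mk' O
  set T' := T.subgroupOf H
  set X' := X.subgroupOf H
  set R := Cfsg.pCore 2 (H ⧸ O) with hR
  -- `T'` is a Sylow 2-subgroup
  obtain ⟨P, hP⟩ := (hTp.comap_subtype : IsPGroup 2 T').exists_le_sylow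
  have hPT : (P : Subgroup H) = T' := by
    refine le_antisymm ?_ hP
    intro p hp
    show (p : G) ∈ T
    rw [← hTmax ((P : Subgroup H).map H.subtype) (map_subtype_le _) (P.isPGroup'.map _)
      (fun t ht => ⟨⟨t, hT ht⟩, hP ht, rfl⟩)]
    exact ⟨p, hp, rfl⟩
  have hRT : R ≤ T'.map π := by
    have := PLocal.pCore_le_sylow (P.mapSurjective (QuotientGroup.mk'_surjective O))
    rw [Sylow.coe_mapSurjective, hPT] at this
    exact this
  have hTX' : T' ≤ normalizer (X' : Set H) := by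
    intro t ht
    rw [mem_normalizer_iff]
    intro x
    exact mem_normalizer_iff.1 (hTX ht) (x : G)
  have hXq : IsPGroup c.q (X'.map π) := (hX.comap_subtype).map π
  have hcomm : X'.map π ≤ centralizer (R : Set (H ⧸ O)) := by
    rw [← commutator_eq_bot_iff_le_centralizer, eq_bot_iff]
    have hdisj : X'.map π ⊓ R = ⊥ := disjoint_iff.1
      (IsPGroup.disjoint_of_ne c.q 2 c.hq2 _ _ hXq (PLocal.isPGroup_pCore 2 _))
    rw [← hdisj]
    refine commutator_le.2 fun x hx r hr => ⟨?_, ?_⟩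
    · have hn := (map_mono hTX').trans (le_normalizer_map π) (hRT hr)
      rw [commutatorElement_def, mul_assoc, mul_assoc]
      refine mul_mem hx ?_
      rw [← mul_assoc]
      exact (mem_normalizer_iff.1 hn _).1 ((X'.map π).inv_mem hx)
    · rw [commutatorElement_def]
      exact mul_mem ((inferInstance : R.Normal).conj_mem r hr x) (R.inv_mem hr)
  have hO : Cfsg.pPrimeCore 2 (H ⧸ O) = ⊥ := by
    set N := Cfsg.pPrimeCore 2 (H ⧸ O)
    have hN : (Nat.card N).Coprime 2 := PLocal.coprime_card_pPrimeCore 2 _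
    have hNq : IsPGroup c.q N := by
      obtain ⟨i, j, -, -, e⟩ := c.card_eq_of_not_three h
      have hdvd : Nat.card N ∣ 2 ^ i * c.q ^ j :=
        e ▸ ((card_subgroup_dvd_card N).trans (card_quotient_dvd_card O))
      obtain ⟨l, -, hl⟩ := (Nat.dvd_prime_pow c.hq).1 ((hN.pow_right i).dvd_of_dvd_mul_left hdvd)
      exact IsPGroup.of_card hl
    exact le_bot_iff.1 ((PLocal.pCore_quotient_pCore_eq_bot c.q H).le.trans' (PLocal.le_pCore hNq))
  have hXR : X'.map π ≤ R := hcomm.trans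
    (PLocal.centralizer_pCore_le PLocal.isPSolvable_of_isSolvable hO)
  have hbot : X'.map π = ⊥ := le_bot_iff.1 (by
    rw [← disjoint_iff.1 (IsPGroup.disjoint_of_ne c.q 2 c.hq2 _ _ hXq (PLocal.isPGroup_pCore 2 _))]
    exact le_inf le_rfl hXR)
  rw [Subgroup.map_eq_bot_iff, QuotientGroup.ker_mk'] at hbot
  intro x hx
  exact ⟨⟨x, hXH hx⟩, hbot hx, rfl⟩

/-- Balance inside a `{2,q}`-subgroup `H`: a 2-subgroup centralised by a `q`-subgroup `A` and
normalised by `C_H(A)` lies in `O_2(H)`. -/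
theorem le_core_of_balance {H A Y : Subgroup G} (h : ¬ 3 ∣ Nat.card H) (hA : A ≤ H) (hY : Y ≤ H)
    (hAq : IsPGroup c.q A) (hY2 : IsPGroup 2 Y) (hAY : A ≤ centralizer (Y : Set G))
    (hn : H ⊓ centralizer (A : Set G) ≤ normalizer (Y : Set G)) : Y ≤ core 2 H := by
  haveI : Fact c.q.Prime := ⟨c.hq⟩
  haveI : Group.IsSolvable H := c.isSolvable_of_not_three h
  obtain ⟨k, hk⟩ := hY2.exists_card_eq
  rw [← c.core'_q h, ← map_subgroupOf_eq_of_le hY]
  refine map_mono (Inv53.le_pPrimeCore_of_normalized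
    (PLocal.isPConstrained_of_isPSolvable PLocal.isPSolvable_of_isSolvable)
    (A := A.subgroupOf H) hAq.comap_subtype ?_ ?_ ?_)
  · rw [Nat.card_congr (subgroupOfEquivOfLe hY).toEquiv, hk]
    exact c.coprime_two_q.pow_left k
  · intro x hx
    rw [mem_centralizer_iff]
    exact fun y hy => Subtype.ext (mem_centralizer_iff.1 (hAY hx) (y : G) hy)
  · intro x hx
    rw [mem_normalizer_iff]
    intro y
    refine mem_normalizer_iff.1 (hn ⟨x.2, mem_centralizer_iff.2 fun t ht => ?_⟩) (y : G)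
    exact congrArg Subtype.val (mem_centralizer_iff.1 hx ⟨t, hA ht⟩ ht)

theorem b_pos [IsSimpleGroup G] : 1 ≤ c.a ∧ 1 ≤ c.b := by
  have hns : ∀ p r i j : ℕ, p.Prime → r.Prime → Nat.card G ≠ p ^ i * r ^ j := by
    intro p r i j hp hr e
    haveI := Cfsg.Agent.S0144.result p r i j hp hr e
    exact c.hG ⟨⟨IsSimpleGroup.comm_iff_isSolvable.2 inferInstance⟩⟩
  refine ⟨Nat.one_le_iff_ne_zero.2 fun h0 => hns 3 c.q 2 c.b Nat.prime_three c.hq ?_,
    Nat.one_le_iff_ne_zero.2 fun h0 => hns 3 2 2 c.a Nat.prime_three Nat.prime_two ?_⟩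
  · rw [c.card, h0]
    ring
  · rw [c.card, h0]
    ring

end Ctx

end CfsgLib.NineTwoQSelf
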