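import Cfsg.Agent.NineTwoQSelf.Fixed
import Cfsg.Agent.OddOrder.BG9.Noncyclic

/-!
# Orbit weights of `{2,q}`-subgroups on `G / Q`
-/

set_option autoImplicit false
set_option linter.style.haveILetI false
set_option linter.unusedSectionVars false

namespace CfsgLib.NineTwoQSelf

open Subgroup MulAction

universe u

namespace Weights

variable {M : Type u} [Group M] [Finite M] {Ω : Type u} [MulAction M Ω] [Finite Ω]

/-- An invariant set whose stabilisers all have index divisible by `d` has size divisible by `d`. -/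
theorem dvd_card (P : Ω → Prop) (hinv : ∀ (g : M) p, P p → P (g • p)) (d : ℕ)
    (hd : ∀ p, P p → d ∣ (stabilizer M p).index) : d ∣ Nat.card {p // P p} := by
  classical
  letI : MulAction M {p // P p} :=
    { smul := fun g p => ⟨g • p.1, hinv g p.1 p.2⟩
      one_smul := fun p => Subtype.ext (one_smul M p.1)
      mul_smul := fun g h p => Subtype.ext (mul_smul g h p.1) }
  haveI := Fintype.ofFinite (orbitRel.Quotient M {p // P p})
  rw [Nat.card_congr (selfEquivSigmaOrbits M {p // P p}), Nat.card_sigma]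
  refine Finset.dvd_sum fun ω _ => ?_
  have hs : stabilizer M ω.out = stabilizer M (ω.out).1 := by
    ext g
    exact ⟨fun h => congrArg Subtype.val h, fun h => Subtype.ext h⟩
  have h := hd (ω.out).1 (ω.out).2
  rw [← hs, index_stabilizer] at h
  exact h

theorem card_split (P : Ω → Prop) :
    Nat.card Ω = Nat.card {p // P p} + Nat.card {p // ¬ P p} := by
  classical
  rw [← Nat.card_sum]
  exact Nat.card_congr (Equiv.sumCompl P).symm

theorem card_stabilizer_smul (g : M) (p : Ω) :
    Nat.card (stabilizer M (g • p)) = Nat.card (stabilizer M p) := by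
  rw [stabilizer_smul_eq_stabilizer_map_conj]
  exact card_map_of_injective (MulAut.conj g).injective

theorem conj_map_eq_iff (D : Subgroup M) (g h : M) :
    D.map (MulAut.conj g).toMonoidHom = D.map (MulAut.conj h).toMonoidHom ↔
      g⁻¹ * h ∈ normalizer (D : Set M) := by
  rw [mem_normalizer_iff_map_conj_eq]
  have e : ∀ x y : M, (D.map (MulAut.conj x).toMonoidHom).map (MulAut.conj y).toMonoidHom =
      D.map (MulAut.conj (y * x)).toMonoidHom := fun x y => by
    rw [Subgroup.map_map]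
    congr 1
    ext t
    simp [mul_assoc]
  constructor
  · intro he
    show D.map (MulAut.conj (g⁻¹ * h)).toMonoidHom = D
    rw [← e, ← he, e, inv_mul_cancel]
    ext t
    simp [Subgroup.mem_map]
  · intro he
    have := congrArg (fun K : Subgroup M => K.map (MulAut.conj g).toMonoidHom)
      (show D.map (MulAut.conj (g⁻¹ * h)).toMonoidHom = D from he)
    simp only [e, mul_inv_cancel_left] at this
    exact this.symm

/-- The points whose stabiliser is a conjugate of `D`. -/
theorem card_conj_stabilizer (D : Subgroup M) :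
    (normalizer (D : Set M)).index * Nat.card {p : Ω // stabilizer M p = D} =
      Nat.card {p : Ω // ∃ g : M, stabilizer M p = D.map (MulAut.conj g).toMonoidHom} := by
  classical
  rw [index, ← Nat.card_prod]
  let f : (M ⧸ normalizer (D : Set M)) × {p : Ω // stabilizer M p = D} →
      {p : Ω // ∃ g : M, stabilizer M p = D.map (MulAut.conj g).toMonoidHom} := fun x =>
    ⟨x.1.out • x.2.1, x.1.out, by rw [stabilizer_smul_eq_stabilizer_map_conj, x.2.2]⟩
  refine Nat.card_congr (Equiv.ofBijective f ⟨?_, ?_⟩)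
  · rintro ⟨r, p, hp⟩ ⟨r', p', hp'⟩ h
    have h' : r.out • p = r'.out • p' := congrArg Subtype.val h
    have hD : D.map (MulAut.conj r.out).toMonoidHom = D.map (MulAut.conj r'.out).toMonoidHom := by
      have := congrArg (stabilizer M) h'
      rw [stabilizer_smul_eq_stabilizer_map_conj, stabilizer_smul_eq_stabilizer_map_conj, hp,
        hp'] at this
      exact this
    have hr : r = r' := by
      rw [← QuotientGroup.out_eq' r, ← QuotientGroup.out_eq' r', QuotientGroup.eq]
      exact (conj_map_eq_iff D _ _).1 hD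
    subst hr
    exact Prod.ext rfl (Subtype.ext (smul_left_cancel r.out h'))
  · rintro ⟨p, g, hg⟩
    set r : M ⧸ normalizer (D : Set M) := (g : M ⧸ normalizer (D : Set M))
    have hD : D.map (MulAut.conj r.out).toMonoidHom = D.map (MulAut.conj g).toMonoidHom :=
      (conj_map_eq_iff D _ _).2 (QuotientGroup.eq.1 (QuotientGroup.out_eq' r))
    have hp : stabilizer M (r.out⁻¹ • p) = D := by
      rw [stabilizer_smul_eq_stabilizer_map_conj, hg, ← hD, Subgroup.map_map]
      ext t
      simp [Subgroup.mem_map, mul_assoc]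
    exact ⟨(r, ⟨r.out⁻¹ • p, hp⟩), Subtype.ext (smul_inv_smul r.out p)⟩

variable {q m e : ℕ} [Fact q.Prime]

theorem eq_of_card_eq {X Y : Subgroup M} (hX : Nat.card X = q ^ e) (hM : Nat.card M = 2 ^ m * q ^ e)
    (hq : q ≠ 2) (hY : Nat.card Y = q ^ e) :
    ∃ g : M, Y = X.map (MulAut.conj g).toMonoidHom := by
  obtain ⟨P, hP⟩ := (IsPGroup.of_card hX).exists_le_sylow
  obtain ⟨R, hR⟩ := (IsPGroup.of_card hY).exists_le_sylow
  have key : ∀ (Z : Subgroup M) (S : Sylow q M), Nat.card Z = q ^ e → Z ≤ S → Z = S := by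
    intro Z S hZ hle
    refine eq_of_le_of_card_ge hle ?_
    obtain ⟨l, hl⟩ := S.isPGroup'.exists_card_eq
    have hd : q ^ l ∣ 2 ^ m * q ^ e := hl ▸ hM ▸ card_subgroup_dvd_card _
    have : q ^ l ∣ q ^ e :=
      (((Nat.coprime_primes (Fact.out : q.Prime) Nat.prime_two).2 hq).pow l m).dvd_of_dvd_mul_left hd
    rw [hl, hZ]
    exact Nat.le_of_dvd (pow_pos (Fact.out : q.Prime).pos _) this
  obtain ⟨g, hg⟩ := exists_smul_eq M P R
  refine ⟨g, ?_⟩
  rw [key Y R hY hR, ← hg, Sylow.coe_subgroup_smul, key X P hX hP]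
  rfl

variable (hM : Nat.card M = 2 ^ m * q ^ e) (hq : q ≠ 2)
  (hst : ∀ p : Ω, IsPGroup q (stabilizer M p))

include hM hq hst

theorem exists_card_stabilizer (p : Ω) : ∃ j ≤ e, Nat.card (stabilizer M p) = q ^ j := by
  obtain ⟨j, hj⟩ := (hst p).exists_card_eq
  refine ⟨j, ?_, hj⟩
  have hd : q ^ j ∣ 2 ^ m * q ^ e := hj ▸ hM ▸ card_subgroup_dvd_card _
  have := (((Nat.coprime_primes (Fact.out : q.Prime) Nat.prime_two).2 hq).pow j m).dvd_of_dvd_mul_left hd
  exact (Nat.pow_dvd_pow_iff_le_right (Fact.out : q.Prime).one_lt).1 this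

omit hq hst in
theorem index_stabilizer_eq {p : Ω} {j : ℕ} (hj : j ≤ e) (h : Nat.card (stabilizer M p) = q ^ j) :
    (stabilizer M p).index = 2 ^ m * q ^ (e - j) := by
  have := (stabilizer M p).index_mul_card
  rw [h, hM, ← pow_mul_pow_sub q hj] at this
  exact Nat.eq_of_mul_eq_mul_right (pow_pos (Fact.out : q.Prime).pos j)
    (this.trans (by ring))

/-- The points with stabiliser of order `q ^ e`. -/
theorem card_top {X : Subgroup M} (hX : Nat.card X = q ^ e) :
    (normalizer (X : Set M)).index * Nat.card {p : Ω // ∀ x ∈ X, x • p = p} =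
      Nat.card {p : Ω // Nat.card (stabilizer M p) = q ^ e} := by
  have hfix : ∀ p : Ω, (∀ x ∈ X, x • p = p) ↔ stabilizer M p = X := by
    intro p
    refine ⟨fun h => (eq_of_le_of_card_ge (fun x hx => h x hx) ?_).symm, fun h x hx => ?_⟩
    · obtain ⟨j, hj, hjc⟩ := exists_card_stabilizer hM hq hst p
      rw [hjc, hX]
      exact Nat.pow_le_pow_right (Fact.out : q.Prime).pos hj
    · rw [← h] at hx
      exact hx
  rw [Nat.card_congr (Equiv.subtypeEquivRight hfix), card_conj_stabilizer]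
  refine Nat.card_congr (Equiv.subtypeEquivRight fun p => ⟨?_, fun h => eq_of_card_eq hX hM hq h⟩)
  rintro ⟨g, hg⟩
  rw [hg, card_map_of_injective (MulAut.conj g).injective, hX]

/-- The decomposition into points of weight one and the rest. -/
theorem weights : ∃ k l : ℕ, Nat.card Ω = 2 ^ m * (k + q * l) ∧
    Nat.card {p : Ω // Nat.card (stabilizer M p) = q ^ e} = 2 ^ m * k ∧
    Nat.card {p : Ω // ¬ Nat.card (stabilizer M p) = q ^ e} = 2 ^ m * q * l ∧
    ∀ X : Subgroup M, Nat.card X = q ^ e →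
      Nat.card {p : Ω // ∀ x ∈ X, x • p = p} * q ^ e = k * Nat.card (normalizer (X : Set M)) := by
  have h1 : 2 ^ m ∣ Nat.card {p : Ω // Nat.card (stabilizer M p) = q ^ e} := by
    refine dvd_card _ (fun g p h => by rwa [card_stabilizer_smul]) _ fun p h => ?_
    rw [index_stabilizer_eq hM le_rfl h]
    exact dvd_mul_right _ _
  have h2 : 2 ^ m * q ∣ Nat.card {p : Ω // ¬ Nat.card (stabilizer M p) = q ^ e} := by
    refine dvd_card _ (fun g p h => by rwa [card_stabilizer_smul]) _ fun p h => ?_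
    obtain ⟨j, hj, hjc⟩ := exists_card_stabilizer hM hq hst p
    rw [index_stabilizer_eq hM hj hjc]
    refine Nat.mul_dvd_mul_left _ (dvd_pow_self q fun h0 => h ?_)
    rw [hjc, show j = e by omega]
  obtain ⟨k, hk⟩ := h1
  obtain ⟨l, hl⟩ := h2
  refine ⟨k, l, ?_, hk, hl, fun X hX => ?_⟩
  · rw [card_split fun p : Ω => Nat.card (stabilizer M p) = q ^ e, hk, hl]
    ring
  · have h := card_top hM hq hst hX
    rw [hk] at h
    have hN := (normalizer (X : Set M)).index_mul_card
    rw [hM] at hN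
    refine Nat.eq_of_mul_eq_mul_left (pow_pos (show 0 < 2 by norm_num) m) ?_
    calc 2 ^ m * (Nat.card {p : Ω // ∀ x ∈ X, x • p = p} * q ^ e)
        = Nat.card {p : Ω // ∀ x ∈ X, x • p = p} * (2 ^ m * q ^ e) := by ring
      _ = (normalizer (X : Set M)).index * Nat.card {p : Ω // ∀ x ∈ X, x • p = p} *
          Nat.card (normalizer (X : Set M)) := by rw [← hN]; ring
      _ = 2 ^ m * (k * Nat.card (normalizer (X : Set M))) := by rw [h]; ring

/-- A point stabiliser of index `q` in a Sylow `q`-subgroup and its fixed points. -/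
theorem exists_small_stabilizer (he : 2 ≤ e) {k l : ℕ} (hl0 : l ≠ 0) (hlq : l < q)
    (h1 : Nat.card {p : Ω // Nat.card (stabilizer M p) = q ^ e} = 2 ^ m * k)
    (h2 : Nat.card {p : Ω // ¬ Nat.card (stabilizer M p) = q ^ e} = 2 ^ m * q * l) :
    ∃ (D : Subgroup M) (v s c : ℕ), D ≠ ⊥ ∧ IsPGroup q D ∧ 1 ≤ c ∧ c ≤ l ∧
      Nat.card {p : Ω // ∀ x ∈ D, x • p = p} = 2 ^ v * (k * 2 ^ s + q * c) := by
  classical
  have hqp := (Fact.out : q.Prime)
  -- every remaining stabiliser has order `q ^ (e - 1)`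
  have hall : ∀ p : Ω, ¬ Nat.card (stabilizer M p) = q ^ e →
      Nat.card (stabilizer M p) = q ^ (e - 1) := by
    intro p hp
    obtain ⟨j, hj, hjc⟩ := exists_card_stabilizer hM hq hst p
    by_contra hne
    have hj2 : j + 2 ≤ e := by
      have h' : j ≠ e := fun h => hp (h ▸ hjc)
      have h'' : j ≠ e - 1 := fun h => hne (h ▸ hjc)
      omega
    have hd : 2 ^ m * q ^ 2 ∣ Nat.card {p : Ω // ∃ i, i + 2 ≤ e ∧ Nat.card (stabilizer M p) = q ^ i} := by
      refine dvd_card _ (fun g p ⟨i, hi, h⟩ => ⟨i, hi, by rwa [card_stabilizer_smul]⟩) _ ?_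
      rintro p' ⟨i, hi, h⟩
      rw [index_stabilizer_eq hM (show i ≤ e by omega) h]
      exact Nat.mul_dvd_mul_left _ (pow_dvd_pow q (show 2 ≤ e - i by omega))
    have hpos : 0 < Nat.card {p : Ω // ∃ i, i + 2 ≤ e ∧ Nat.card (stabilizer M p) = q ^ i} :=
      Nat.card_pos_iff.2 ⟨⟨⟨p, j, hj2, hjc⟩⟩, inferInstance⟩
    have hle : Nat.card {p : Ω // ∃ i, i + 2 ≤ e ∧ Nat.card (stabilizer M p) = q ^ i} ≤
        2 ^ m * q * l := by
      rw [← h2]
      refine Nat.card_le_card_of_injective (fun p => ⟨p.1, ?_⟩) fun a b h => Subtype.ext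
        (congrArg Subtype.val h :)
      obtain ⟨i, hi, h⟩ := p.2
      rw [h]
      intro h'
      have := Nat.pow_right_injective hqp.two_le h'
      omega
    have := (Nat.le_of_dvd hpos hd).trans hle
    have h3 : q * q ≤ q * l := by
      have : 2 ^ m * (q * q) ≤ 2 ^ m * (q * l) := by rw [← sq]; linarith
      exact Nat.le_of_mul_le_mul_left this (pow_pos (show 0 < 2 by norm_num) m)
    have := Nat.le_of_mul_le_mul_left h3 hqp.pos
    omega
  obtain ⟨p₀⟩ : Nonempty {p : Ω // ¬ Nat.card (stabilizer M p) = q ^ e} := by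
    refine (Nat.card_pos_iff.1 ?_).1
    rw [h2]
    exact Nat.mul_pos (Nat.mul_pos (pow_pos (by norm_num) m) hqp.pos) (Nat.pos_of_ne_zero hl0)
  set D := stabilizer M p₀.1 with hDdef
  have hDc : Nat.card D = q ^ (e - 1) := hall _ p₀.2
  set N := normalizer (D : Set M) with hN
  have hDN : D ≤ N := le_normalizer
  -- subgroups of order `q ^ e` over `D` normalise it
  have hover : ∀ Y : Subgroup M, D ≤ Y → Nat.card Y = q ^ e → Y ≤ N := by
    intro Y hle hY
    have hlt : D < Y := lt_of_le_of_ne hle fun h => by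
      rw [h] at hDc
      have := Nat.pow_right_injective hqp.two_le (hDc.symm.trans hY)
      omega
    have hlt' : D < normalizer (D : Set M) ⊓ Y :=
      CfsgLib.OddOrder.lt_normalizer_inf_of_lt (IsPGroup.of_card hY) hlt
    suffices normalizer (D : Set M) ⊓ Y = Y from this ▸ inf_le_left
    refine eq_of_le_of_card_ge inf_le_right ?_
    obtain ⟨i, hi⟩ := ((IsPGroup.of_card hY).to_le
      (inf_le_right : normalizer (D : Set M) ⊓ Y ≤ Y)).exists_card_eq
    rw [hi, hY]
    refine Nat.pow_le_pow_right hqp.pos ?_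
    by_contra hie
    have h1' : q ^ i ≤ Nat.card D := by rw [hDc]; exact Nat.pow_le_pow_right hqp.pos (by omega)
    exact absurd (eq_of_le_of_card_ge hlt'.le (hi ▸ h1')) hlt'.ne
  obtain ⟨P, hP⟩ := (IsPGroup.of_card hDc).exists_le_sylow
  have hPc : Nat.card (P : Subgroup M) = q ^ e := by
    obtain ⟨i, hi⟩ := P.isPGroup'.exists_card_eq
    have h' : q ^ e ∣ q ^ i := by
      rw [← hi]
      exact P.pow_dvd_card_of_pow_dvd_card (hM ▸ dvd_mul_left _ _)
    have h'' : q ^ i ∣ q ^ e := by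
      have hd : q ^ i ∣ 2 ^ m * q ^ e := hi ▸ hM ▸ card_subgroup_dvd_card _
      exact (((Nat.coprime_primes hqp Nat.prime_two).2 hq).pow i m).dvd_of_dvd_mul_left hd
    rw [hi, Nat.dvd_antisymm h'' h']
  have hPN : (P : Subgroup M) ≤ N := hover _ hP hPc
  -- the order of the normaliser
  obtain ⟨v, hv, hNc⟩ : ∃ v ≤ m, Nat.card N = 2 ^ v * q ^ e := by
    have hd : Nat.card N ∣ 2 ^ m * q ^ e := hM ▸ card_subgroup_dvd_card N
    obtain ⟨x, y, hx, hy, hxy⟩ := exists_dvd_and_dvd_of_dvd_mul hd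
    obtain ⟨v, hv, rfl⟩ := (Nat.dvd_prime_pow Nat.prime_two).1 hx
    have hd2 : q ^ e ∣ 2 ^ v * y := hxy ▸ hPc ▸ card_dvd_of_le hPN
    have : q ^ e ∣ y :=
      (((Nat.coprime_primes hqp Nat.prime_two).2 hq).pow e v).dvd_of_dvd_mul_left hd2
    exact ⟨v, hv, by rw [hxy, Nat.dvd_antisymm hy this]⟩
  have hstN : ∀ p : Ω, stabilizer N p = (stabilizer M p).subgroupOf N := fun p => rfl
  have hqN : ∀ p : Ω, IsPGroup q (stabilizer N p) := fun p => (hst p).comap_subtype
  let X : Subgroup N := (P : Subgroup M).subgroupOf N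
  have hXc : Nat.card X = q ^ e := by
    rw [Nat.card_congr (subgroupOfEquivOfLe hPN).toEquiv, hPc]
  have hiffN : ∀ p : Ω, Nat.card (stabilizer N p) = q ^ e ↔
      Nat.card (stabilizer M p) = q ^ e ∧ D ≤ stabilizer M p := by
    intro p
    constructor
    · intro h
      have hle : (stabilizer N p).map N.subtype ≤ stabilizer M p := by
        rintro _ ⟨x, hx, rfl⟩; exact hx
      have hc : Nat.card ((stabilizer N p).map N.subtype) = q ^ e := by
        rw [card_map_of_injective N.subtype_injective, h]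
      obtain ⟨j, hj, hjc⟩ := exists_card_stabilizer hM hq hst p
      have heq : (stabilizer N p).map N.subtype = stabilizer M p := eq_of_le_of_card_ge hle (by
        rw [hc, hjc]; exact Nat.pow_le_pow_right hqp.pos hj)
      refine ⟨heq ▸ hc, ?_⟩
      obtain ⟨g, hg⟩ := eq_of_card_eq (X := X) hXc hNc hq h
      haveI : (D.subgroupOf N).Normal := normal_in_normalizer
      have hDX : D.subgroupOf N ≤ stabilizer N p := by
        intro x hx
        rw [hg]
        exact ⟨g⁻¹ * x * g, hP (by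
          simpa [mem_subgroupOf] using (inferInstance : (D.subgroupOf N).Normal).conj_mem x hx g⁻¹),
          by simp [mul_assoc]⟩
      intro x hx
      exact hDX (show (⟨x, hDN hx⟩ : N) ∈ D.subgroupOf N from hx)
    · rintro ⟨h, hle⟩
      rw [hstN, Nat.card_congr (subgroupOfEquivOfLe (hover _ hle h)).toEquiv, h]
  obtain ⟨k', l', -, hk', -, hfixN⟩ := weights (M := N) (Ω := Ω) hNc hq hqN
  have hfixX := hfixN X hXc
  have hfixM := card_top hM hq hst hPc
  have heqfix : Nat.card {p : Ω // ∀ x ∈ X, x • p = p} =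
      Nat.card {p : Ω // ∀ x ∈ (P : Subgroup M), x • p = p} :=
    Nat.card_congr (Equiv.subtypeEquivRight fun p =>
      ⟨fun h x hx => h ⟨x, hPN hx⟩ hx, fun h x hx => h (x : M) hx⟩)
  -- `k' = k * 2 ^ s`
  obtain ⟨s, hs⟩ : ∃ s, k' = k * 2 ^ s := by
    set NX := (normalizer ((P : Subgroup M) : Set M)) with hNX
    have hle : (normalizer (X : Set N)).map N.subtype ≤ NX := by
      rintro _ ⟨g, hg, rfl⟩
      rw [hNX, mem_normalizer_iff]
      intro x
      constructor
      · intro hx
        exact (mem_normalizer_iff.1 hg ⟨x, hPN hx⟩).1 hx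
      · intro hx
        have hxN : x ∈ N := by
          have := N.mul_mem (N.mul_mem (N.inv_mem g.2) (hPN hx)) g.2
          simpa [mul_assoc] using this
        exact (mem_normalizer_iff.1 hg ⟨x, hxN⟩).2 hx
    have hc : Nat.card (normalizer (X : Set N)) ∣ Nat.card NX := by
      rw [← card_map_of_injective N.subtype_injective]; exact card_dvd_of_le hle
    obtain ⟨r, hr⟩ := hc
    have hrd : r ∣ 2 ^ m := by
      have hd : Nat.card (normalizer (X : Set N)) * r ∣ q ^ e * 2 ^ m :=
        hr ▸ (mul_comm (2 ^ m) (q ^ e)) ▸ hM ▸ card_subgroup_dvd_card NX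
      obtain ⟨t, ht⟩ := hXc ▸ card_dvd_of_le (le_normalizer : X ≤ normalizer (X : Set N))
      rw [ht, mul_assoc] at hd
      exact dvd_of_mul_left_dvd (Nat.dvd_of_mul_dvd_mul_left (pow_pos hqp.pos e) hd)
    obtain ⟨s, -, rfl⟩ := (Nat.dvd_prime_pow Nat.prime_two).1 hrd
    refine ⟨s, ?_⟩
    rw [h1] at hfixM
    have hMx := (normalizer ((P : Subgroup M) : Set M)).index_mul_card
    rw [hM, hr] at hMx
    rw [heqfix] at hfixX
    set A := Nat.card {p : Ω // ∀ x ∈ (P : Subgroup M), x • p = p}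
    set B := Nat.card (normalizer (X : Set N))
    set ι := (normalizer ((P : Subgroup M) : Set M)).index
    have hB : 0 < B := Nat.card_pos
    have h' : 2 ^ m * (k' * B) = 2 ^ m * (k * 2 ^ s * B) := by
      rw [← hfixX]
      calc 2 ^ m * (A * q ^ e) = A * (2 ^ m * q ^ e) := by ring
        _ = ι * A * (B * 2 ^ s) := by rw [← hMx]; ring
        _ = _ := by rw [hfixM]; ring
    exact Nat.eq_of_mul_eq_mul_right hB
      (Nat.eq_of_mul_eq_mul_left (pow_pos (show 0 < 2 by norm_num) m) h')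
  have hF1 : Nat.card {p : Ω // Nat.card (stabilizer M p) = q ^ e ∧ D ≤ stabilizer M p} =
      2 ^ v * (k * 2 ^ s) := by
    rw [← hs, ← hk']
    exact Nat.card_congr (Equiv.subtypeEquivRight fun p => (hiffN p).symm)
  -- the points with stabiliser `D`
  have hd2 : 2 ^ v * q ∣ Nat.card {p : Ω // stabilizer M p = D} := by
    refine dvd_card (M := N) _ (fun g p h => ?_) _ fun p h => ?_
    · show stabilizer M ((g : M) • p) = D
      rw [stabilizer_smul_eq_stabilizer_map_conj, h]
      exact mem_normalizer_iff_map_conj_eq.1 g.2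
    · have hc : Nat.card (stabilizer N p) = q ^ (e - 1) := by
        rw [hstN, h, Nat.card_congr (subgroupOfEquivOfLe hDN).toEquiv, hDc]
      rw [index_stabilizer_eq hNc (Nat.sub_le _ _) hc, show e - (e - 1) = 1 by omega, pow_one]
  obtain ⟨cc, hcc⟩ := hd2
  have hc1 : 1 ≤ cc := by
    by_contra h
    rw [show cc = 0 by omega, mul_zero] at hcc
    have : 0 < Nat.card {p : Ω // stabilizer M p = D} :=
      Nat.card_pos_iff.2 ⟨⟨⟨p₀.1, rfl⟩⟩, inferInstance⟩
    omega
  have hcl : cc ≤ l := by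
    have h := card_conj_stabilizer (Ω := Ω) D
    have hle : Nat.card {p : Ω // ∃ g : M, stabilizer M p = D.map (MulAut.conj g).toMonoidHom} ≤
        2 ^ m * q * l := by
      rw [← h2]
      refine Nat.card_le_card_of_injective (fun p => ⟨p.1, ?_⟩) fun a b h => Subtype.ext
        (congrArg Subtype.val h :)
      obtain ⟨g, hg⟩ := p.2
      rw [hg, card_map_of_injective (MulAut.conj g).injective, hDc]
      intro h'
      have := Nat.pow_right_injective hqp.two_le h'
      omega
    have hi := N.index_mul_card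
    rw [hM, hNc, ← mul_assoc] at hi
    have hi' : N.index * 2 ^ v = 2 ^ m := Nat.eq_of_mul_eq_mul_right (pow_pos hqp.pos e) hi
    rw [← h, hcc] at hle
    have : 2 ^ m * q * cc ≤ 2 ^ m * q * l := by
      calc 2 ^ m * q * cc = N.index * (2 ^ v * q * cc) := by rw [← hi']; ring
        _ ≤ _ := hle
    exact Nat.le_of_mul_le_mul_left this (Nat.mul_pos (pow_pos (by norm_num) m) hqp.pos)
  refine ⟨D, v, s, cc, fun h => ?_, IsPGroup.of_card hDc, hc1, hcl, ?_⟩
  · rw [h, card_bot] at hDc
    exact absurd hDc.symm (Nat.one_lt_pow (by omega) hqp.one_lt).ne'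
  have hsplit : Nat.card {p : Ω // ∀ x ∈ D, x • p = p} =
      Nat.card {p : Ω // Nat.card (stabilizer M p) = q ^ e ∧ D ≤ stabilizer M p} +
        Nat.card {p : Ω // stabilizer M p = D} := by
    rw [← Nat.card_sum]
    refine Nat.card_congr ((Equiv.sumCompl
      (fun p : {p : Ω // ∀ x ∈ D, x • p = p} => Nat.card (stabilizer M p.1) = q ^ e)).symm.trans
      (Equiv.sumCongr ?_ ?_))
    · exact
        { toFun := fun p => ⟨p.1.1, p.2, fun x hx => p.1.2 x hx⟩
          invFun := fun p => ⟨⟨p.1, fun x hx => p.2.2 hx⟩, p.2.1⟩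
          left_inv := fun p => rfl
          right_inv := fun p => rfl }
    · exact
        { toFun := fun p => ⟨p.1.1, (eq_of_le_of_card_ge (fun x hx => p.1.2 x hx)
            (by rw [hall _ p.2, hDc])).symm⟩
          invFun := fun p => ⟨⟨p.1, fun x hx => (by rw [← p.2] at hx; exact hx)⟩, fun h => by
            rw [p.2, hDc] at h
            have := Nat.pow_right_injective hqp.two_le h
            omega⟩
          left_inv := fun p => rfl
          right_inv := fun p => rfl }
  rw [hsplit, hF1, hcc]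
  ring

end Weights

namespace Ctx

variable {G : Type u} [Group G] [Finite G] (c : Ctx G)
include c

theorem index_sylow [Fact c.q.Prime] (Q : Sylow c.q G) :
    (Q : Subgroup G).index = 9 * 2 ^ c.a ∧ Nat.card (Q : Subgroup G) = c.q ^ c.b := by
  have hc : Nat.card (Q : Subgroup G) = c.q ^ c.b := by
    obtain ⟨i, hi⟩ := Q.isPGroup'.exists_card_eq
    have h' : c.q ^ c.b ∣ c.q ^ i := hi ▸ Q.pow_dvd_card_of_pow_dvd_card (c.card ▸ dvd_mul_left _ _)
    have h'' : c.q ^ i ∣ c.q ^ c.b := by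
      have hd : c.q ^ i ∣ 9 * 2 ^ c.a * c.q ^ c.b := hi ▸ c.card ▸ card_subgroup_dvd_card _
      refine Nat.Coprime.dvd_of_dvd_mul_left (Nat.Coprime.pow_left i ?_) hd
      exact Nat.Coprime.mul_right (show c.q.Coprime (3 ^ 2) from
        ((Nat.coprime_primes c.hq Nat.prime_three).2 c.hq3).pow_right 2)
        (((Nat.coprime_primes c.hq Nat.prime_two).2 c.hq2).pow_right c.a)
    rw [hi, Nat.dvd_antisymm h'' h']
  refine ⟨?_, hc⟩
  have := (Q : Subgroup G).index_mul_card
  rw [hc, c.card] at this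
  exact Nat.eq_of_mul_eq_mul_right (pow_pos c.hq.pos _) this

theorem stabilizer_isPGroup [Fact c.q.Prime] (Q : Sylow c.q G) (M : Subgroup G)
    (p : G ⧸ (Q : Subgroup G)) : IsPGroup c.q (stabilizer M p) := by
  obtain ⟨g, rfl⟩ := QuotientGroup.mk_surjective p
  refine IsPGroup.of_injective (Q.isPGroup')
    (ϕ := (((MulAut.conj g⁻¹).toMonoidHom.comp M.subtype).comp
      (stabilizer M (g : G ⧸ (Q : Subgroup G))).subtype).codRestrict _ fun x => ?_) ?_
  · have h : ((x : M) : G) • (g : G ⧸ (Q : Subgroup G)) = (g : G ⧸ (Q : Subgroup G)) := x.2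
    have := smul_eq_self_iff.1 h
    simpa [mul_assoc] using this
  · intro x y h
    have := congrArg Subtype.val h
    simpa using this

/-- The weights of a `{2,q}`-subgroup, with `k` the number of orbits of weight one. -/
theorem member_weights [IsSimpleGroup G] [Fact c.q.Prime] (Q : Sylow c.q G) {M : Subgroup G}
    {m e : ℕ} (hM : Nat.card M = 2 ^ m * c.q ^ e) (hma : m ≤ c.a) (he : 1 ≤ e) :
    ∃ k l : ℕ, k + c.q * l = 9 * 2 ^ (c.a - m) ∧
      (∃ i j, k ∣ 3 * 2 ^ i * c.q ^ j) ∧
      Nat.card {p : G ⧸ (Q : Subgroup G) // Nat.card (stabilizer M p) = c.q ^ e} = 2 ^ m * k ∧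
      (∀ X : Subgroup M, Nat.card X = c.q ^ e →
        Nat.card {p : G ⧸ (Q : Subgroup G) // ∀ x ∈ X, x • p = p} * c.q ^ e =
          k * Nat.card (normalizer (X : Set M))) ∧
      (2 ≤ e → l ≠ 0 → l < c.q → ∃ v s cc i j : ℕ, 1 ≤ cc ∧ cc ≤ l ∧
        2 ^ v * (k * 2 ^ s + c.q * cc) ∣ 3 * 2 ^ i * c.q ^ j) := by
  obtain ⟨k, l, htot, h1, h2, hfix⟩ :=
    Weights.weights (M := M) (Ω := G ⧸ (Q : Subgroup G)) hM c.hq2 (c.stabilizer_isPGroup Q M)
  have hdvd : ∀ X : Subgroup M, X ≠ ⊥ → IsPGroup c.q X →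
      ∃ i j, Nat.card {p : G ⧸ (Q : Subgroup G) // ∀ x ∈ X, x • p = p} ∣
        3 * 2 ^ i * c.q ^ j := by
    intro X hne hX
    obtain ⟨i, j, h⟩ := c.card_fixed_dvd Q (X.map M.subtype) (hX.map _) fun h =>
      hne ((map_eq_bot_iff_of_injective _ M.subtype_injective).1 h)
    refine ⟨i, j, ?_⟩
    convert h using 1
    refine Nat.card_congr (Equiv.subtypeEquivRight fun p => ⟨?_, fun h x hx => h _ ⟨x, hx, rfl⟩⟩)
    rintro h _ ⟨x, hx, rfl⟩
    exact h x hx
  refine ⟨k, l, ?_, ?_, h1, hfix, fun he2 hl0 hlq => ?_⟩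
  · rw [← index_eq_card, (c.index_sylow Q).1, ← pow_mul_pow_sub 2 hma] at htot
    refine Nat.eq_of_mul_eq_mul_left (pow_pos (show 0 < 2 by norm_num) m) ?_
    rw [← htot]
    ring
  · obtain ⟨P⟩ : Nonempty (Sylow c.q M) := inferInstance
    obtain ⟨i, hi⟩ := P.isPGroup'.exists_card_eq
    have hie : i = e := by
      have h' : c.q ^ e ∣ c.q ^ i := hi ▸ P.pow_dvd_card_of_pow_dvd_card (hM ▸ dvd_mul_left _ _)
      have h'' : c.q ^ i ∣ c.q ^ e := by
        have hd : c.q ^ i ∣ 2 ^ m * c.q ^ e := hi ▸ hM ▸ card_subgroup_dvd_card _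
        exact (((Nat.coprime_primes c.hq Nat.prime_two).2 c.hq2).pow i m).dvd_of_dvd_mul_left hd
      exact Nat.pow_right_injective c.hq.two_le (Nat.dvd_antisymm h'' h')
    subst hie
    have hPne : (P : Subgroup M) ≠ ⊥ := fun h => by
      rw [h, card_bot] at hi
      exact absurd hi.symm (Nat.one_lt_pow (by omega) c.hq.one_lt).ne'
    obtain ⟨i', j', hd⟩ := hdvd _ hPne P.isPGroup'
    have h' := hfix _ hi
    have hdN : c.q ^ i ∣ Nat.card (normalizer ((P : Subgroup M) : Set M)) :=
      hi ▸ card_dvd_of_le le_normalizer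
    obtain ⟨t, ht⟩ := hdN
    rw [ht, ← mul_assoc, mul_comm k (c.q ^ i), mul_comm _ (c.q ^ i), mul_assoc] at h'
    exact ⟨i', j', (Dvd.intro t (Nat.eq_of_mul_eq_mul_left (pow_pos c.hq.pos i) h').symm).trans hd⟩
  · obtain ⟨D, v, s, cc, hD, hDp, hc1, hcl, hcard⟩ := Weights.exists_small_stabilizer
      (M := M) (Ω := G ⧸ (Q : Subgroup G)) hM c.hq2 (c.stabilizer_isPGroup Q M) he2 hl0 hlq h1 h2
    obtain ⟨i, j, h⟩ := hdvd D hD hDp
    exact ⟨v, s, cc, i, j, hc1, hcl, hcard ▸ h⟩

omit c in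
/-- An odd number prime to `q` dividing `3 · 2 ^ i · q ^ j` is at most three. -/
theorem le_three_of_dvd {q x i j : ℕ} (hodd : x.Coprime 2) (hq : x.Coprime q)
    (h : x ∣ 3 * 2 ^ i * q ^ j) : x ≤ 3 :=
  Nat.le_of_dvd (by norm_num) ((hodd.pow_right i).dvd_of_dvd_mul_right
    ((hq.pow_right j).dvd_of_dvd_mul_right h))

/-- A subgroup with a full Sylow 2-subgroup has `q`-part at most `q`, and then `q ≤ 7`. -/
theorem full_weights [IsSimpleGroup G] [Fact c.q.Prime] {M : Subgroup G} {e : ℕ}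
    (hM : Nat.card M = 2 ^ c.a * c.q ^ e) :
    e ≤ 1 ∧ (e = 1 → ((c.q = 5 ∨ c.q = 7)) ∧ ∀ Q : Sylow c.q G, ∃ k : ℕ,
      2 ≤ k ∧ k + c.q = 9 ∧
      Nat.card {p : G ⧸ (Q : Subgroup G) // Nat.card (stabilizer M p) = c.q} = 2 ^ c.a * k ∧
      ∀ X : Subgroup M, Nat.card X = c.q →
        Nat.card {p : G ⧸ (Q : Subgroup G) // ∀ x ∈ X, x • p = p} * c.q =
          k * Nat.card (normalizer (X : Set M))) := by
  rcases Nat.eq_zero_or_pos e with he | he
  · exact ⟨by omega, fun h => absurd h (by omega)⟩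
  have key : ∀ Q : Sylow c.q G, ∃ k : ℕ, e = 1 ∧ ((c.q = 5 ∨ c.q = 7)) ∧ 2 ≤ k ∧ k + c.q = 9 ∧
      Nat.card {p : G ⧸ (Q : Subgroup G) // Nat.card (stabilizer M p) = c.q ^ e} = 2 ^ c.a * k ∧
      ∀ X : Subgroup M, Nat.card X = c.q ^ e →
        Nat.card {p : G ⧸ (Q : Subgroup G) // ∀ x ∈ X, x • p = p} * c.q ^ e =
          k * Nat.card (normalizer (X : Set M)) := by
    intro Q
    obtain ⟨k, l, hsum, ⟨i, j, hk⟩, h1, hfix, hsmall⟩ := c.member_weights Q hM le_rfl he
    rw [Nat.sub_self, pow_zero, mul_one] at hsum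
    have hl : l ≠ 0 := by
      rintro rfl
      rw [mul_zero, add_zero] at hsum
      subst hsum
      have h9 : (9 : ℕ) ≤ 3 := le_three_of_dvd (by norm_num)
        (((Nat.coprime_primes Nat.prime_three c.hq).2 (Ne.symm c.hq3)).pow_left 2) hk
      omega
    have h5 : 5 ≤ c.q := by
      have := c.hq.two_le
      rcases Nat.lt_or_ge c.q 5 with h | h
      · interval_cases hqq : c.q
        · exact absurd hqq c.hq2
        · exact absurd hqq c.hq3
        · exact absurd (hqq ▸ c.hq) (by norm_num)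
      · exact h
    have hl1 : l = 1 := by
      by_contra h
      have : 5 * 2 ≤ c.q * l := Nat.mul_le_mul h5 (by omega)
      omega
    subst hl1
    have h9 : c.q ≤ 9 := by omega
    have h57 : c.q = 5 ∨ c.q = 7 := by
      have hp := c.hq
      have hk1 : k ≠ 0 := by
        rintro rfl
        have : c.q = 9 := by omega
        rw [this] at hp
        norm_num at hp
      interval_cases hqq : c.q <;> first | omega | norm_num at hp
    refine ⟨k, ?_, h57, by omega, by omega, h1, hfix⟩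
    by_contra he1
    obtain ⟨v, s, cc, i', j', hc1, hcl, hd⟩ := hsmall (by omega) (by omega) (by omega)
    have hcc : cc = 1 := by omega
    subst hcc
    rw [mul_one] at hd
    have hk2 : 2 ∣ k := by rcases h57 with h | h <;> omega
    obtain ⟨r, rfl⟩ := hk2
    have hodd : (2 * r * 2 ^ s + c.q).Coprime 2 := by
      rw [Nat.coprime_comm, Nat.prime_two.coprime_iff_not_dvd,
        ← Nat.dvd_add_iff_right ⟨r * 2 ^ s, by ring⟩]
      rcases h57 with h | h <;> omega
    have hcop : (2 * r * 2 ^ s + c.q).Coprime c.q := by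
      rw [Nat.coprime_add_self_left, Nat.coprime_comm, c.hq.coprime_iff_not_dvd]
      intro h
      rcases c.hq.dvd_mul.1 h with h' | h'
      · have := Nat.le_of_dvd (by omega) h'
        omega
      · exact c.hq2 ((Nat.prime_dvd_prime_iff_eq c.hq Nat.prime_two).1 (c.hq.dvd_of_dvd_pow h'))
    have := le_three_of_dvd hodd hcop (dvd_of_mul_left_dvd hd)
    omega
  refine ⟨?_, fun he1 => ⟨?_, fun Q => ?_⟩⟩
  · obtain ⟨k, h, -⟩ := key default
    omega
  · obtain ⟨k, -, h, -⟩ := key default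
    exact h
  · obtain ⟨k, -, -, hk2, hk, h1, hfix⟩ := key Q
    subst he1
    rw [pow_one] at h1 hfix
    exact ⟨k, hk2, hk, h1, hfix⟩

/-- For `q = 7` a subgroup with a Sylow 2-subgroup of index two has `q`-part at most `q`. -/
theorem near_weights [IsSimpleGroup G] [Fact c.q.Prime] (hq7 : c.q = 7) {M : Subgroup G} {e : ℕ}
    (ha : 1 ≤ c.a) (hM : Nat.card M = 2 ^ (c.a - 1) * c.q ^ e) : e ≤ 1 := by
  by_contra he
  obtain ⟨k, l, hsum, ⟨i, j, hk⟩, h1, hfix, hsmall⟩ :=
    c.member_weights (default : Sylow c.q G) hM (Nat.sub_le _ _) (by omega)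
  rw [hq7, show c.a - (c.a - 1) = 1 by omega, pow_one] at hsum
  rw [hq7] at hk hsmall
  have hl : l ≤ 2 := by omega
  interval_cases l
  · obtain rfl : k = 18 := by omega
    have := le_three_of_dvd (x := 9) (q := 7) (by norm_num) (by norm_num)
      ((show (9 : ℕ) ∣ 18 by norm_num).trans hk)
    omega
  · obtain rfl : k = 11 := by omega
    have := le_three_of_dvd (x := 11) (q := 7) (by norm_num) (by norm_num) hk
    omega
  · obtain rfl : k = 4 := by omega
    obtain ⟨v, s, cc, i', j', hc1, hcl, hd⟩ := hsmall (by omega) (by omega) (by omega)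
    have hd' := dvd_of_mul_left_dvd hd
    have hs7 : ∀ n : ℕ, ¬ 7 ∣ 2 ^ n := fun n h => by
      have := (Nat.prime_dvd_prime_iff_eq (by norm_num) Nat.prime_two).1
        ((show Nat.Prime 7 by norm_num).dvd_of_dvd_pow h)
      omega
    interval_cases cc
    · have := le_three_of_dvd (x := 4 * 2 ^ s + 7) (q := 7)
        (by rw [Nat.coprime_comm, Nat.prime_two.coprime_iff_not_dvd]; omega)
        (by
          rw [Nat.coprime_add_self_left, Nat.coprime_comm,
            (show Nat.Prime 7 by norm_num).coprime_iff_not_dvd,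
            show 4 * 2 ^ s = 2 ^ (s + 2) by ring]
          exact hs7 _) (by simpa using hd')
      omega
    · have := le_three_of_dvd (x := 2 * 2 ^ s + 7) (q := 7)
        (by rw [Nat.coprime_comm, Nat.prime_two.coprime_iff_not_dvd]; omega)
        (by
          rw [Nat.coprime_add_self_left, Nat.coprime_comm,
            (show Nat.Prime 7 by norm_num).coprime_iff_not_dvd,
            show 2 * 2 ^ s = 2 ^ (s + 1) by ring]
          exact hs7 _) (Dvd.dvd.trans ⟨2, by ring⟩ hd')
      omega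

end Ctx

end CfsgLib.NineTwoQSelf
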